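import Cfsg.Agent.Lib.Fusion.System.RankThree.Over

/-!
# A characteristic quotient of a normal `p`-subgroup and its extendable automorphisms

The data `Over` of `G` inside `R` descends to `G ⧸ K` inside `R ⧸ K` for a characteristic subgroup
`K` of `G` contained in `E`.
-/

set_option autoImplicit false
set_option linter.style.haveILetI false
set_option linter.unusedSectionVars false

open Subgroup
open scoped commutatorElement

namespace CfsgLib.Fusion.RankThree

universe u v

section Quot

variable {G : Type u} [Group G] (K : Subgroup G) [K.Characteristic]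

/-- The action of an automorphism on a characteristic quotient. -/
def quotAut : MulAut G →* MulAut (G ⧸ K) :=
  MonoidHom.mk' (fun σ => QuotientGroup.congr K K σ (characteristic_iff_map_eq.1 inferInstance σ))
    fun _ _ => MulEquiv.ext fun v => by
      obtain ⟨a, rfl⟩ := QuotientGroup.mk_surjective v
      rfl

theorem quotAut_mk (σ : MulAut G) (y : G) : quotAut K σ (QuotientGroup.mk' K y) = QuotientGroup.mk' K (σ y) :=
  rfl

end Quot

/-- A quotient has no larger sectional rank. -/
theorem sectional_quotient {G : Type u} [Group G] {p k : ℕ} (h : Cfsg.SectionalPRankLE p k G)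
    (K : Subgroup G) [K.Normal] : Cfsg.SectionalPRankLE p k (G ⧸ K) := by
  intro H N hN A hA hAe
  set H0 : Subgroup G := H.comap (QuotientGroup.mk' K) with hH0
  let q : H0 →* H := (QuotientGroup.mk' K).subgroupComap H
  let φ : H0 →* H ⧸ N := (QuotientGroup.mk' N).comp q
  have hφ : Function.Surjective φ := (QuotientGroup.mk'_surjective N).comp
    (MonoidHom.subgroupComap_surjective_of_surjective _ H (QuotientGroup.mk'_surjective K))
  let e := QuotientGroup.quotientKerEquivOfSurjective φ hφ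
  have h1 := h H0 φ.ker (A.map e.symm.toMonoidHom) ⟨⟨fun a b => by
    obtain ⟨a, x, hx, rfl⟩ := a
    obtain ⟨b, y, hy, rfl⟩ := b
    refine Subtype.ext ?_
    show e.symm x * e.symm y = e.symm y * e.symm x
    rw [← map_mul, ← map_mul]
    exact congrArg e.symm (congrArg Subtype.val (hA.is_comm.comm (⟨x, hx⟩ : A) ⟨y, hy⟩))⟩⟩ (by
    rintro _ ⟨x, hx, rfl⟩
    show e.symm x ^ p = 1
    rw [← map_pow, hAe x hx, map_one])
  rwa [card_map_of_injective e.symm.injective] at h1

variable {G : Type u} [Group G] [Finite G] {R : Type v} [Group R] [Finite R] {p : ℕ} [Fact p.Prime]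
  {E : Subgroup G} {Γ : Subgroup (MulAut G)} {ι : G →* R} {c : R →* MulAut G}

/-- The quotient by a characteristic subgroup contained in `E`. -/
theorem Over.quotient (h : Over p E Γ ι c) (K : Subgroup G) [K.Characteristic] (hKE : K ≤ E) :
    ∃ (R' : Type v) (_ : Group R') (_ : Finite R') (ι' : G ⧸ K →* R') (c' : R' →* MulAut (G ⧸ K)),
      Over p (E.map (QuotientGroup.mk' K)) (Γ.map (quotAut K)) ι' c' := by
  haveI hM : (K.map ι).Normal := h.map_normal fun r y hy =>
    characteristic_iff_map_le.1 (inferInstance : K.Characteristic) (c r) ⟨y, hy, rfl⟩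
  haveI : Finite (MulAut G) := Finite.of_injective (fun a : MulAut G => (a : G → G)) DFunLike.coe_injective
  set π := QuotientGroup.mk' K with hπ
  let ι' : G ⧸ K →* R ⧸ K.map ι := QuotientGroup.map K (K.map ι) ι (le_comap_map ι K)
  have hι' : ∀ y, ι' (π y) = QuotientGroup.mk' (K.map ι) (ι y) := fun y => rfl
  have hker : ∀ r ∈ K.map ι, quotAut K (c r) = 1 := by
    rintro _ ⟨k, hk, rfl⟩
    refine MulEquiv.ext fun v => ?_
    obtain ⟨y, rfl⟩ := QuotientGroup.mk'_surjective K v
    have h1 : π k = 1 := (QuotientGroup.eq_one_iff k).2 hk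
    rw [quotAut_mk, h.c_self, ← hπ, map_mul, map_mul, map_inv, h1, one_mul, inv_one, mul_one]
    rfl
  let c' : R ⧸ K.map ι →* MulAut (G ⧸ K) := QuotientGroup.lift (K.map ι) ((quotAut K).comp c) hker
  have hc' : ∀ r y, c' (QuotientGroup.mk' (K.map ι) r) (π y) = π (c r y) := fun r y => rfl
  have hrange : c'.range = c.range.map (quotAut K) := by
    ext a
    constructor
    · rintro ⟨r, rfl⟩
      obtain ⟨r, rfl⟩ := QuotientGroup.mk'_surjective _ r
      exact ⟨c r, ⟨r, rfl⟩, rfl⟩
    · rintro ⟨_, ⟨r, rfl⟩, rfl⟩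
      exact ⟨QuotientGroup.mk' _ r, rfl⟩
  refine ⟨R ⧸ K.map ι, inferInstance, inferInstance, ι', c', ?_, h.pgroup.to_quotient _,
    sectional_quotient h.rank _, ?_, ?_, ?_, ?_, ?_, ?_⟩
  · refine (injective_iff_map_eq_one ι').2 fun v hv => ?_
    obtain ⟨y, rfl⟩ := QuotientGroup.mk'_surjective K v
    rw [hι'] at hv
    obtain ⟨k, hk, hky⟩ := (QuotientGroup.eq_one_iff _).1 hv
    exact (QuotientGroup.eq_one_iff y).2 (h.inj hky ▸ hk)
  · intro r v
    obtain ⟨r, rfl⟩ := QuotientGroup.mk'_surjective _ r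
    obtain ⟨y, rfl⟩ := QuotientGroup.mk'_surjective K v
    rw [hc', hι', hι', h.spec, map_mul, map_mul, map_inv]
  · intro r hr
    obtain ⟨r, rfl⟩ := QuotientGroup.mk'_surjective _ r
    obtain ⟨y, rfl⟩ := h.moves r fun e he => by
      obtain ⟨e', he', hee⟩ := hr (π e) (mem_map_of_mem π he)
      rw [hc'] at hee
      have := mul_mem he' (hKE (QuotientGroup.eq.1 hee))
      rwa [mul_inv_cancel_left] at this
    exact ⟨π y, hι' y⟩
  · obtain ⟨r, hr⟩ := h.proper
    refine ⟨QuotientGroup.mk' _ r, ?_⟩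
    rintro ⟨v, hv⟩
    obtain ⟨y, rfl⟩ := QuotientGroup.mk'_surjective K v
    rw [hι'] at hv
    have := mul_mem (⟨y, rfl⟩ : ι y ∈ ι.range) (map_le_range ι K (QuotientGroup.eq.1 hv))
    rw [mul_inv_cancel_left] at this
    exact hr this
  · rw [hrange]; exact map_mono h.qle
  · rw [hrange]
    intro hd
    refine h.sylow (hd.trans ?_)
    set f := quotAut K
    have hsurj := f.subgroupMap_surjective Γ
    have e : (c.range.subgroupOf Γ).map (f.subgroupMap Γ) = (c.range.map f).subgroupOf (Γ.map f) := by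
      ext y
      simp only [mem_map, mem_subgroupOf]
      constructor
      · rintro ⟨x, hxQ, rfl⟩; exact ⟨x, hxQ, rfl⟩
      · rintro ⟨q, hq, hqy⟩; exact ⟨⟨q, h.qle hq⟩, hq, Subtype.ext hqy⟩
    show ((c.range.map f).subgroupOf (Γ.map f)).index ∣ (c.range.subgroupOf Γ).index
    rw [← e]
    exact index_map_dvd _ hsurj
  · intro γ' hγ' hn
    obtain ⟨γ, hγ, rfl⟩ := hγ'
    set M := Γ ⊓ c'.range.comap (quotAut K) with hMdef
    have hQM : c.range ≤ M := le_inf h.qle fun a ha => by
      show quotAut K a ∈ c'.range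
      rw [hrange]
      exact mem_map_of_mem _ ha
    have hQp : IsPGroup p c.range := by
      rw [MonoidHom.range_eq_map]; exact (h.pgroup.to_subgroup ⊤).map _
    obtain ⟨m, hm, hmn⟩ := CfsgLib.FourFree.frattini_rel (C := M) (S := c.range)
      (L := Γ ⊓ (normalizer (c'.range : Set (MulAut (G ⧸ K)))).comap (quotAut K)) hQp hQM
      (fun hd => h.sylow (hd.trans (Dvd.intro _ (relIndex_mul_relIndex c.range M Γ hQM inf_le_left))))
      (fun g hg x hx => ⟨Γ.mul_mem (Γ.mul_mem hg.1 hx.1) (Γ.inv_mem hg.1), by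
        show quotAut K (g * x * g⁻¹) ∈ c'.range
        rw [map_mul, map_mul, map_inv]
        exact (mem_normalizer_iff.1 hg.2 _).1 hx.2⟩) (g := γ) ⟨hγ, hn⟩
    obtain ⟨δ, hδ⟩ := h.ext _ (mul_mem hm.1 hγ) hmn
    have hδK : (K.map ι).map δ.toMonoidHom = K.map ι := by
      rw [Subgroup.map_map]
      conv_rhs => rw [← characteristic_iff_map_eq.1 (inferInstance : K.Characteristic) (m * γ), Subgroup.map_map]
      congr 1
      exact MonoidHom.ext fun y => hδ y
    let δ' : MulAut (R ⧸ K.map ι) := QuotientGroup.congr _ _ δ hδK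
    obtain ⟨r, hr⟩ := hm.2
    refine ⟨(MulAut.conj r)⁻¹ * δ', fun v => ?_⟩
    obtain ⟨y, rfl⟩ := QuotientGroup.mk'_surjective K v
    rw [MulAut.mul_apply, quotAut_mk, ← hπ]
    have h1 : δ' (ι' (π y)) = ι' (π ((m * γ) y)) := congrArg (QuotientGroup.mk' _) (hδ y)
    rw [h1, MulAut.inv_apply, MulEquiv.symm_apply_eq, MulAut.conj_apply]
    obtain ⟨r, rfl⟩ := QuotientGroup.mk'_surjective _ r
    rw [hι', hι', ← map_inv, ← map_mul, ← map_mul, ← h.spec, ← hι', ← hι']
    congr 1
    rw [MulAut.mul_apply, ← quotAut_mk K m, ← hr]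
    exact (hc' r (γ y))

end CfsgLib.Fusion.RankThree
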