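import Cfsg.Agent.Lib.Fusion.System.RankThree.HeisEscape
import Cfsg.Agent.Lib.Fusion.System.RankThree.OverQuotient

/-!
# A transvection essential subgroup of rank three is normal

Modulo the subgroup generated by the `p`-th powers and the third term of the lower central series
the group is of order `p⁴`, exponent `p` and class two.
-/

set_option autoImplicit false
set_option linter.style.haveILetI false
set_option linter.unusedSectionVars false

open Subgroup
open scoped commutatorElement

namespace CfsgLib.Fusion.RankThree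

universe u v

variable {G : Type u} [Group G] [Finite G] {R : Type v} [Group R] [Finite R] {p : ℕ} [Fact p.Prime]
  {E : Subgroup G} [E.Normal] {X : Subgroup (MulAut E)} {Γ : Subgroup (MulAut G)}
  {ι : G →* R} {c : R →* MulAut G}

theorem Top.card_map_quotient {K : Subgroup G} [K.Normal] (hKE : K ≤ E) :
    Nat.card E = Nat.card (E.map (QuotientGroup.mk' K)) * Nat.card K := by
  have e1 := Subgroup.relIndex_mul_relIndex ⊥ K E bot_le hKE
  rw [relIndex_bot_left, relIndex_bot_left] at e1
  rw [← e1, mul_comm]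
  congr 1
  rw [← Subgroup.relIndex_ker]
  congr 1
  exact (QuotientGroup.ker_mk' K).symm

theorem Over.false_of_tdata (hO : Over p E Γ ι c) (hTop : Top p E X Γ) {β : MulAut G} (hβ : β ∈ Γ)
    {x e f : G} {a b : ℤ} (hD : TData p E β x e f a b)
    (hcard : Nat.card E = p ^ 3 * Nat.card (frn E)) (hab : ((a * b : ℤ) : ZMod p) = 1)
    (hb2 : (b : ZMod p) ^ 2 ≠ 1) (hb3 : (b : ZMod p) ^ 3 ≠ 1) (hb5 : (b : ZMod p) ^ 5 ≠ 1) : False := by
  set K := kc p G 2 with hK
  have hN : frn E = K := hD.frn_eq
  have hKE : K ≤ E := hN ▸ frn_le E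
  obtain ⟨R', _, _, ι', c', hO'⟩ := hO.quotient K hKE
  set σ := QuotientGroup.mk' K with hσ
  haveI : (E.map σ).Normal := (inferInstance : E.Normal).map σ (QuotientGroup.mk'_surjective K)
  have hσ1 : ∀ {r : G}, r ∈ K → σ r = 1 := fun hr => (QuotientGroup.eq_one_iff _).2 hr
  have hσeq : ∀ {r s : G}, r⁻¹ * s ∈ K → σ r = σ s := fun hrs => QuotientGroup.eq.2 hrs
  have hmem : ∀ {r : G}, σ r ∈ E.map σ → r ∈ E := fun {r} hr => by
    obtain ⟨t, ht, htr⟩ := hr
    have h1 := mul_mem ht (hKE (QuotientGroup.eq.1 htr))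
    rwa [mul_inv_cancel_left] at h1
  have hw : ⁅σ x, σ e⁆ = σ ⁅x, e⁆ := (map_commutatorElement σ x e).symm
  have hwE : ⁅x, e⁆ ∈ E := by
    rw [commutatorElement_def]
    exact mul_mem ((inferInstance : E.Normal).conj_mem e hD.emem x) (inv_mem hD.emem)
  have hcomσ : ∀ {r s : G}, ⁅r, s⁆ ∈ K → Commute (σ r) (σ s) := fun hrs => by
    rw [commute_iff_eq, ← commutatorElement_eq_one_iff_mul_comm, ← map_commutatorElement]
    exact hσ1 hrs
  have hcE : Nat.card (E.map σ) = p ^ 3 := by
    have h1 := Top.card_map_quotient hKE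
    rw [hcard, hN] at h1
    exact (Nat.eq_of_mul_eq_mul_right Nat.card_pos h1).symm
  have hH : HData p (E.map σ) (σ x) (σ e) (σ f) :=
    { exp := fun y => by
        obtain ⟨g, rfl⟩ := QuotientGroup.mk'_surjective _ y
        rw [← map_pow]; exact hσ1 (pow_mem_kc 2 g)
      cardE := hcE
      index := by
        refine Nat.eq_of_mul_eq_mul_right (Nat.card_pos (α := K)) ?_
        rw [← card_eq_card_quotient_mul_card_subgroup K, hTop.index, mul_assoc, hσ, ← Top.card_map_quotient hKE]
      cc := fun y z => by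
        obtain ⟨g, rfl⟩ := QuotientGroup.mk'_surjective _ y
        obtain ⟨k, rfl⟩ := QuotientGroup.mk'_surjective _ z
        rw [← map_commutatorElement, mem_center_iff]
        intro w
        obtain ⟨w, rfl⟩ := QuotientGroup.mk'_surjective _ w
        refine (commutatorElement_eq_one_iff_mul_comm.1 ?_).symm
        rw [← map_commutatorElement]
        refine hσ1 (lcs_le_kc 2 ?_)
        rw [Subgroup.lowerCentralSeries_succ, Subgroup.top_lowerCentralSeries_one]
        exact commutator_mem_commutator (commutator_mem_commutator (mem_top g) (mem_top k)) (mem_top w)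
      xmem := fun h => hD.xmem (hmem h)
      emem := mem_map_of_mem σ hD.emem
      fmem := mem_map_of_mem σ hD.fmem
      wmem := hw ▸ mem_map_of_mem σ hwE
      wne := fun h => hD.wne (hN ▸ (QuotientGroup.eq_one_iff _).1 (show σ ⁅x, e⁆ = 1 from hw ▸ h))
      ef := hcomσ (hN ▸ hTop.comm_frn hD.emem hD.fmem)
      xf := hcomσ (hN ▸ hD.fx)
      gen := by
        rintro _ ⟨r, hr, rfl⟩
        obtain ⟨i, j, l, hijl⟩ := hD.gen r hr
        exact ⟨i, j, l, by
          rw [hw, ← map_zpow, ← map_zpow, ← map_zpow, ← map_mul, ← map_mul]; exact hσeq (hN ▸ hijl)⟩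
      decomp := fun y => by
        obtain ⟨g, rfl⟩ := QuotientGroup.mk'_surjective _ y
        obtain ⟨A, r, hr, rfl⟩ := hTop.decomp hD.xmem g
        exact ⟨A, σ r, mem_map_of_mem σ hr, by rw [map_mul, map_zpow]⟩ }
  refine hO'.false_of_hdata hH hTop.five (mem_map_of_mem (quotAut K) hβ) hab hb2 hb3 hb5 ?_ ?_ ?_ ?_
  · rw [quotAut_mk, ← map_zpow, ← map_inv, ← map_mul]
    exact mem_map_of_mem σ hD.wtx
  · rw [quotAut_mk, ← map_zpow]
    exact (hσeq (hN ▸ hD.wte)).symm
  · rw [hw, quotAut_mk, ← map_zpow]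
    exact (hσeq (hN ▸ hD.wtw)).symm
  · rw [quotAut_mk]
    exact (hσeq (hN ▸ hD.wtf)).symm

end CfsgLib.Fusion.RankThree
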