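import Cfsg.Agent.Lib.Fusion.System.RankThree.Top
import Cfsg.Agent.Lib.Fusion.System.LineTorus
import Cfsg.Agent.Lib.FourFree.Basics

/-!
# A normal `p`-subgroup and the automorphisms that extend

`G` is embedded as a normal subgroup of the `p`-group `R`, no element outside it normalizes `E`,
and the automorphisms in `Γ` normalizing the image of `R` extend to `R`.
-/

set_option autoImplicit false
set_option linter.style.haveILetI false
set_option linter.unusedSectionVars false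

open Subgroup
open scoped commutatorElement

namespace CfsgLib.Fusion.RankThree

open CfsgLib.Fusion.LineTorus (Sec pGen pGen_le pGen_fix le_pGen pGen_conj)

universe u v

/-- `R` over `G`. -/
structure Over (p : ℕ) {G : Type u} [Group G] {R : Type v} [Group R] (E : Subgroup G)
    (Γ : Subgroup (MulAut G)) (ι : G →* R) (c : R →* MulAut G) : Prop where
  inj : Function.Injective ι
  pgroup : IsPGroup p R
  rank : Cfsg.SectionalPRankLE p 3 R
  spec : ∀ (r : R) (y : G), ι (c r y) = r * ι y * r⁻¹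
  moves : ∀ r, (∀ e ∈ E, c r e ∈ E) → r ∈ ι.range
  proper : ∃ r, r ∉ ι.range
  qle : c.range ≤ Γ
  sylow : ¬ p ∣ c.range.relIndex Γ
  ext : ∀ γ ∈ Γ, γ ∈ normalizer (c.range : Set (MulAut G)) → ∃ δ : MulAut R, ∀ y, δ (ι y) = ι (γ y)

variable {G : Type u} [Group G] [Finite G] {R : Type v} [Group R] [Finite R] {p : ℕ} [Fact p.Prime]
  {E : Subgroup G} {Γ : Subgroup (MulAut G)} {ι : G →* R} {c : R →* MulAut G}
  (h : Over p E Γ ι c)
include h

theorem Over.range_normal : ι.range.Normal := ⟨by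
  rintro _ ⟨y, rfl⟩ r
  exact ⟨c r y, h.spec r y⟩⟩

theorem Over.map_normal {K : Subgroup G} (hK : ∀ r, ∀ y ∈ K, c r y ∈ K) : (K.map ι).Normal := ⟨by
  rintro _ ⟨y, hy, rfl⟩ r
  exact ⟨c r y, hK r y hy, h.spec r y⟩⟩

theorem Over.c_self (a y : G) : c (ι a) y = a * y * a⁻¹ := h.inj (by
  rw [h.spec, map_mul, map_mul, map_inv])

/-- The line of the moved element modulo an invariant subgroup of index `p ^ 2`. -/
theorem Over.exists_line (hEn : E.Normal) {Z : Subgroup G} (hZE : Z ≤ E)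
    (hZ : ∀ r, ∀ y ∈ Z, c r y ∈ Z) (hcard : Nat.card G = p * p * Nat.card Z) {e : G} (he : e ∈ E)
    (hgen : ∀ y ∈ E, ∃ k : ℤ, (e ^ k)⁻¹ * y ∈ Z) :
    ∃ g : R, g ∉ ι.range ∧ c g e * e⁻¹ ∉ E ∧ ∃ D : Subgroup G, c g e * e⁻¹ ∈ D ∧ Z ≤ D ∧
      Nat.card D = p * Nat.card Z ∧ (∀ r, ∀ y ∈ D, c r y ∈ D) ∧
      (∀ r, ∀ y ∈ D, y⁻¹ * c r y ∈ Z) ∧ (∀ r y, y⁻¹ * c r y ∈ D) ∧
      (∀ r, ∃ i : ℤ, (g ^ i)⁻¹ * r ∈ ι.range) ∧ g ^ p ∈ ι.range := by
  have hp := (Fact.out : p.Prime)
  haveI := h.range_normal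
  obtain ⟨g, hg⟩ := h.proper
  have hmove : ∀ r : R, c r e ∈ E → r ∈ ι.range := fun r hr => h.moves r fun y hy => by
    obtain ⟨k, hk⟩ := hgen y hy
    have h1 := mul_mem (zpow_mem hr k) (hZE (hZ r _ hk))
    rwa [← map_zpow, ← map_mul, mul_inv_cancel_left] at h1
  set x := c g e * e⁻¹ with hx
  have hxE : x ∉ E := fun hxE => hg (hmove g (by
    have := mul_mem hxE he
    rwa [hx, inv_mul_cancel_right] at this))
  set A := ι.range with hA
  set B := Z.map ι with hB
  haveI hBn : B.Normal := h.map_normal hZ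
  set C := B ⊔ ⁅A, (⊤ : Subgroup R)⁆ with hC
  have hcA : Nat.card A = Nat.card G := (Nat.card_congr (MonoidHom.ofInjective h.inj).toEquiv).symm
  have hcB : Nat.card B = Nat.card Z := card_map_of_injective h.inj
  have hBA : B ≤ A := map_le_range ι Z
  have hCA : C ≤ A := sup_le hBA (commutator_le_left A ⊤)
  have hCne : C ≠ A := fun e' => by
    have := Subgroup.card_le_of_le (le_of_le_sup_commutator h.pgroup (e'.ge : A ≤ C))
    rw [hcA, hcB, hcard] at this
    have h2 : 4 ≤ p * p := Nat.mul_le_mul hp.two_le hp.two_le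
    have h3 : 0 < Nat.card Z := Nat.card_pos
    nlinarith
  set D := C.comap ι with hD
  have hy : ∀ r y, y⁻¹ * c r y ∈ D := fun r y => by
    show ι (y⁻¹ * c r y) ∈ C
    rw [map_mul, map_inv, h.spec,
      show (ι y)⁻¹ * (r * ι y * r⁻¹) = ⁅(ι y)⁻¹, r⁆ by simp only [commutatorElement_def]; group]
    exact mem_sup_right (commutator_mem_commutator (inv_mem ⟨y, rfl⟩) (mem_top r))
  have hZD : Z ≤ D := fun y hy => mem_sup_left (mem_map_of_mem ι hy)
  have hDmap : D.map ι = C := map_comap_eq_self hCA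
  have hcD : Nat.card D = Nat.card C := by rw [← hDmap, card_map_of_injective h.inj]
  have hCn : C.Normal := inferInstance
  have hxD : x ∈ D := by
    show ι (c g e * e⁻¹) ∈ C
    rw [map_mul, map_inv, h.spec, show g * ι e * g⁻¹ * (ι e)⁻¹ = ⁅g, ι e⁆ by rw [commutatorElement_def],
      ← commutatorElement_inv]
    exact inv_mem (mem_sup_right (commutator_mem_commutator ⟨e, rfl⟩ (mem_top g)))
  have hDc : Nat.card D = p * Nat.card Z := by
    refine le_antisymm ?_ ?_
    · have h1 := CfsgLib.MaxClassCube.mul_card_le h.pgroup (lt_of_le_of_ne hCA hCne)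
      rw [hcA, hcard, ← hcD, mul_assoc] at h1
      exact Nat.le_of_mul_le_mul_left h1 hp.pos
    · refine le_trans (le_of_eq ?_) (CfsgLib.MaxClassCube.mul_card_le h.pgroup (A := B) (B := C)
        (lt_of_le_of_ne le_sup_left fun e' => hxE (hZE ?_))) |>.trans_eq hcD.symm
      · rw [hcB]
      · have : ι x ∈ B := e'.ge hxD
        obtain ⟨z, hz, hzx⟩ := this
        exact h.inj hzx ▸ hz
  have hinvD : ∀ r, ∀ y ∈ D, c r y ∈ D := fun r y hy' => by
    have := mul_mem hy' (hy r y)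
    rwa [mul_inv_cancel_left] at this
  have hfix : ∀ r, ∀ y ∈ D, y⁻¹ * c r y ∈ Z := by
    intro r y hy'
    have hC2 : B ⊔ ⁅C, (⊤ : Subgroup R)⁆ ≤ B := by
      have hle : B ⊔ ⁅C, (⊤ : Subgroup R)⁆ ≤ C := sup_le le_sup_left (commutator_le_left C ⊤)
      have hne : B ⊔ ⁅C, (⊤ : Subgroup R)⁆ ≠ C := fun e' => by
        have := Subgroup.card_le_of_le (le_of_le_sup_commutator h.pgroup (e'.ge : C ≤ _))
        rw [← hcD, hDc, hcB] at this
        have h3 : 0 < Nat.card Z := Nat.card_pos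
        have := hp.two_le
        nlinarith
      refine (eq_of_le_of_card_ge le_sup_left ?_).ge
      have h1 := CfsgLib.MaxClassCube.mul_card_le h.pgroup (lt_of_le_of_ne hle hne)
      rw [← hcD, hDc] at h1
      rw [hcB]
      exact Nat.le_of_mul_le_mul_left h1 hp.pos
    have h1 : ι (y⁻¹ * c r y) ∈ B := by
      refine hC2 ?_
      rw [map_mul, map_inv, h.spec,
        show (ι y)⁻¹ * (r * ι y * r⁻¹) = ⁅(ι y)⁻¹, r⁆ by simp only [commutatorElement_def]; group]
      exact mem_sup_right (commutator_mem_commutator (inv_mem hy') (mem_top r))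
    obtain ⟨z, hz, hzy⟩ := h1
    exact h.inj hzy ▸ hz
  haveI hZn : Z.Normal := ⟨fun z hz a => h.c_self a z ▸ hZ _ z hz⟩
  set π := QuotientGroup.mk' Z with hπ
  have hπc : ∀ r {y y' : G}, π y = π y' → π (c r y) = π (c r y') := fun r {y y'} hyy => by
    refine QuotientGroup.eq.2 ?_
    rw [← map_inv, ← map_mul]
    exact hZ r _ (QuotientGroup.eq.1 hyy)
  have hgx : π (c g x) = π x := (QuotientGroup.eq.2 (hfix g x hxD)).symm
  have hge : π (c g e) = π x * π e := by rw [← map_mul, hx, inv_mul_cancel_right]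
  have hpow : ∀ i : ℤ, π (c (g ^ i) e) = π x ^ i * π e := by
    intro i
    induction i using Int.induction_on with
    | zero => simp
    | succ n ih =>
      rw [add_comm, zpow_one_add, map_mul, MulAut.mul_apply, hπc g (y' := x ^ (n : ℤ) * e) (by
        rw [map_mul π, map_zpow π]; exact ih), map_mul, map_zpow, map_mul, map_zpow, hgx, hge, ← mul_assoc,
        ← zpow_add_one, add_comm]
    | pred n ih =>
      have h1 : π (c g⁻¹ x) = π x := by
        conv_rhs => rw [← MulAut.inv_apply_self G (c g) x, ← map_inv c]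
        exact (hπc _ hgx).symm
      have h2 : π (c g⁻¹ e) = (π x)⁻¹ * π e := by
        have := hπc g⁻¹ (y := c g e) (y' := x * e) (by rw [map_mul]; exact hge)
        rw [map_inv c, MulAut.inv_apply_self, map_mul, map_mul, ← map_inv c, h1] at this
        rw [this, inv_mul_cancel_left]
      rw [sub_eq_add_neg, add_comm, zpow_add, zpow_neg_one, map_mul, MulAut.mul_apply,
        hπc g⁻¹ (y' := x ^ (-(n : ℤ)) * e) (by rw [map_mul π, map_zpow π]; exact ih), map_mul, map_zpow, map_mul,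
        map_zpow, h1, h2, ← mul_assoc, ← zpow_sub_one, add_comm, sub_eq_add_neg]
  have hxmod : ∀ y ∈ D, ∃ i : ℤ, π y = π x ^ i := by
    intro y hy'
    have hle : zpowers x ⊔ Z ≤ D := sup_le (zpowers_le.2 hxD) hZD
    have heq : zpowers x ⊔ Z = D := eq_of_le_of_card_ge hle (by
      rw [hDc, ← hcB, ← card_map_of_injective (K := zpowers x ⊔ Z) h.inj]
      refine CfsgLib.MaxClassCube.mul_card_le h.pgroup (lt_of_le_of_ne (map_mono le_sup_right) fun e' => ?_)
      obtain ⟨z, hz, hzx⟩ := e'.ge (mem_map_of_mem ι (mem_sup_left (mem_zpowers x)))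
      exact hxE (hZE (h.inj hzx ▸ hz)))
    obtain ⟨u, hu, z, hz, rfl⟩ := mem_sup_of_normal_right.1 (heq.ge hy')
    obtain ⟨i, rfl⟩ := mem_zpowers_iff.1 hu
    exact ⟨i, by rw [map_mul, map_zpow, show π z = 1 from (QuotientGroup.eq_one_iff z).2 hz, mul_one]⟩
  have hkey : ∀ r (i : ℤ), π (c r e) = π x ^ i * π e → (g ^ i)⁻¹ * r ∈ ι.range := by
    intro r i hi
    refine hmove _ ?_
    have h1 : π (c ((g ^ i)⁻¹ * r) e) = π e := by
      rw [map_mul, MulAut.mul_apply, hπc _ (y' := c (g ^ i) e) (hi.trans (hpow i).symm), map_inv c,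
        MulAut.inv_apply_self]
    have h2 := mul_mem he (hZE (QuotientGroup.eq.1 h1.symm))
    rwa [mul_inv_cancel_left] at h2
  refine ⟨g, hg, hxE, D, hxD, hZD, hDc, hinvD, hfix, hy, fun r => ?_, ?_⟩
  · obtain ⟨i, hi⟩ := hxmod (c r e * e⁻¹) (by
      have := hEn
      haveI : D.Normal := ⟨fun y hy' a => h.c_self a y ▸ hinvD _ y hy'⟩
      have h1 := (inferInstance : D.Normal).conj_mem _ (hy r e) e
      rwa [show e * (e⁻¹ * c r e) * e⁻¹ = c r e * e⁻¹ by group] at h1)
    refine ⟨i, hkey r i ?_⟩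
    rw [← hi, ← map_mul, inv_mul_cancel_right]
  · have hxp : π x ^ (p : ℤ) = 1 := by
      rw [zpow_natCast]
      have e1 := Subgroup.relIndex_mul_relIndex ⊥ Z D bot_le hZD
      rw [relIndex_bot_left, relIndex_bot_left, hDc, mul_comm p] at e1
      have hc2 : (Z.subgroupOf D).index = p := Nat.eq_of_mul_eq_mul_left Nat.card_pos e1
      have := Subgroup.pow_index_mem (Z.subgroupOf D) (⟨x, hxD⟩ : D)
      rw [hc2] at this
      rw [← map_pow]
      exact (QuotientGroup.eq_one_iff _).2 this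
    have h1 := hkey (g ^ p) 0 (by rw [zpow_zero, one_mul, ← zpow_natCast g, hpow, hxp, one_mul])
    rwa [zpow_zero, inv_one, one_mul] at h1

/-- An element of `Y` has a modification of the same weights that extends to `R`. -/
theorem Over.exists_delta {Y : Subgroup (MulAut G)} (hY : Y ≤ Γ) (hQ : c.range ≤ Y)
    {γ : MulAut G} (hγ : γ ∈ Y) :
    ∃ γ' ∈ Y, ∃ δ : MulAut R, (∀ y, δ (ι y) = ι (γ' y)) ∧
      ∀ U D : Subgroup G, Sec p Y U D → ∀ y ∈ U, (γ y)⁻¹ * γ' y ∈ D := by
  haveI : Finite (MulAut G) := Finite.of_injective (fun a : MulAut G => (a : G → G)) DFunLike.coe_injective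
  have hQp : IsPGroup p c.range := by
    rw [MonoidHom.range_eq_map]; exact (h.pgroup.to_subgroup ⊤).map _
  obtain ⟨r, hr, hrn⟩ := CfsgLib.FourFree.frattini_rel (C := pGen p Y) (S := c.range) (L := Y) hQp
    (le_pGen hQ hQp)
    (fun hd => h.sylow (hd.trans (Dvd.intro _
      (relIndex_mul_relIndex c.range (pGen p Y) Γ (le_pGen hQ hQp) (pGen_le.trans hY)))))
    (fun g hg x hx => pGen_conj hg hx) hγ
  have hm : r * γ ∈ Y := mul_mem (pGen_le hr) hγ
  obtain ⟨δ, hδ⟩ := h.ext _ (hY hm) hrn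
  refine ⟨r * γ, hm, δ, hδ, fun U D hs y hy => ?_⟩
  exact pGen_fix hs hr _ (hs.invU γ hγ y hy)

end CfsgLib.Fusion.RankThree
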