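import Cfsg.Agent.Lib.Fusion.System.RankThree.JRelations
import Cfsg.Agent.Lib.Fusion.System.RankThree.Over

/-!
# A Jordan block essential subgroup is normal

The elementary subgroup is the only abelian maximal subgroup above `H`; otherwise the relation
between `p`-th powers and commutators with `⁅x, e⁆` has opposite signs on and off `E`.
-/

set_option autoImplicit false
set_option linter.style.haveILetI false
set_option linter.unusedSectionVars false

open Subgroup
open scoped commutatorElement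

namespace CfsgLib.Fusion.RankThree

open CfsgLib.Fusion.LineTorus (Sec pGen_fix le_pGen)

universe u v

variable {G : Type u} [Group G] [Finite G] {R : Type v} [Group R] [Finite R] {p : ℕ} [Fact p.Prime]
  {E : Subgroup G} [E.Normal] {X : Subgroup (MulAut E)} {Γ : Subgroup (MulAut G)}
  {ι : G →* R} {c : R →* MulAut G} {x e : G} {H W : Subgroup G}

theorem JData.W_eq (h : Top p E X Γ) (hJ : JData p E x e H W) : W = kc p G 2 := by
  refine le_antisymm ?_ (kc_le (hJ.pow_mem_W h) ?_)
  · have hN : frn E ≤ kc p G 2 := (hJ.frn_le_epow h).trans ((closure_le _).2 (by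
      rintro _ ⟨r, rfl⟩; exact pow_mem_kc 2 _))
    refine hJ.geW.trans (sup_le hN ?_)
    refine Subgroup.commutator_le.2 fun a ha g _ => ?_
    have hH : H ≤ (center (G ⧸ kc p G 2)).comap (QuotientGroup.mk' (kc p G 2)) := by
      refine hJ.geH.trans (sup_le (fun n hn => ?_) (Subgroup.commutator_le.2 fun r _ u _ => ?_))
      · show QuotientGroup.mk' (kc p G 2) n ∈ center (G ⧸ kc p G 2)
        rw [show QuotientGroup.mk' (kc p G 2) n = 1 from (QuotientGroup.eq_one_iff n).2 (hN hn)]
        exact one_mem _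
      · refine mem_center_iff.2 fun v => ?_
        obtain ⟨v, rfl⟩ := QuotientGroup.mk'_surjective _ v
        refine (commutatorElement_eq_one_iff_mul_comm.1 ?_).symm
        rw [← map_commutatorElement]
        refine (QuotientGroup.eq_one_iff _).2 (lcs_le_kc 2 ?_)
        rw [Subgroup.lowerCentralSeries_succ, Subgroup.top_lowerCentralSeries_one]
        exact commutator_mem_commutator (commutator_mem_commutator (mem_top r) (mem_top u)) (mem_top v)
    refine (QuotientGroup.eq_one_iff _).1 ?_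
    show QuotientGroup.mk' (kc p G 2) ⁅a, g⁆ = 1
    rw [map_commutatorElement, commutatorElement_eq_one_iff_mul_comm]
    exact (mem_center_iff.1 (hH ha) _).symm
  · haveI := hJ.Wn
    rw [Subgroup.lowerCentralSeries_succ, Subgroup.top_lowerCentralSeries_one]
    exact Subgroup.commutator_le.2 fun a ha g _ => hJ.commH a (hJ.derived_le h ha) g

/-- No element of `R` moves `E`. -/
theorem Over.false_of_jdata (hO : Over p E Γ ι c) (h : Top p E X Γ) (hJ : JData p E x e H W) : False := by
  haveI := hJ.Hn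
  haveI := hJ.Wn
  have hG := h.pgroup
  obtain ⟨r0, hr0⟩ := hO.proper
  suffices hfix : c r0 e ∈ E by
    refine hr0 (hO.moves r0 fun a ha => ?_)
    obtain ⟨k, hk⟩ := exists_zpow_inv_mul_mem hG hJ.HE hJ.cE hJ.emem hJ.eH ha
    rw [show a = e ^ k * ((e ^ k)⁻¹ * a) by group, map_mul, map_zpow]
    exact mul_mem (zpow_mem hfix k) (hJ.HE (hJ.H_apply h _ hk))
  generalize hγ : c r0 = γ
  have hγΓ : γ ∈ c.range := ⟨r0, hγ⟩
  obtain ⟨w1, hw1⟩ : ∃ w1, w1 = ⁅x, e⁆ := ⟨_, rfl⟩
  have hw1H : w1 ∈ H := hw1 ▸ hJ.w1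
  obtain ⟨A, s, hs, hye⟩ := h.decomp hJ.xmem (γ e)
  rw [hye]
  refine hJ.mem_E_of_cast h hs ?_
  set σ := QuotientGroup.mk' (frn E) with hσ
  rcases em (frn E = ⊥) with hN | hN
  · -- elementary abelian
    have hab : ∀ a ∈ E, ∀ b ∈ E, a * b = b * a := fun a ha b hb => by
      have h1 := h.comm_frn ha hb
      rwa [hN, mem_bot, commutatorElement_eq_one_iff_mul_comm] at h1
    have h1 : γ e * w1 = w1 * γ e := by
      have hm : γ⁻¹ w1 ∈ H := hJ.H_apply h _ hw1H
      have h2 := congrArg γ (hab e hJ.emem _ (hJ.HE hm))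
      rwa [map_mul, map_mul, MulAut.apply_inv_self] at h2
    have h3 := hJ.comm_w1 h (A := A) hs
    rw [← hye, ← hw1, commutatorElement_eq_one_iff_mul_comm.2 h1.symm, map_one] at h3
    have h4 := hJ.cast_w2 h (k := -A) (by rw [← hw1]; exact h3.symm)
    simpa using h4
  · -- powerful
    rcases hJ.dichotomy h with h' | hinj
    · exact absurd h' hN
    obtain ⟨d, hd⟩ := hJ.exists_d h
    obtain ⟨hd0, hrel⟩ := hJ.relation h hinj hd
    have hrel' : γ ((⁅⁅x, e⁆, e⁆ ^ d)⁻¹ * e ^ p) ∈ frn E :=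
      frn_mono hG hJ.HE (apply_mem_frn hG γ (fun a ha => hJ.H_apply h γ ha) hrel)
    have hQp : IsPGroup p c.range := by
      rw [MonoidHom.range_eq_map]; exact (hO.pgroup.to_subgroup ⊤).map _
    have hm : w1⁻¹ * γ w1 ∈ W := by
      have hsec : Sec p Γ H W := ⟨hJ.WH, inferInstance, hJ.cH, fun a _ y hy => hJ.H_apply h a hy,
        fun a _ y hy => by
          rw [hJ.W_eq h] at hy ⊢
          exact characteristic_iff_map_le.1 (inferInstance : (kc p G 2).Characteristic) a ⟨y, hy, rfl⟩⟩
      exact pGen_fix hsec (le_pGen hO.qle hQp hγΓ) w1 hw1H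
    have h1 : σ (γ ⁅w1, e⁆) = σ ⁅w1, γ e⁆ := by
      rw [map_commutatorElement γ, show γ w1 = w1 * (w1⁻¹ * γ w1) by group]
      generalize w1⁻¹ * γ w1 = m at hm ⊢
      rw [show ⁅w1 * m, γ e⁆ = w1 * ⁅m, γ e⁆ * w1⁻¹ * ⁅w1, γ e⁆ by simp only [commutatorElement_def]; group,
        map_mul, map_mul, map_mul, show σ ⁅m, γ e⁆ = 1 from (QuotientGroup.eq_one_iff _).2 (hJ.commW m hm _),
        mul_one, map_inv, mul_inv_cancel, one_mul]
    have h2 : σ (γ e ^ p) = σ ⁅w1, γ e⁆ ^ d := by
      rw [← h1, ← map_zpow, ← map_pow, ← map_zpow γ]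
      rw [← hw1] at hrel'
      rw [map_mul, map_inv] at hrel'
      exact (QuotientGroup.eq.2 hrel').symm
    have h3 := hJ.pow_mk h (A := A) hs
    have h4 := hJ.comm_w1 h (A := A) hs
    rw [← hye] at h3 h4
    rw [← hw1] at h4
    have hxp : σ (x ^ p) = σ ⁅x, ⁅x, e⁆⁆ ^ d := by
      rw [← map_zpow]; exact (QuotientGroup.eq.2 hd).symm
    rw [h2, h4, hxp, ← zpow_mul, ← zpow_mul] at h3
    rw [← hw1] at h3
    have h5 := hJ.cast_w2 h (k := -A * d - d * A) (by rw [← hw1, zpow_sub, h3, mul_inv_cancel])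
    push_cast at h5
    have h2ne : (2 : ZMod p) ≠ 0 := by
      intro h0
      have h6 : (((2 : ℤ)) : ZMod p) = 0 := by simpa using h0
      have := Int.le_of_dvd (by norm_num) ((ZMod.intCast_zmod_eq_zero_iff_dvd 2 p).1 h6)
      have := h.five
      omega
    have h7 : (A : ZMod p) * ((d : ZMod p) * 2) = 0 := by linear_combination -h5
    exact (mul_eq_zero.1 h7).resolve_right (mul_ne_zero hd0 h2ne)

end CfsgLib.Fusion.RankThree
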