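import Cfsg.Agent.Lib.Fusion.System.RankThree.PlaneEscape
import Cfsg.Agent.Lib.Fusion.System.RankThree.EscapeTrans
import Cfsg.Agent.Lib.Fusion.System.RankThree.JEscape
import Cfsg.Agent.Lib.PGroup.GenExtraspecialSplit

/-!
# The shapes of `E` over its normalizer

`E` is a cube or a plane over its Frattini subgroup; a cube has no escape, and a plane with an
escape is elementary abelian of order `p ^ 2`.
-/

set_option autoImplicit false
set_option linter.style.haveILetI false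
set_option linter.unusedSectionVars false

open Subgroup
open scoped commutatorElement

namespace CfsgLib.Fusion.RankThree

universe u v

variable {p : ℕ} [Fact p.Prime]

/-- Weights for a torus. -/
theorem exists_weights (hp : 5 ≤ p) : ∃ a b : ℤ, ((a * b : ℤ) : ZMod p) = 1 ∧ (b : ZMod p) ≠ 1 ∧
    (b : ZMod p) ^ 2 ≠ 1 ∧ (b : ZMod p) ^ 3 ≠ 1 ∧ (b : ZMod p) ^ 5 ≠ 1 := by
  obtain ⟨ζ, hζ⟩ := IsCyclic.exists_generator (α := (ZMod p)ˣ)
  have hord : orderOf ζ = p - 1 := by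
    rw [orderOf_eq_card_of_forall_mem_zpowers hζ, Nat.card_eq_fintype_card, ZMod.card_units]
  have hne : ∀ j, 0 < j → j < p - 1 → (ζ : ZMod p) ^ j ≠ 1 := fun j hj hjp h =>
    Nat.not_le.2 (hord.symm ▸ hjp)
      (Nat.le_of_dvd hj (orderOf_dvd_of_pow_eq_one (Units.ext (by push_cast; exact h))))
  refine ⟨(((ζ⁻¹ : (ZMod p)ˣ) : ZMod p).val : ℤ), ((ζ : ZMod p).val : ℤ), ?_, ?_, ?_, ?_, ?_⟩
  · push_cast
    rw [ZMod.natCast_zmod_val, ZMod.natCast_zmod_val]
    exact inv_mul_cancel₀ ζ.ne_zero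
  all_goals rw [Int.cast_natCast, ZMod.natCast_zmod_val]
  · simpa using hne 1 one_pos (by omega)
  · exact hne 2 two_pos (by omega)
  · exact hne 3 (by norm_num) (by omega)
  · by_cases h7 : 6 < p
    · exact hne 5 (by norm_num) (by omega)
    · intro h
      have h1 : (ζ : ZMod p) ^ (p - 1) = 1 := ZMod.pow_card_sub_one_eq_one ζ.ne_zero
      have h6 : p ≠ 6 := fun h6 => absurd (Fact.out : p.Prime) (by rw [h6]; norm_num)
      have h5 : p = 5 := by omega
      rw [show p - 1 = 4 by omega] at h1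
      rw [pow_succ, h1, one_mul] at h
      exact hne 1 one_pos (by omega) (by simpa using h)

variable {G : Type u} [Group G] [Finite G] {R : Type v} [Group R] [Finite R] {E : Subgroup G} [E.Normal]
  {X : Subgroup (MulAut E)} {Γ : Subgroup (MulAut G)} {ι : G →* R} {c : R →* MulAut G}

/-- A plane has a transvection. -/
theorem Top.plane_tdata (h : Top p E X Γ) (hc : Nat.card E ≤ p ^ 2 * Nat.card (frn E)) {x : G} (hx : x ∉ E) :
    ∀ e ∈ E, ⁅x, ⁅x, e⁆⁆ ∈ frn E := by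
  by_contra hnt
  obtain ⟨e, H, W, -, hcard⟩ := h.exists_jdata hx hnt
  have hp := (Fact.out : p.Prime)
  have h1 : p ^ 3 ≤ p ^ 2 := Nat.le_of_mul_le_mul_right (hcard ▸ hc) Nat.card_pos
  exact absurd ((Nat.pow_le_pow_iff_right hp.one_lt).1 h1) (by norm_num)

/-- Not a plane means a cube. -/
theorem Top.card_cube (h : Top p E X Γ) (hc : ¬ Nat.card E ≤ p ^ 2 * Nat.card (frn E)) :
    Nat.card E = p ^ 3 * Nat.card (frn E) := by
  have hp := (Fact.out : p.Prime)
  obtain ⟨m, hm⟩ := IsPGroup.iff_card.1 h.isPE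
  obtain ⟨n, hn⟩ := IsPGroup.iff_card.1 (h.pgroup.to_subgroup (frn E))
  have h3 := h.card_frn_le
  rw [hn, ← pow_add] at hc ⊢
  rw [hn, ← pow_add] at h3
  rw [hm] at hc h3 ⊢
  congr 1
  have e1 := (Nat.pow_le_pow_iff_right hp.one_lt).1 h3
  by_contra hne
  exact hc (Nat.pow_le_pow_right hp.pos (by omega))

/-- A cube has no escape. -/
theorem Over.false_of_cube (hO : Over p E Γ ι c) (h : Top p E X Γ)
    (hc : Nat.card E = p ^ 3 * Nat.card (frn E)) : False := by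
  obtain ⟨x, hx⟩ := h.exists_notMem
  by_cases hd : ∀ e ∈ E, ⁅x, ⁅x, e⁆⁆ ∈ frn E
  · obtain ⟨a, b, hab, hb1, hb2, hb3, hb5⟩ := exists_weights (p := p) h.five
    obtain ⟨β, hβ, e, f, hD⟩ := h.exists_tdata hx hd hab hb1 hb2
    exact hO.false_of_tdata h hβ hD hc hab hb2 hb3 hb5
  · obtain ⟨e, H, W, hJ, -⟩ := h.exists_jdata hx hd
    exact hO.false_of_jdata h hJ

/-- An elementary plane. -/
theorem Top.card_sq (h : Top p E X Γ) (hc : Nat.card E ≤ p ^ 2 * Nat.card (frn E)) (hN : frn E = ⊥) :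
    Cfsg.IsElementaryAbelian p E ∧ Nat.card E = p ^ 2 := by
  obtain ⟨x, hx⟩ := h.exists_notMem
  obtain ⟨a, b, hab, hb1, hb2, -, -⟩ := exists_weights (p := p) h.five
  obtain ⟨β, -, e, f, hD⟩ := h.exists_tdata hx (h.plane_tdata hc hx) hab hb1 hb2
  refine ⟨⟨⟨⟨fun u v => Subtype.ext ?_⟩⟩, fun u hu => ?_⟩, ?_⟩
  · have := h.comm_frn u.2 v.2
    rw [hN, mem_bot, commutatorElement_eq_one_iff_mul_comm] at this
    exact this
  · have := h.pow_frn hu
    rwa [hN, mem_bot] at this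
  · rw [(hD.card_wline h hc).2, (hD.card_wline h hc).1, hN, card_bot]
    ring

/-- A plane with an escape is elementary of order `p ^ 2`. -/
theorem Over.card_sq_of_plane (hO : Over p E Γ ι c) (h : Top p E X Γ)
    (hc : Nat.card E ≤ p ^ 2 * Nat.card (frn E)) :
    Cfsg.IsElementaryAbelian p E ∧ Nat.card E = p ^ 2 := by
  obtain ⟨x, hx⟩ := h.exists_notMem
  obtain ⟨a, b, hab, hb1, hb2, hb3, hb5⟩ := exists_weights (p := p) h.five
  obtain ⟨β, hβ, e, f, hD⟩ := h.exists_tdata hx (h.plane_tdata hc hx) hab hb1 hb2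
  exact h.card_sq hc (hO.frn_eq_bot_of_plane h hβ hD hc hab hb2 hb3 hb5)

/-- A plane which is no pearl has a quotient of maximal class of order `p ^ 4` or more. -/
theorem Top.plane_kc (h : Top p E X Γ) (hc : Nat.card E ≤ p ^ 2 * Nat.card (frn E))
    (hnp : ¬ (Cfsg.IsElementaryAbelian p E ∧ Nat.card E = p ^ 2)) :
    kc p G 3 ≤ E ∧ Nat.card E = p ^ 3 * Nat.card (kc p G 3) ∧ InvE X (kc p G 3) ∧
      (kc p G 3 = ⊥ → Cfsg.IsExtraspecial p E ∧ Nat.card E = p ^ 3 ∧ ∀ u ∈ E, u ^ p = 1) := by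
  obtain ⟨x, hx⟩ := h.exists_notMem
  obtain ⟨a, b, hab, hb1, hb2, -, -⟩ := exists_weights (p := p) h.five
  obtain ⟨β, -, e, f, hD⟩ := h.exists_tdata hx (h.plane_tdata hc hx) hab hb1 hb2
  rcases hD.plane_cases h hc hab hb2 with hN | ⟨heq, hle, hcard, x', -, hM⟩
  · exact absurd (h.card_sq hc hN) hnp
  refine ⟨hle, hcard, ?_, fun hK => ?_⟩
  · rw [← heq]
    refine invE_of_le ((commutator_le_left _ _).trans (frn_le E)) fun α hα =>
      commutator_le.2 fun u hu v hv => ?_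
    refine ⟨⁅(⟨u, frn_le E hu⟩ : E), ⟨v, hv⟩⁆, ?_, map_commutatorElement E.subtype _ _⟩
    show E.subtype (α ⁅(⟨u, frn_le E hu⟩ : E), ⟨v, hv⟩⁆) ∈ ⁅frn E, E⁆
    rw [map_commutatorElement, map_commutatorElement]
    exact commutator_mem_commutator (h.invE_frn α hα ⟨u, frn_le E hu⟩ hu) (α ⟨v, hv⟩).2
  have hexp : ∀ u : G, u ^ p = 1 := fun u => by
    have := pow_mem_kc (p := p) 3 u
    rwa [hK, mem_bot] at this
  have hc3 : Nat.card E = p ^ 3 := by rw [hcard, hK, card_bot, mul_one]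
  obtain ⟨u, hu, huv⟩ := mem_map.1 hM.wmem
  refine ⟨CfsgLib.GenExtraspecial.isExtraspecial_of_cube hc3 (a := (⟨e, hD.emem⟩ : E)) (b := ⟨u, hu⟩) ?_
    (fun r => Subtype.ext (hexp r)), hc3, fun r _ => hexp r⟩
  intro hcomm
  refine hM.dne ?_
  rw [← huv, ← map_commutatorElement,
    show ⁅e, u⁆ = 1 from commutatorElement_eq_one_iff_mul_comm.2 (congrArg Subtype.val hcomm), map_one]

end CfsgLib.Fusion.RankThree
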