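import Cfsg.Agent.Lib.Fusion.System.RankThree.JData

/-!
# A Jordan block automizer has no invariant subgroup above the Frattini subgroup

An invariant line or plane would give an element inverting the complementary plane and commuting
with the Jordan block.
-/

set_option autoImplicit false
set_option linter.style.haveILetI false
set_option linter.unusedSectionVars false

open Subgroup
open scoped commutatorElement

namespace CfsgLib.Fusion.RankThree

open CfsgLib.MaxClassEss (frAct frAct_eq_one_iff)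
open CfsgLib.Fusion.LineTorus (Sec Inv pGen pGen_le pGen_fix le_pGen comm_fix Plane)

universe u

variable {G : Type u} [Group G] [Finite G] {p : ℕ} [Fact p.Prime]

/-- An element of `p`-power order in an image is the image of one. -/
theorem exists_pPower_lift {A B : Type u} [Group A] [Group B] [Finite A] (f : A →* B) {y : B}
    (hy : ∃ a, f a = y) {k : ℕ} (hk : y ^ p ^ k = 1) : ∃ a : A, (∃ m : ℕ, a ^ p ^ m = 1) ∧ f a = y := by
  obtain ⟨a, rfl⟩ := hy
  have hp := (Fact.out : p.Prime)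
  set d := orderOf a / p ^ (orderOf a).factorization p with hd
  have hco : d.Coprime (orderOf (f a)) := by
    obtain ⟨j, -, hj⟩ := (Nat.dvd_prime_pow hp).1 (orderOf_dvd_of_pow_eq_one hk)
    rw [hj]
    exact ((hp.coprime_iff_not_dvd.2 (Nat.not_dvd_ordCompl hp (orderOf_pos a).ne')).symm.pow_right j)
  obtain ⟨s, hs⟩ := exists_pow_eq_self_of_coprime hco
  refine ⟨(a ^ d) ^ s, ⟨(orderOf a).factorization p, ?_⟩, by rw [map_pow, map_pow, hs]⟩
  rw [← pow_mul, mul_comm s, pow_mul, ← pow_mul a, hd, mul_comm,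
    Nat.mul_div_cancel' (Nat.ordProj_dvd _ p), pow_orderOf_eq_one, one_pow]

variable {E : Subgroup G} [E.Normal] {X : Subgroup (MulAut E)} {Γ : Subgroup (MulAut G)}
  {x e : G} {H W : Subgroup G}

/-- The commutator with `x` in coordinates modulo the Frattini subgroup. -/
theorem JData.dlt_mul (h : Top p E X Γ) (hJ : JData p E x e H W) {a b : G} (ha : a ∈ E) (hb : b ∈ E) :
    QuotientGroup.mk' (frn E) ⁅x, a * b⁆ =
      QuotientGroup.mk' (frn E) ⁅x, a⁆ * QuotientGroup.mk' (frn E) ⁅x, b⁆ := by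
  have hc : ⁅x, b⁆ ∈ E := by
    rw [← commutatorElement_inv]; exact inv_mem (hJ.HE (hJ.commE b hb x))
  have h1 : QuotientGroup.mk' (frn E) ⁅a, ⁅x, b⁆⁆ = 1 := (QuotientGroup.eq_one_iff _).2 (h.comm_frn ha hc)
  rw [show ⁅x, a * b⁆ = ⁅x, a⁆ * ⁅a, ⁅x, b⁆⁆ * ⁅x, b⁆ by simp only [commutatorElement_def]; group,
    map_mul, map_mul, h1, mul_one]

theorem JData.normal_cases (h : Top p E X Γ) (hJ : JData p E x e H W) {L : Subgroup G} [L.Normal]
    (hN : frn E ≤ L) (hL : L ≤ E) : L = frn E ∨ L = W ∨ L = H ∨ L = E := by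
  have hG := h.pgroup
  haveI := hJ.Hn
  haveI := hJ.Wn
  have hp := (Fact.out : p.Prime)
  have step : ∀ {A B : Subgroup G}, A ≤ B → A ≠ B → B ≤ E → ∀ {C : Subgroup G}, C ≤ A →
      Nat.card B = p * Nat.card C → C = A := fun {A B} hAB hne _ {C} hCA hc => by
    have h1 := CfsgLib.MaxClassCube.mul_card_le hG (lt_of_le_of_ne hAB hne)
    rw [hc] at h1
    exact eq_of_le_of_card_ge hCA (Nat.le_of_mul_le_mul_left h1 hp.pos)
  by_cases hLW : L ≤ W
  · by_cases hne : L = W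
    · exact Or.inr (Or.inl hne)
    · exact Or.inl (step hLW hne (hJ.WH.trans hJ.HE) hN hJ.cW).symm
  by_cases hLH : L ≤ H
  · refine Or.inr (Or.inr (Or.inl (le_antisymm hLH (le_of_le_sup_commutator hG (N := H) ?_))))
    have hsup : L ⊔ W = H := by
      by_contra hne
      exact hLW ((step (sup_le hLH hJ.WH) hne hJ.HE le_sup_right hJ.cH).ge.trans' le_sup_left)
    calc H = L ⊔ W := hsup.symm
      _ ≤ L ⊔ (frn E ⊔ ⁅H, (⊤ : Subgroup G)⁆) := sup_le_sup_left hJ.geW _
      _ ≤ L ⊔ ⁅H, (⊤ : Subgroup G)⁆ := sup_le le_sup_left (sup_le (hN.trans le_sup_left) le_sup_right)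
  · refine Or.inr (Or.inr (Or.inr (le_antisymm hL (le_of_le_sup_commutator hG (N := E) ?_))))
    have hsup : L ⊔ H = E := by
      by_contra hne
      exact hLH ((step (sup_le hL hJ.HE) hne le_rfl le_sup_right hJ.cE).ge.trans' le_sup_left)
    calc E = L ⊔ H := hsup.symm
      _ ≤ L ⊔ (frn E ⊔ ⁅E, (⊤ : Subgroup G)⁆) := sup_le_sup_left hJ.geH _
      _ ≤ L ⊔ ⁅E, (⊤ : Subgroup G)⁆ := sup_le le_sup_left (sup_le (hN.trans le_sup_left) le_sup_right)

theorem Top.invE_normal (h : Top p E X Γ) {L : Subgroup G} (hL : L ≤ E) (hi : InvE X L) : L.Normal :=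
  ⟨fun y hy g => by
    have h1 := hi _ (h.qle ⟨g, rfl⟩) ⟨y, hL hy⟩ hy
    rwa [MulAut.conjNormal_apply] at h1⟩

theorem Top.mem_frn_of_inv_eq (h : Top p E X Γ) {a : G} (ha : a ∈ E)
    (he : (QuotientGroup.mk' (frn E) a)⁻¹ = QuotientGroup.mk' (frn E) a) : a ∈ frn E := by
  refine mem_of_zpow_mem (h.pow_frn ha) (m := 2) ?_ ?_
  · refine (QuotientGroup.eq_one_iff _).1 ?_
    show QuotientGroup.mk' (frn E) (a ^ (2 : ℤ)) = 1
    rw [map_zpow, zpow_two]
    nth_rw 1 [← he]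
    rw [inv_mul_cancel]
  · intro h2
    have := Int.le_of_dvd (by norm_num) ((ZMod.intCast_zmod_eq_zero_iff_dvd 2 p).1 h2)
    have := h.five
    omega

theorem Top.cx_apply (x : G) (r : E) : ((MulAut.conjNormal (H := E) x r : E) : G) = ⁅x, (r : G)⁆ * r := by
  rw [MulAut.conjNormal_apply, commutatorElement_def, inv_mul_cancel_right]

theorem sub_mem_of_section {E : Subgroup G} [E.Normal] {L : Subgroup G} {x : G} {r : E} [L.Normal]
    (hr : ⁅x, (r : G)⁆ ∈ L) : r⁻¹ * MulAut.conjNormal (H := E) x r ∈ L.subgroupOf E := by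
  rw [mem_subgroupOf, Subgroup.coe_mul, Subgroup.coe_inv, Top.cx_apply, ← mul_assoc]
  have := (inferInstance : L.Normal).conj_mem _ hr (r : G)⁻¹
  rwa [inv_inv] at this

theorem JData.not_inv_both (h : Top p E X Γ) (hJ : JData p E x e H W) (hiH : InvE X H) (hiW : InvE X W) :
    False := by
  haveI := hJ.Hn
  haveI := hJ.Wn
  refine h.fr_ne_one hJ.xmem (h.stab_trivial (A := W.subgroupOf E) (B := H.subgroupOf E)
    (fun r hr => hJ.WH hr) (fun a ha r hr => hiW a ha r hr) (fun a ha r hr => hiH a ha r hr)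
    (h.qle ⟨x, rfl⟩) (fun r => sub_mem_of_section ?_) (fun r hr => sub_mem_of_section ?_) fun r hr => ?_)
  · rw [← commutatorElement_inv]; exact inv_mem (hJ.commE r r.2 x)
  · rw [← commutatorElement_inv]; exact inv_mem (hJ.commH r hr x)
  · rw [← mem_frn, ← mem_subgroupOf]
    exact sub_mem_of_section (by rw [← commutatorElement_inv]; exact inv_mem (hJ.commW r hr x))

/-- An element of `X` commuting with the Jordan block modulo the Frattini subgroup transports the
commutator with `x`. -/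
theorem Top.transport (h : Top p E X Γ) {t : MulAut E}
    (hc : frAct (⁅t, MulAut.conjNormal (H := E) x⁆) = 1) (r : E) (hm : ⁅x, (r : G)⁆ ∈ E) :
    QuotientGroup.mk' (frn E) (t ⟨_, hm⟩ : G) = QuotientGroup.mk' (frn E) ⁅x, (t r : G)⁆ := by
  set cx := MulAut.conjNormal (H := E) x with hcx
  have h1 : frAct (t * cx) = frAct (cx * t) := by
    rw [commutatorElement_def, map_mul, map_mul, map_mul, map_inv, map_inv] at hc
    rw [map_mul, map_mul]
    calc frAct t * frAct cx = frAct t * frAct cx * (frAct t)⁻¹ * (frAct cx)⁻¹ * (frAct cx * frAct t) := by group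
      _ = _ := by rw [hc, one_mul]
  have h2 : QuotientGroup.mk' (frn E) ((t (cx r) : E) : G) = QuotientGroup.mk' (frn E) ((cx (t r) : E) : G) :=
    QuotientGroup.eq.2 ((coe_frn_eq _ _).1 (DFunLike.congr_fun h1 (r : E ⧸ frattini E)))
  have h3 : cx r = ⟨_, hm⟩ * r := Subtype.ext (Top.cx_apply x r)
  rw [h3, map_mul, Subgroup.coe_mul, map_mul, Top.cx_apply, map_mul] at h2
  exact mul_right_cancel h2

theorem JData.not_inv_W (h : Top p E X Γ) (hJ : JData p E x e H W) (hiW : InvE X W) : False := by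
  haveI := hJ.Hn
  haveI := hJ.Wn
  have hG := h.pgroup
  set cx := MulAut.conjNormal (H := E) x with hcx
  set R := W.subgroupOf E with hR
  set C := H.subgroupOf E with hC
  have hcard : ∀ {K : Subgroup G}, K ≤ E → Nat.card (K.subgroupOf E) = Nat.card K := fun hK =>
    Nat.card_congr (subgroupOfEquivOfLe hK).toEquiv
  have hQp : IsPGroup p (MulAut.conjNormal (H := E)).range := by
    rw [MonoidHom.range_eq_map]; exact (h.pgroup.to_subgroup ⊤).map _
  have hpl : Plane p X (MulAut.conjNormal (H := E)).range R C :=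
    { qle := h.qle
      isP := hQp
      sylow := h.sylow
      normal := inferInstance
      comm := fun a b => by
        show ((⁅a, b⁆ : E) : G) ∈ W
        exact hJ.nW (h.comm_frn a.2 b.2)
      invR := fun a ha r hr => hiW a ha r hr
      le := fun r hr => hJ.WH hr
      cardC := by rw [hC, hR, hcard hJ.HE, hcard (hJ.WH.trans hJ.HE), hJ.cH]
      cardH := by rw [hC, hcard hJ.HE, hJ.cE]
      invC := by
        rintro _ ⟨g, rfl⟩ r hr
        show ((MulAut.conjNormal (H := E) g r : E) : G) ∈ H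
        rw [MulAut.conjNormal_apply]
        exact hJ.Hn.conj_mem _ hr g
      moves := ⟨cx, ⟨x, rfl⟩, ⟨e, hJ.emem⟩, fun hm => hJ.w1W (by
        rw [hR, mem_subgroupOf, Subgroup.coe_mul, Subgroup.coe_inv, hcx, Top.cx_apply, ← mul_assoc] at hm
        have := hJ.Wn.conj_mem _ hm e
        simpa [mul_assoc] using this)⟩ }
  have hnC : ¬ Inv X C := fun hi => hJ.not_inv_both h (fun a ha r hr => hi a ha r hr) hiW
  obtain ⟨t, ht, hneg, hcomm⟩ := hpl.exists_neg hnC
  have htX := pGen_le ht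
  have hsec : Sec p X R (frattini E) :=
    ⟨fun r hr => hJ.nW (mem_frn.2 hr), inferInstance, by
      rw [hR, hcard (hJ.WH.trans hJ.HE), hJ.cW, frn, card_map_of_injective E.subtype_injective],
      fun a ha r hr => hiW a ha r hr, fun a _ r hr => CfsgLib.MaxClassEss.mem_frattini_iff_apply.2 hr⟩
  have hc1 : frAct ⁅t, cx⁆ = 1 := by
    refine h.stab_trivial (A := R) (B := R) le_rfl (fun a ha r hr => hiW a ha r hr)
      (fun a ha r hr => hiW a ha r hr) ?_ (fun r => hcomm cx (h.qle ⟨x, rfl⟩) r) (fun r hr => ?_)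
      (comm_fix hsec htX (h.qle ⟨x, rfl⟩))
    · rw [commutatorElement_def]
      exact X.mul_mem (X.mul_mem (X.mul_mem htX (h.qle ⟨x, rfl⟩)) (X.inv_mem htX)) (X.inv_mem (h.qle ⟨x, rfl⟩))
    · exact hcomm cx (h.qle ⟨x, rfl⟩) r
  set σ := QuotientGroup.mk' (frn E) with hσ
  set e' : E := ⟨e, hJ.emem⟩
  have hm1 : ⁅x, e⁆ ∈ E := hJ.HE hJ.w1
  have hm2 : ⁅x, ⁅x, e⁆⁆ ∈ E := hJ.HE (hJ.WH hJ.w2)
  obtain ⟨l, hl, hte⟩ : ∃ l ∈ W, (t e' : G) = e⁻¹ * l := ⟨e * (t e' : G), hneg e', by rw [inv_mul_cancel_left]⟩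
  have hlE : l ∈ E := hJ.HE (hJ.WH hl)
  have hxl : σ ⁅x, l⁆ = 1 := (QuotientGroup.eq_one_iff _).2 (by
    rw [← commutatorElement_inv]; exact inv_mem (hJ.commW l hl x))
  have hD1 : ∀ {a : G}, a ∈ E → σ ⁅x, a⁻¹⁆ = (σ ⁅x, a⁆)⁻¹ := fun {a} ha => by
    have h1 := hJ.dlt_mul h ha (inv_mem ha)
    rw [mul_inv_cancel, commutatorElement_one_right, map_one] at h1
    exact eq_inv_of_mul_eq_one_right h1.symm
  have hDc : ∀ {a b : G}, a ∈ E → b ∈ E → σ a = σ b → σ ⁅x, a⁆ = σ ⁅x, b⁆ := fun {a b} _ _ hab => by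
    rw [map_commutatorElement, map_commutatorElement, hab]
  have hw1 : σ (t ⟨_, hm1⟩ : G) = σ ⁅x, e⁆⁻¹ := by
    rw [h.transport hc1 e' hm1, hte, hJ.dlt_mul h (inv_mem hJ.emem) hlE, hxl, mul_one, hD1 hJ.emem,
      map_inv]
  have hw2 : σ (t ⟨_, hm2⟩ : G) = (σ ⁅x, ⁅x, e⁆⁆)⁻¹ := by
    rw [h.transport hc1 ⟨_, hm1⟩ hm2, hDc (t ⟨_, hm1⟩).2 (inv_mem hm1) hw1, hD1 hm1]
  have hw3 : σ (t ⟨_, hm2⟩ : G) = σ ⁅x, ⁅x, e⁆⁆ :=
    (QuotientGroup.eq.2 ((coe_frn_eq _ _).1 (QuotientGroup.eq.2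
      (pGen_fix hsec ht ⟨_, hm2⟩ (show ⁅x, ⁅x, e⁆⁆ ∈ W from hJ.w2))))).symm
  exact hJ.w2N (h.mem_frn_of_inv_eq hm2 (hw2.symm.trans hw3))

/-- The restriction of automorphisms to an invariant subgroup. -/
def restrictAut {A : Type u} [Group A] [Finite A] (K : Subgroup A) (Y : Subgroup (MulAut A))
    (hY : ∀ α ∈ Y, ∀ r ∈ K, α r ∈ K) : Y →* MulAut K where
  toFun α :=
    { toFun := fun r => ⟨(α : MulAut A) r, hY _ α.2 r r.2⟩
      invFun := fun r => ⟨((α⁻¹ : Y) : MulAut A) r, hY _ (α⁻¹ : Y).2 r r.2⟩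
      left_inv := fun r => Subtype.ext (MulAut.inv_apply_self _ _ _)
      right_inv := fun r => Subtype.ext (MulAut.apply_inv_self _ _ _)
      map_mul' := fun a b => Subtype.ext (map_mul (α : MulAut A) (a : A) b) }
  map_one' := MulEquiv.ext fun r => Subtype.ext rfl
  map_mul' := fun a b => MulEquiv.ext fun r => Subtype.ext rfl

theorem restrictAut_coe {A : Type u} [Group A] [Finite A] (K : Subgroup A) (Y : Subgroup (MulAut A))
    (hY : ∀ α ∈ Y, ∀ r ∈ K, α r ∈ K) (α : Y) (r : K) :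
    ((restrictAut K Y hY α r : K) : A) = (α : MulAut A) r := rfl

theorem JData.not_inv_H (h : Top p E X Γ) (hJ : JData p E x e H W) (hiH : InvE X H) : False := by
  haveI := hJ.Hn
  haveI := hJ.Wn
  haveI : Finite (MulAut E) := Finite.of_injective (fun a : MulAut E => (a : E → E)) DFunLike.coe_injective
  set cx := MulAut.conjNormal (H := E) x with hcx
  set K := H.subgroupOf E with hK
  set res := restrictAut K X (fun a ha r hr => hiH a ha r hr) with hres
  set R := (frattini E).subgroupOf K with hR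
  set C := (W.subgroupOf E).subgroupOf K with hC
  set Q := (MulAut.conjNormal (H := E)).range with hQ
  have hcard : ∀ {L : Subgroup G}, L ≤ E → Nat.card (L.subgroupOf E) = Nat.card L := fun hL =>
    Nat.card_congr (subgroupOfEquivOfLe hL).toEquiv
  have hNK : frattini E ≤ K := fun r hr => hJ.WH (hJ.nW (mem_frn.2 hr))
  have hWK : W.subgroupOf E ≤ K := fun r hr => hJ.WH hr
  have hcardN : Nat.card (frattini E) = Nat.card (frn E) := by
    rw [frn, card_map_of_injective E.subtype_injective]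
  have hQp : IsPGroup p Q := by
    rw [hQ, MonoidHom.range_eq_map]; exact (h.pgroup.to_subgroup ⊤).map _
  have hmemE : ∀ {r : G}, r ∈ H → r ∈ E := fun hr => hJ.HE hr
  have hpl : Plane p res.range ((Q.subgroupOf X).map res) R C :=
    { qle := map_le_range _ _
      isP := ((hQp.comap_of_injective X.subtype X.subtype_injective)).map res
      sylow := fun hd => h.sylow (hd.trans (by
        have e' : (Q.subgroupOf X).map res.rangeRestrict = ((Q.subgroupOf X).map res).subgroupOf res.range := by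
          ext y
          simp only [mem_map, mem_subgroupOf]
          constructor
          · rintro ⟨q, hq, rfl⟩; exact ⟨q, hq, rfl⟩
          · rintro ⟨q, hq, hqy⟩; exact ⟨q, hq, Subtype.ext hqy⟩
        show (((Q.subgroupOf X).map res).subgroupOf res.range).index ∣ (Q.subgroupOf X).index
        rw [← e']
        exact index_map_dvd _ res.rangeRestrict_surjective))
      normal := inferInstance
      comm := fun a b => by
        show ((⁅a, b⁆ : K) : E) ∈ frattini E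
        exact CfsgLib.Coprime.commutator_le_frattini h.isPE
          (commutator_mem_commutator (mem_top _) (mem_top _))
      invR := by
        rintro _ ⟨a, rfl⟩ r hr
        exact CfsgLib.MaxClassEss.mem_frattini_iff_apply.2 hr
      le := fun r hr => hJ.nW (mem_frn.2 hr)
      cardC := by
        rw [hC, hR, Nat.card_congr (subgroupOfEquivOfLe hWK).toEquiv, Nat.card_congr (subgroupOfEquivOfLe hNK).toEquiv,
          hcard (hJ.WH.trans hJ.HE), hcardN, hJ.cW]
      cardH := by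
        rw [hC, Nat.card_congr (subgroupOfEquivOfLe hWK).toEquiv, hcard (hJ.WH.trans hJ.HE), hK, hcard hJ.HE,
          hJ.cH]
      invC := by
        rintro _ ⟨a, ⟨g, hg⟩, rfl⟩ r hr
        show (((a : MulAut E) (r : E) : E) : G) ∈ W
        have hg' : MulAut.conjNormal (H := E) g = (a : MulAut E) := hg
        rw [← hg', MulAut.conjNormal_apply]
        exact hJ.Wn.conj_mem _ hr g
      moves := by
        refine ⟨res ⟨cx, h.qle ⟨x, rfl⟩⟩, mem_map_of_mem res (show cx ∈ Q from ⟨x, rfl⟩),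
          ⟨⟨⁅x, e⁆, hmemE hJ.w1⟩, hJ.w1⟩, fun hm => hJ.w2N ?_⟩
        have h1 := mem_frn.2 (show _ ∈ frattini E from hm)
        change (⁅x, e⁆)⁻¹ * ((cx ⟨⁅x, e⁆, hmemE hJ.w1⟩ : E) : G) ∈ frn E at h1
        rw [hcx, Top.cx_apply, ← mul_assoc] at h1
        have h2 := (inferInstance : (frn E).Normal).conj_mem _ h1 ⁅x, e⁆
        rw [← mul_assoc, mul_inv_cancel_left, mul_inv_cancel_right] at h2
        exact h2 }
  have hnC : ¬ Inv res.range C := fun hi => hJ.not_inv_both h hiH fun a ha r hr =>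
    hi _ ⟨⟨a, ha⟩, rfl⟩ ⟨r, hWK hr⟩ hr
  obtain ⟨t', ht', hneg, hcomm⟩ := hpl.exists_neg hnC
  have hlift : pGen p res.range ≤ ((pGen p X).subgroupOf X).map res := by
    refine (closure_le _).2 ?_
    rintro α ⟨⟨a, rfl⟩, k, hk⟩
    obtain ⟨a', ⟨m, hm⟩, ha'⟩ := exists_pPower_lift res ⟨a, rfl⟩ hk
    exact ⟨a', subset_closure ⟨a'.2, m, by rw [← map_pow, hm, map_one]⟩, ha'⟩
  obtain ⟨⟨t, htX⟩, ht, rfl⟩ := hlift ht'
  have ht : t ∈ pGen p X := ht
  have hsec : Sec p X ⊤ K :=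
    ⟨le_top, inferInstance, by rw [hK, card_top, hcard hJ.HE, hJ.cE], fun _ _ _ _ => mem_top _,
      fun a ha r hr => hiH a ha r hr⟩
  have hcxX : cx ∈ X := h.qle ⟨x, rfl⟩
  have hc1 : frAct ⁅t, cx⁆ = 1 := by
    refine h.stab_trivial (A := K) (B := K) le_rfl (fun a ha r hr => hiH a ha r hr)
      (fun a ha r hr => hiH a ha r hr) ?_ (fun r => comm_fix hsec htX hcxX r (mem_top r))
      (fun r _ => comm_fix hsec htX hcxX r (mem_top r)) fun r hr => ?_
    · rw [commutatorElement_def]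
      exact X.mul_mem (X.mul_mem (X.mul_mem htX hcxX) (X.inv_mem htX)) (X.inv_mem hcxX)
    · have h1 := hcomm (res ⟨cx, hcxX⟩) ⟨_, rfl⟩ ⟨r, hr⟩
      rw [← map_commutatorElement] at h1
      exact h1
  set σ := QuotientGroup.mk' (frn E) with hσ
  have hm1 : ⁅x, e⁆ ∈ E := hJ.HE hJ.w1
  have hm2 : ⁅x, ⁅x, e⁆⁆ ∈ E := hJ.HE (hJ.WH hJ.w2)
  obtain ⟨l, hl, hte⟩ : ∃ l ∈ H, (t ⟨e, hJ.emem⟩ : G) = e * l :=
    ⟨e⁻¹ * (t ⟨e, hJ.emem⟩ : G), pGen_fix hsec ht ⟨e, hJ.emem⟩ (mem_top _), by rw [mul_inv_cancel_left]⟩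
  have hxl : ⁅x, l⁆ ∈ W := by rw [← commutatorElement_inv]; exact inv_mem (hJ.commH l hl x)
  have hxxl : σ ⁅x, ⁅x, l⁆⁆ = 1 := (QuotientGroup.eq_one_iff _).2 (by
    rw [← commutatorElement_inv]; exact inv_mem (hJ.commW _ hxl x))
  have hw1 : σ (t ⟨_, hm1⟩ : G) = σ (⁅x, e⁆ * ⁅x, l⁆) := by
    rw [h.transport hc1 ⟨e, hJ.emem⟩ hm1, hte, hJ.dlt_mul h hJ.emem (hJ.HE hl), map_mul]
  have hw2 : σ (t ⟨_, hm2⟩ : G) = σ ⁅x, ⁅x, e⁆⁆ := by
    rw [h.transport hc1 ⟨_, hm1⟩ hm2, map_commutatorElement, hw1, ← map_commutatorElement,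
      hJ.dlt_mul h hm1 (hJ.HE (hJ.WH hxl)), hxxl, mul_one]
  have hw3 : σ (t ⟨_, hm2⟩ : G) = (σ ⁅x, ⁅x, e⁆⁆)⁻¹ := by
    refine eq_inv_of_mul_eq_one_right ?_
    rw [← map_mul]
    exact (QuotientGroup.eq_one_iff _).2 (mem_frn.2 (hneg ⟨⟨_, hm2⟩, hJ.WH hJ.w2⟩))
  exact hJ.w2N (h.mem_frn_of_inv_eq hm2 (hw3.symm.trans hw2))

/-- No invariant subgroup lies strictly between the Frattini subgroup and `E`. -/
theorem JData.inv_eq (h : Top p E X Γ) (hJ : JData p E x e H W) {L : Subgroup G} (hN : frn E ≤ L)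
    (hL : L ≤ E) (hi : InvE X L) : L = frn E ∨ L = E := by
  haveI := h.invE_normal hL hi
  rcases hJ.normal_cases h hN hL with e' | rfl | rfl | e'
  · exact Or.inl e'
  · exact (hJ.not_inv_W h hi).elim
  · exact (hJ.not_inv_H h hi).elim
  · exact Or.inr e'

end CfsgLib.Fusion.RankThree
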