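import Cfsg.Agent.Lib.Fusion.System.RankThree.FixedLine
import Cfsg.Agent.Lib.Fusion.System.RankThree.JIrreducible

/-!
# The torus on the centre of a group of order `p ^ 4`

If `E` is elementary of order `p ^ 3` with a transvection, the centre of `G` is the product of the
derived subgroup and the fixed line, and the automorphisms of `G` commute on it.
-/

set_option autoImplicit false
set_option linter.style.haveILetI false
set_option linter.unusedSectionVars false

open Subgroup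
open scoped commutatorElement

namespace CfsgLib.Fusion.RankThree

universe u

variable {G : Type u} [Group G] [Finite G] {p : ℕ} [Fact p.Prime] {E : Subgroup G} [E.Normal]
  {X : Subgroup (MulAut E)} {Γ : Subgroup (MulAut G)}

/-- The centre with the torus on it. -/
structure LineData (p : ℕ) (β : MulAut G) (w f : G) (b : ℤ) (L : Subgroup G) : Prop where
  wmem : w ∈ commutator G
  der : commutator G ≤ zpowers w
  wp : w ^ p = 1
  fp : f ^ p = 1
  fne : f ≠ 1
  fcen : f ∈ center G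
  wcen : w ∈ center G
  bw : β w = w ^ b
  bf : β f = f
  dec : ∀ z ∈ center G, ∃ i l : ℤ, z = w ^ i * f ^ l
  indep : ∀ i l : ℤ, w ^ i * f ^ l = 1 → (i : ZMod p) = 0 ∧ (l : ZMod p) = 0
  line : L = zpowers f

/-- The torus of a transvection on an elementary cube. -/
theorem Top.exists_lineData (h : Top p E X Γ) (hN : frn E = ⊥) (hc3 : Nat.card E = p ^ 3) {x : G}
    (hx : x ∉ E) (hd : ∀ e ∈ E, ⁅x, ⁅x, e⁆⁆ ∈ frn E)
    (hres : ∀ γ ∈ Γ, (∀ r ∈ E, γ r ∈ E) → ∃ α ∈ X, ∀ r : E, γ r = α r) {a b : ℤ}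
    (hab : ((a * b : ℤ) : ZMod p) = 1) (hb1 : (b : ZMod p) ≠ 1) (hb2 : (b : ZMod p) ^ 2 ≠ 1) :
    ∃ β ∈ Γ, ∃ w f : G, LineData p β w f b (lineSub E X) := by
  obtain ⟨β, hβ, e, f, hD⟩ := h.exists_tdata hx hd hab hb1 hb2
  obtain ⟨hLne, hLw⟩ := h.lineSub_spec hN hc3 hx hd
  have h1 : ∀ {y : G}, y ∈ frn E → y = 1 := fun hy => by rwa [hN, mem_bot] at hy
  have hexp : ∀ {y : G}, y ∈ E → y ^ p = 1 := fun hy => h1 (h.pow_frn hy)
  have hab' : ∀ {u v : G}, u ∈ E → v ∈ E → Commute u v := fun hu hv =>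
    commutatorElement_eq_one_iff_mul_comm.1 (h1 (h.comm_frn hu hv))
  have hxf : Commute x f := commutatorElement_eq_one_iff_mul_comm.1 (h1 hD.fx)
  have hwE : ⁅x, e⁆ ∈ E := by
    rw [commutatorElement_def]
    exact mul_mem ((inferInstance : E.Normal).conj_mem e hD.emem x) (inv_mem hD.emem)
  have hxw : Commute x ⁅x, e⁆ := commutatorElement_eq_one_iff_mul_comm.1 (h1 (hd e hD.emem))
  obtain ⟨w, hw⟩ : ∃ w, w = ⁅x, e⁆ := ⟨_, rfl⟩
  rw [← hw] at hwE hxw
  have hwne : w ≠ 1 := fun e' => hD.wne (by rw [← hw, e']; exact one_mem _)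
  have hcen : ∀ {r : G}, r ∈ E → Commute x r → r ∈ center G := fun {r} hr hxr => mem_center_iff.2 fun y => by
    obtain ⟨i, u, hu, rfl⟩ := h.decomp hx y
    exact ((hxr.zpow_left i).mul_left (hab' hu hr)).eq
  have hgen : ∀ r ∈ E, ∃ i j l : ℤ, r = w ^ i * e ^ j * f ^ l := fun r hr => by
    obtain ⟨i, j, l, hr'⟩ := hD.gen r hr
    exact ⟨i, j, l, by rw [hw]; exact inv_mul_eq_one.1 (h1 hr')⟩
  have hxe : ∀ j : ℤ, ⁅x, e ^ j⁆ = w ^ j := fun j => by
    rw [commutatorElement_def, ← conj_zpow, show x * e * x⁻¹ = w * e by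
      rw [hw, commutatorElement_def, inv_mul_cancel_right], (hab' hwE hD.emem).mul_zpow, mul_inv_cancel_right]
  have hcast : ∀ {y : G} {r s : ℤ}, y ∈ E → (r : ZMod p) = s → y ^ r = y ^ s := fun hy hrs =>
    LineTorus.zpow_congr (hexp hy) hrs
  have hxr : ∀ i j l : ℤ, ⁅x, w ^ i * e ^ j * f ^ l⁆ = w ^ j := fun i j l => by
    have hf' : ⁅x, f ^ l⁆ = 1 := commutatorElement_eq_one_iff_mul_comm.2 (hxf.zpow_right l).eq
    have hw' : ⁅x, w ^ i⁆ = 1 := commutatorElement_eq_one_iff_mul_comm.2 (hxw.zpow_right i).eq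
    rw [show ⁅x, w ^ i * e ^ j * f ^ l⁆ =
      ⁅x, w ^ i⁆ * (w ^ i * (⁅x, e ^ j⁆ * (e ^ j * ⁅x, f ^ l⁆ * (e ^ j)⁻¹)) * (w ^ i)⁻¹) by
      simp only [commutatorElement_def]; group, hf', hw', hxe]
    group
  have hfne : f ≠ 1 := fun hf1 => by
    have hle : E ≤ zpowers e ⊔ zpowers w := fun r hr => by
      obtain ⟨i, j, l, rfl⟩ := hgen r hr
      rw [hf1, one_zpow, mul_one]
      exact mul_mem (mem_sup_right (zpow_mem (mem_zpowers w) i)) (mem_sup_left (zpow_mem (mem_zpowers e) j))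
    haveI : (zpowers w).Normal := ⟨fun n hn g => by
      obtain ⟨k, rfl⟩ := mem_zpowers_iff.1 hn
      rw [mem_center_iff.1 ((center G).zpow_mem (hcen hwE hxw) k) g, mul_inv_cancel_right]
      exact zpow_mem (mem_zpowers _) k⟩
    have hc : Nat.card (zpowers e ⊔ zpowers w : Subgroup G) ∣ Nat.card (zpowers e) * Nat.card (zpowers w) :=
      CfsgLib.PGroup.card_sup_dvd_of_normal _ _
    have hp := (Fact.out : p.Prime)
    have h3 := (Subgroup.card_le_of_le hle).trans (Nat.le_of_dvd (Nat.mul_pos Nat.card_pos Nat.card_pos) hc)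
    rw [hc3, Nat.card_zpowers, Nat.card_zpowers] at h3
    have h4 := h3.trans (Nat.mul_le_mul (Nat.le_of_dvd hp.pos (orderOf_dvd_of_pow_eq_one (hexp hD.emem)))
      (Nat.le_of_dvd hp.pos (orderOf_dvd_of_pow_eq_one (hexp hwE))))
    rw [← pow_two] at h4
    exact absurd ((Nat.pow_le_pow_iff_right hp.one_lt).1 h4) (by norm_num)
  have hindep : ∀ i l : ℤ, w ^ i * f ^ l = 1 → (i : ZMod p) = 0 ∧ (l : ZMod p) = 0 := by
    intro i l hil
    have hl : (l : ZMod p) = 0 := by
      by_contra hl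
      refine hfne (hD.find ?_)
      rw [← hw]
      refine mem_of_zpow_mem (p := p) (by rw [hexp hD.fmem]; exact one_mem _) (m := l) ?_ hl
      rw [show f ^ l = (w ^ i)⁻¹ from eq_inv_of_mul_eq_one_right hil]
      exact inv_mem (zpow_mem (mem_sup_left (subset_closure (by simp))) i)
    refine ⟨?_, hl⟩
    rw [hcast hD.fmem (r := l) (s := 0) (by simpa using hl), zpow_zero, mul_one] at hil
    have := LineTorus.cast_of_zpow_eq (hexp hwE) hwne (r := i) (s := 0) (by rw [hil, zpow_zero])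
    simpa using this
  have hdec : ∀ z ∈ center G, ∃ i l : ℤ, z = w ^ i * f ^ l := fun z hz => by
    have hzE : z ∈ E := h.cent z fun u _ => (mem_center_iff.1 hz u).symm
    obtain ⟨i, j, l, rfl⟩ := hgen z hzE
    have h5 : w ^ j = 1 := by
      rw [← hxr i j l]; exact commutatorElement_eq_one_iff_mul_comm.2 (mem_center_iff.1 hz x)
    have hj : (j : ZMod p) = 0 := (hindep j 0 (by rw [h5, zpow_zero, mul_one])).1
    exact ⟨i, l, by rw [hcast hD.emem (r := j) (s := 0) (by simpa using hj), zpow_zero, mul_one]⟩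
  have hwc : w ∈ center G := hcen hwE hxw
  have hder : commutator G ≤ zpowers w := by
    haveI : (zpowers w).Normal := ⟨fun n hn g => by
      obtain ⟨k, rfl⟩ := mem_zpowers_iff.1 hn
      rw [mem_center_iff.1 ((center G).zpow_mem hwc k) g, mul_inv_cancel_right]
      exact zpow_mem (mem_zpowers _) k⟩
    refine commutator_le_of_generators (S := insert x (E : Set G)) (eq_top_iff.2 fun y _ => ?_) ?_
    · obtain ⟨i, r, hr, rfl⟩ := h.decomp hx y
      exact mul_mem (zpow_mem (subset_closure (Set.mem_insert _ _)) i)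
        (subset_closure (Set.mem_insert_of_mem _ hr))
    · rintro u (rfl | hu) v (rfl | hv)
      · rw [commutatorElement_self]; exact one_mem _
      · obtain ⟨i, j, l, rfl⟩ := hgen v hv
        rw [hxr]; exact zpow_mem (mem_zpowers _) j
      · obtain ⟨i, j, l, rfl⟩ := hgen u hu
        rw [← commutatorElement_inv, hxr]; exact inv_mem (zpow_mem (mem_zpowers _) j)
      · rw [commutatorElement_eq_one_iff_mul_comm.2 (hab' hu hv).eq]; exact one_mem _
  have hbw : β w = w ^ b := by rw [hw]; exact (inv_mul_eq_one.1 (h1 hD.wtw)).symm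
  have hbf : β f = f := (inv_mul_eq_one.1 (h1 hD.wtf)).symm
  refine ⟨β, hβ, w, f, hw ▸ by rw [_root_.commutator_def]; exact commutator_mem_commutator (mem_top x) (mem_top e),
    hder, hexp hwE, hexp hD.fmem, hfne, hcen hD.fmem hxf, hwc, hbw, hbf, hdec, hindep, ?_⟩
  obtain ⟨α, hα, hβα⟩ := hres β hβ hD.invE
  have hsub : lineSub E X ≤ zpowers f := by
    intro z hz
    obtain ⟨i, l, rfl⟩ := hdec z (lineSub_le_center hz)
    by_cases hi : (i : ZMod p) = 0
    · rw [hcast hwE (r := i) (s := 0) (by simpa using hi), zpow_zero, one_mul]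
      exact zpow_mem (mem_zpowers f) l
    exfalso
    have h6 := lineSub_inv hα ⟨_, lineSub_le hz⟩ hz
    rw [← hβα] at h6
    change β (w ^ i * f ^ l) ∈ lineSub E X at h6
    rw [map_mul, map_zpow, map_zpow, hbw, hbf, ← zpow_mul] at h6
    have h7 : w ^ (b * i - i) ∈ lineSub E X := by
      have := mul_mem h6 (inv_mem hz)
      rwa [mul_inv_rev, mul_assoc, mul_inv_cancel_left, ← zpow_neg, ← zpow_add, ← sub_eq_add_neg] at this
    have h8 : w ∈ lineSub E X := mem_of_zpow_mem (p := p) (by rw [hexp hwE]; exact one_mem _) h7 (by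
      push_cast
      intro e'
      refine hb1 ?_
      have h9 : (i : ZMod p) * ((b : ZMod p) - 1) = 0 := by linear_combination e'
      exact sub_eq_zero.1 ((mul_eq_zero.1 h9).resolve_left hi))
    exact hwne (hw ▸ hLw e hD.emem (hw ▸ h8))
  refine le_antisymm hsub (zpowers_le.2 ?_)
  obtain ⟨z, hz, hz1⟩ := (lineSub E X).bot_or_exists_ne_one.resolve_left hLne
  obtain ⟨l, rfl⟩ := mem_zpowers_iff.1 (hsub hz)
  refine mem_of_zpow_mem (p := p) (by rw [hexp hD.fmem]; exact one_mem _) hz fun hl => hz1 ?_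
  rw [hcast hD.fmem (r := l) (s := 0) (by simpa using hl), zpow_zero]

variable {β : MulAut G} {w f : G} {b : ℤ} {L : Subgroup G} (hL : LineData p β w f b L)
include hL

/-- The automorphisms of `G` in `Γ` commute on the centre. -/
theorem LineData.comm_center (hinn : ¬ p ∣ (MulAut.conj (G := G)).range.relIndex Γ)
    {γ δ : MulAut G} (hγ : γ ∈ Γ) (hδ : δ ∈ Γ) {z : G} (hz : z ∈ center G) : γ (δ z) = δ (γ z) := by
  have hp := (Fact.out : p.Prime)
  haveI : Finite (MulAut G) := Finite.of_injective (fun a : MulAut G => (a : G → G)) DFunLike.coe_injective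
  have hmem : ∀ σ : MulAut G, ∀ {y : G}, y ∈ center G → σ y ∈ center G := fun σ {y} hy =>
    (Subgroup.characteristic_iff_le_comap.1 (inferInstance : (center G).Characteristic) σ) hy
  have hwim : ∀ σ : MulAut G, ∃ m : ℤ, σ w = w ^ m := fun σ => by
    obtain ⟨m, hm⟩ := mem_zpowers_iff.1 (hL.der
      ((Subgroup.characteristic_iff_le_comap.1 (inferInstance : (commutator G).Characteristic) σ) hL.wmem))
    exact ⟨m, hm.symm⟩
  have hfim : ∀ σ : MulAut G, ∃ s t : ℤ, σ f = w ^ s * f ^ t := fun σ => hL.dec _ (hmem σ hL.fcen)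
  have hwf : Commute w f := (mem_center_iff.1 hL.wcen f).symm
  set c := (δ * γ)⁻¹ * (γ * δ) with hc
  obtain ⟨hcw, r, hcf⟩ : c w = w ∧ ∃ r : ℤ, c f = f * w ^ r := by
    obtain ⟨m, hm⟩ := hwim γ
    obtain ⟨n, hn⟩ := hwim δ
    obtain ⟨s, t, hst⟩ := hfim γ
    obtain ⟨s', t', hst'⟩ := hfim δ
    constructor
    · rw [hc, MulAut.mul_apply]
      refine (MulEquiv.symm_apply_eq _).2 ?_
      rw [MulAut.mul_apply, MulAut.mul_apply, hn, hm, map_zpow, map_zpow, hm, hn, ← zpow_mul, ← zpow_mul, mul_comm]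
    · obtain ⟨r0, hr0⟩ : ∃ r0 : ℤ, (γ * δ) f = (δ * γ) f * w ^ r0 := by
        refine ⟨m * s' + s * t' - (n * s + s' * t), ?_⟩
        rw [MulAut.mul_apply, MulAut.mul_apply, hst', hst, map_mul, map_mul, map_zpow, map_zpow, map_zpow,
          map_zpow, hm, hn, hst, hst', (hwf.zpow_zpow _ _).mul_zpow, (hwf.zpow_zpow _ _).mul_zpow,
          ← zpow_mul, ← zpow_mul, ← zpow_mul, ← zpow_mul, ← zpow_mul, ← zpow_mul, ← mul_assoc, ← mul_assoc,
          ← zpow_add, ← zpow_add]
        rw [mul_assoc _ (f ^ (t' * t)), (hwf.symm.zpow_zpow (t' * t) _).eq, ← mul_assoc, ← zpow_add]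
        congr 1
        · congr 1; ring
        · congr 1; ring
      obtain ⟨k, hk⟩ := hwim (δ * γ)⁻¹
      refine ⟨k * r0, ?_⟩
      rw [hc, MulAut.mul_apply, hr0, map_mul, MulAut.inv_apply_self, map_zpow, hk, ← zpow_mul]
  have hcz : ∀ y ∈ center G, c y = y := by
    set ψ := restrictAut (center G) Γ (fun σ _ y hy => hmem σ hy) with hψ
    have hcΓ : c ∈ Γ := Γ.mul_mem (Γ.inv_mem (Γ.mul_mem hδ hγ)) (Γ.mul_mem hγ hδ)
    have hpow : ∀ n : ℕ, (c ^ n) f = f * w ^ ((n : ℤ) * r) ∧ (c ^ n) w = w := by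
      intro n
      induction n with
      | zero => simp
      | succ n ih =>
        constructor
        · rw [pow_succ', MulAut.mul_apply, ih.1, map_mul, map_zpow, hcf, hcw, mul_assoc, ← zpow_add]
          congr 2; push_cast; ring
        · rw [pow_succ', MulAut.mul_apply, ih.2, hcw]
    have h1 : ψ ⟨c, hcΓ⟩ ^ p = 1 := by
      rw [← map_pow]
      refine MulEquiv.ext fun y => Subtype.ext ?_
      rw [hψ, restrictAut_coe]
      show (c ^ p) (y : G) = (y : G)
      obtain ⟨i, l, hil⟩ := hL.dec y y.2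
      rw [hil, map_mul, map_zpow, map_zpow, (hpow p).1, (hpow p).2, zpow_mul, zpow_natCast, hL.wp, one_zpow,
        mul_one]
    have h2 : ¬ p ∣ Nat.card ψ.range := by
      rw [← Subgroup.index_ker]
      refine fun hd => hinn (hd.trans ?_)
      refine Subgroup.index_dvd_of_le fun σ hσ => MonoidHom.mem_ker.2 (MulEquiv.ext fun y => Subtype.ext ?_)
      obtain ⟨g, hg⟩ := mem_subgroupOf.1 hσ
      rw [hψ, restrictAut_coe, ← hg]
      show g * (y : G) * g⁻¹ = (y : G)
      rw [mem_center_iff.1 y.2 g, mul_inv_cancel_right]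
    have h3 : ψ ⟨c, hcΓ⟩ = 1 := by
      by_contra hne
      refine h2 ?_
      rw [← orderOf_eq_prime h1 hne]
      exact Subgroup.orderOf_dvd_natCard ψ.range ⟨⟨c, hcΓ⟩, rfl⟩
    intro y hy
    have h4 := congrArg (fun σ : MulAut (center G) => ((σ ⟨y, hy⟩ : center G) : G)) h3
    simpa [hψ, restrictAut_coe] using h4
  exact (MulEquiv.symm_apply_eq (δ * γ)).1 (hcz z hz)

end CfsgLib.Fusion.RankThree
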