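import Cfsg.Agent.Lib.Fusion.System.RankThree.Layers
import Cfsg.Agent.Lib.Fusion.System.RankThree.TorusLine
import Cfsg.Agent.Lib.Fusion.System.RankThree.Structure

/-!
# A family of normal subgroups of index `p` without pearls

All members have the same shape and share a nontrivial subgroup invariant under their automizers.
-/

set_option autoImplicit false
set_option linter.style.haveILetI false
set_option linter.unusedSectionVars false

open Subgroup
open scoped commutatorElement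

namespace CfsgLib.Fusion.RankThree

universe u v

variable {G : Type u} [Group G] [Finite G] {p : ℕ} [Fact p.Prime] {I : Type v} {E : I → Subgroup G}
  [hn : ∀ i, (E i).Normal] {X : ∀ i, Subgroup (MulAut (E i))} {Γ : Subgroup (MulAut G)}

/-- The hypotheses on the family. -/
structure Family (p : ℕ) {G : Type u} [Group G] {I : Type v} (E : I → Subgroup G) [∀ i, (E i).Normal]
    (X : ∀ i, Subgroup (MulAut (E i))) (Γ : Subgroup (MulAut G)) : Prop where
  top : ∀ i, Top p (E i) (X i) Γ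
  res : ∀ i, ∀ γ ∈ Γ, (∀ r ∈ E i, γ r ∈ E i) → ∃ α ∈ X i, ∀ r : E i, γ r = α r
  inn : ¬ p ∣ (MulAut.conj (G := G)).range.relIndex Γ
  square : ∀ i, ¬ (Cfsg.IsElementaryAbelian p (E i) ∧ Nat.card (E i) = p ^ 2)
  cube : ∀ i, ¬ (Cfsg.IsExtraspecial p (E i) ∧ Nat.card (E i) = p ^ 3 ∧ ∀ u ∈ E i, u ^ p = 1)

/-- Commuting elementary subgroups of order `p ^ 3` coincide in sectional rank three. -/
theorem eq_of_commuting (hr : Cfsg.SectionalPRankLE p 3 G) {A B : Subgroup G}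
    (hA : ∀ a ∈ A, a ^ p = 1) (hB : ∀ a ∈ B, a ^ p = 1)
    (hAA : ∀ a ∈ A, ∀ b ∈ A, Commute a b) (hBB : ∀ a ∈ B, ∀ b ∈ B, Commute a b)
    (hAB : ∀ a ∈ A, ∀ b ∈ B, Commute a b) (hcA : Nat.card A = p ^ 3) (hcB : Nat.card B = p ^ 3) : A = B := by
  have hcomm : ∀ a ∈ A ⊔ B, ∀ b ∈ A ⊔ B, a * b = b * a := by
    have hcl : A ⊔ B = closure ((A : Set G) ∪ B) := by rw [Subgroup.closure_union, Subgroup.closure_eq, Subgroup.closure_eq]
    intro a ha b hb
    rw [hcl] at ha hb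
    exact congrArg Subtype.val ((isMulCommutative_closure (k := (A : Set G) ∪ B) (by
      rintro u (hu | hu) v (hv | hv)
      · exact hAA u hu v hv
      · exact hAB u hu v hv
      · exact (hAB v hv u hu).symm
      · exact hBB u hu v hv)).is_comm.comm (⟨a, ha⟩ : closure ((A : Set G) ∪ B)) ⟨b, hb⟩)
  have hexp : ∀ a ∈ A ⊔ B, a ^ p = 1 := by
    intro a ha
    rw [← SetLike.mem_coe, sup_eq_closure_mul] at ha
    refine closure_induction (p := fun y _ => y ^ p = 1) ?_ (one_pow p) ?_ (fun y _ hy => by rw [inv_pow, hy, inv_one]) ha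
    · rintro _ ⟨u, hu, v, hv, rfl⟩
      show (u * v) ^ p = 1
      rw [(hAB u hu v hv).mul_pow, hA u hu, hB v hv, one_mul]
    · intro y z hy' hz' hy hz
      rw [← sup_eq_closure_mul] at hy' hz'
      rw [(show Commute y z from hcomm y hy' z hz').mul_pow, hy, hz, one_mul]
  set π := QuotientGroup.mk' (⊥ : Subgroup G) with hπ
  have hinj : Function.Injective π := (MonoidHom.ker_eq_bot_iff π).1 (QuotientGroup.ker_mk' _)
  have hle : Nat.card (A ⊔ B : Subgroup G) ≤ p ^ 3 := by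
    rw [← card_map_of_injective (K := A ⊔ B) hinj]
    refine card_le_of_section hr ⊥ _ ?_ ?_
    · rintro _ ⟨a, ha, rfl⟩ _ ⟨b, hb, rfl⟩
      rw [← map_mul, ← map_mul, hcomm a ha b hb]
    · rintro _ ⟨a, ha, rfl⟩
      rw [← map_pow, hexp a ha, map_one]
  exact (eq_of_le_of_card_ge le_sup_left (hcA ▸ hle)).trans (eq_of_le_of_card_ge le_sup_right (hcB ▸ hle)).symm

/-- The index of `kc p G 2` in the irreducible case. -/
theorem JData.card_facts {F : Subgroup G} [F.Normal] {Y : Subgroup (MulAut F)} {x e : G} {H W : Subgroup G}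
    (h : Top p F Y Γ) (hJ : JData p F x e H W) (hc : Nat.card F = p ^ 3 * Nat.card (frn F)) :
    Nat.card G = p ^ 3 * Nat.card (kc p G 2) ∧ Nat.card G = p ^ 4 * Nat.card (frn F) ∧
      (frn F ≠ ⊥ → Nat.card G ≤ p ^ 3 * Nat.card (kc p G 3)) := by
  haveI := hJ.Wn
  have hG4 : Nat.card G = p ^ 4 * Nat.card (frn F) := by rw [h.index, hc]; ring
  refine ⟨?_, hG4, fun hN => ?_⟩
  · rw [← hJ.W_eq h, hJ.cW, hG4]; ring
  · obtain ⟨d, hd⟩ := hJ.exists_d h
    have hd0 := (hJ.relation h ((hJ.dichotomy h).resolve_left hN) hd).1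
    have hNK : frn F ≤ kc p G 3 := (hJ.frn_le_epow h).trans ((closure_le _).2 (by
      rintro _ ⟨r, rfl⟩; exact pow_mem_kc 3 _))
    have hw : ⁅x, ⁅x, e⁆⁆ ^ d ∈ kc p G 3 := by
      have := mul_mem (pow_mem_kc (p := p) 3 x) (inv_mem (hNK hd))
      rwa [mul_inv_rev, inv_inv, mul_inv_cancel_left] at this
    have hw2 := mem_of_zpow_mem (pow_mem_kc (p := p) 3 _) hw hd0
    have hle : W ≤ kc p G 3 := fun y hy => by
      obtain ⟨k, hk⟩ := exists_zpow_inv_mul_mem h.pgroup hJ.nW hJ.cW hJ.w2 hJ.w2N hy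
      have := mul_mem (zpow_mem hw2 k) (hNK hk)
      rwa [mul_inv_cancel_left] at this
    calc Nat.card G = p ^ 3 * Nat.card W := by rw [hJ.cW, hG4]; ring
      _ ≤ _ := Nat.mul_le_mul_left _ (Subgroup.card_le_of_le hle)

/-- An abelian subgroup of order `p ^ 3` above the Frattini subgroup is `F`. -/
theorem JData.eq_abelian {F : Subgroup G} [F.Normal] {Y : Subgroup (MulAut F)} {x e : G} {H W : Subgroup G}
    (h : Top p F Y Γ) (hJ : JData p F x e H W) (hN : frn F = ⊥) {A : Subgroup G}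
    (hA : ∀ a ∈ A, ∀ b ∈ A, Commute a b) (hle : frattini G ≤ A) (hc : Nat.card A = Nat.card F) : A = F := by
  refine eq_of_le_of_card_ge (fun y hy => ?_) hc.ge
  by_contra hyF
  obtain ⟨i, r, hr, rfl⟩ := h.decomp hJ.xmem y
  have hwA : ⁅x, e⁆ ∈ A := hle (hJ.H_eq h ▸ hJ.w1)
  have hwF : ⁅x, e⁆ ∈ F := hJ.HE hJ.w1
  have hrw : Commute r ⁅x, e⁆ := by
    have := h.comm_frn hr hwF
    rwa [hN, mem_bot, commutatorElement_eq_one_iff_mul_comm] at this
  have hxi : x ^ i ∈ centralizer ({⁅x, e⁆} : Set G) := mem_centralizer_singleton_iff.2 (by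
    have h1 := (hA _ hy _ hwA).mul_left hrw.inv_left
    rwa [mul_inv_cancel_right] at h1)
  have hxp : x ^ p ∈ centralizer ({⁅x, e⁆} : Set G) := mem_centralizer_singleton_iff.2 (by
    have := h.comm_frn (h.pow_mem x) hwF
    rw [hN, mem_bot, commutatorElement_eq_one_iff_mul_comm] at this
    exact this)
  have hi : (i : ZMod p) ≠ 0 := fun hi => by
    refine hyF (mul_mem ?_ hr)
    obtain ⟨k, rfl⟩ := (ZMod.intCast_zmod_eq_zero_iff_dvd i p).1 hi
    rw [zpow_mul, zpow_natCast]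
    exact zpow_mem (h.pow_mem x) k
  have hxw := mem_centralizer_singleton_iff.1 (mem_of_zpow_mem hxp hxi hi)
  refine hJ.w2N ?_
  rw [commutatorElement_eq_one_iff_mul_comm.2 hxw]
  exact one_mem _

variable (h : Family p E X Γ)
include h

/-- The family has a nontrivial common invariant subgroup. -/
theorem Family.exists_invariant (i₀ : I) :
    ∃ Q : Subgroup G, Q ≠ ⊥ ∧ (∀ γ ∈ Γ, ∀ q ∈ Q, γ q ∈ Q) ∧ ∀ i, Q ≤ E i ∧ InvE (X i) Q := by
  classical
  have hp := (Fact.out : p.Prime)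
  have hG := (h.top i₀).pgroup
  have h5 := (h.top i₀).five
  have h34 : ∀ {n : ℕ}, 0 < n → p ^ 4 * n ≤ p ^ 3 * n → False := fun {n} hn' hle =>
    absurd ((Nat.pow_le_pow_iff_right hp.one_lt).1 (Nat.le_of_mul_le_mul_right hle hn')) (by norm_num)
  obtain ⟨a, b, hab, hb1, hb2, hb3, hb5⟩ := exists_weights (p := p) h5
  have hchar : ∀ (K : Subgroup G) [K.Characteristic], ∀ γ : MulAut G, ∀ q ∈ K, γ q ∈ K := fun K hK γ q hq =>
    (Subgroup.characteristic_iff_le_comap.1 hK γ) hq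
  have hfr : ∀ i, InvE (X i) (frn (E i)) := fun i => (h.top i).invE_frn
  -- planes
  have hU : ∀ i, Nat.card (E i) ≤ p ^ 2 * Nat.card (frn (E i)) →
      Nat.card G = p ^ 3 * Nat.card (kc p G 2) ∧ Nat.card G = p ^ 4 * Nat.card (kc p G 3) ∧
        kc p G 3 ≠ ⊥ ∧ kc p G 3 ≤ E i ∧ InvE (X i) (kc p G 3) := by
    intro i hc
    have hT := h.top i
    obtain ⟨x, hx⟩ := hT.exists_notMem
    obtain ⟨β, -, e, f, hD⟩ := hT.exists_tdata hx (hT.plane_tdata hc hx) hab hb1 hb2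
    obtain ⟨hle, hcard, hinv, hbot⟩ := hT.plane_kc hc (h.square i)
    refine ⟨?_, ?_, fun hb => h.cube i (hbot hb), hle, hinv⟩
    · rw [hT.index, (hD.card_wline hT hc).2, (hD.card_wline hT hc).1, ← hD.frn_eq]; ring
    · rw [hT.index, hcard]; ring
  have hJ : ∀ i, ¬ Nat.card (E i) ≤ p ^ 2 * Nat.card (frn (E i)) →
      (∀ x ∉ E i, ∀ e ∈ E i, ⁅x, ⁅x, e⁆⁆ ∈ frn (E i)) ∨
      ∃ x e H W, JData p (E i) x e H W ∧ Nat.card (E i) = p ^ 3 * Nat.card (frn (E i)) := by
    intro i hc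
    by_cases hd : ∀ x ∉ E i, ∀ e ∈ E i, ⁅x, ⁅x, e⁆⁆ ∈ frn (E i)
    · exact Or.inl hd
    push Not at hd
    obtain ⟨x, hx, e, he, hne⟩ := hd
    obtain ⟨e, H, W, hJ, hcard⟩ := (h.top i).exists_jdata hx fun hall => hne (hall e he)
    exact Or.inr ⟨x, e, H, W, hJ, hcard⟩
  have hT2 : ∀ i, ¬ Nat.card (E i) ≤ p ^ 2 * Nat.card (frn (E i)) →
      (∀ x ∉ E i, ∀ e ∈ E i, ⁅x, ⁅x, e⁆⁆ ∈ frn (E i)) →
      frn (E i) = kc p G 2 ∧ Nat.card G = p ^ 4 * Nat.card (kc p G 2) := by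
    intro i hc hd
    have hT := h.top i
    obtain ⟨x, hx⟩ := hT.exists_notMem
    obtain ⟨β, -, e, f, hD⟩ := hT.exists_tdata hx (hd x hx) hab hb1 hb2
    refine ⟨hD.frn_eq, ?_⟩
    rw [hT.index, hT.card_cube hc, ← hD.frn_eq]; ring
  by_cases hplane : ∃ i, Nat.card (E i) ≤ p ^ 2 * Nat.card (frn (E i))
  · obtain ⟨i₁, hi₁⟩ := hplane
    obtain ⟨hk2, hk3, hne, -, -⟩ := hU i₁ hi₁
    refine ⟨kc p G 3, hne, fun γ _ => hchar _ γ, fun i => ?_⟩
    by_cases hc : Nat.card (E i) ≤ p ^ 2 * Nat.card (frn (E i))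
    · exact ⟨(hU i hc).2.2.2.1, (hU i hc).2.2.2.2⟩
    exfalso
    rcases hJ i hc with hd | ⟨x, e, H, W, hJi, hcard⟩
    · exact h34 Nat.card_pos ((hT2 i hc hd).2 ▸ hk2).le
    · obtain ⟨-, hG4, hK3⟩ := hJi.card_facts (h.top i) hcard
      by_cases hN : frn (E i) = ⊥
      · rw [hN, card_bot, hk3] at hG4
        exact hne (eq_bot_of_card_eq _ (Nat.eq_of_mul_eq_mul_left (pow_pos hp.pos 4) hG4))
      · exact h34 Nat.card_pos (hk3 ▸ hK3 hN)
  push Not at hplane
  have hplane' : ∀ i, ¬ Nat.card (E i) ≤ p ^ 2 * Nat.card (frn (E i)) := fun i => not_le.2 (hplane i)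
  by_cases hirr : ∃ i x e H W, JData p (E i) x e H W ∧ Nat.card (E i) = p ^ 3 * Nat.card (frn (E i))
  · obtain ⟨i₁, x₁, e₁, H₁, W₁, hJ₁, hc₁⟩ := hirr
    have hall : ∀ i, ∃ x e H W, JData p (E i) x e H W ∧ Nat.card (E i) = p ^ 3 * Nat.card (frn (E i)) := by
      intro i
      refine (hJ i (hplane' i)).resolve_left fun hd => ?_
      exact h34 Nat.card_pos (((hT2 i (hplane' i) hd).2.symm.trans (hJ₁.card_facts (h.top i₁) hc₁).1)).le
    have hHle : ∀ i, frattini G ≤ E i := fun i => by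
      obtain ⟨x, e, H, W, hJi, -⟩ := hall i
      exact hJi.H_eq (h.top i) ▸ hJi.HE
    by_cases hN : frn (E i₁) = ⊥
    · have hzero : ∀ i, frn (E i) = ⊥ := fun i => by
        obtain ⟨x, e, H, W, hJi, hci⟩ := hall i
        have e1 := (hJi.card_facts (h.top i) hci).2.1
        have e2 := (hJ₁.card_facts (h.top i₁) hc₁).2.1
        rw [e2, hN, card_bot] at e1
        exact eq_bot_of_card_eq _ (Nat.eq_of_mul_eq_mul_left (pow_pos hp.pos 4) e1).symm
      have hab1 : ∀ i, ∀ u ∈ E i, ∀ v ∈ E i, Commute u v := fun i u hu v hv => by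
        have := (h.top i).comm_frn hu hv
        rw [hzero, mem_bot, commutatorElement_eq_one_iff_mul_comm] at this
        exact this
      have hcard : ∀ i, Nat.card (E i) = Nat.card (E i₁) := fun i => by
        obtain ⟨x, e, H, W, hJi, hci⟩ := hall i
        rw [hci, hc₁, hzero, hN]
      have heq : ∀ i, E i = E i₁ := fun i =>
        hJ₁.eq_abelian (h.top i₁) hN (hab1 i) (hHle i) (hcard i)
      refine ⟨E i₁, fun hb => hJ₁.eH ?_, fun γ _ q hq => ?_, fun i => ⟨(heq i).ge, ?_⟩⟩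
      · rw [show e₁ = 1 from mem_bot.1 (hb ▸ hJ₁.emem)]; exact one_mem _
      · have himg : (E i₁).map γ.toMonoidHom = E i₁ := by
          refine hJ₁.eq_abelian (h.top i₁) hN ?_ ?_ (card_map_of_injective γ.injective)
          · rintro _ ⟨u, hu, rfl⟩ _ ⟨v, hv, rfl⟩
            exact (hab1 i₁ u hu v hv).map γ.toMonoidHom
          · intro y hy
            exact ⟨γ.symm y, hHle i₁ (hchar (frattini G) γ.symm y hy), γ.apply_symm_apply y⟩
        exact himg ▸ mem_map_of_mem _ hq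
      · intro α _ r _
        exact (heq i) ▸ (α r).2
    · have hne : ∀ i, frn (E i) ≠ ⊥ := fun i hb => by
        obtain ⟨x, e, H, W, hJi, hci⟩ := hall i
        have e1 := (hJi.card_facts (h.top i) hci).2.1
        have e2 := (hJ₁.card_facts (h.top i₁) hc₁).2.1
        rw [e2, hb, card_bot] at e1
        exact hN (eq_bot_of_card_eq _ (Nat.eq_of_mul_eq_mul_left (pow_pos hp.pos 4) e1))
      have hlayer : ∀ i, ∃ M : Subgroup G, M ≤ frn (E i) ∧ M ≤ frattini G ∧ InvE (X i) M ∧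
          Nat.card M = p ^ 3 ∧ (∀ a ∈ M, a ^ p = 1) ∧ ∀ a ∈ M, ∀ r ∈ E i, Commute a r := fun i => by
        obtain ⟨x, e, H, W, hJi, hci⟩ := hall i
        obtain ⟨M, h1, h2, h3, h4, h5⟩ := hJi.exists_layer (h.top i) (hne i) hci
        exact ⟨M, h1, hJi.H_eq (h.top i) ▸ (h1.trans hJi.nW).trans hJi.WH, h2, h3, h4, h5⟩
      choose M hMN hMH hMX hMc hMp hMz using hlayer
      have hMM : ∀ i, ∀ a ∈ M i, ∀ b ∈ M i, Commute a b := fun i a ha b hb =>
        hMz i a ha b (frn_le _ (hMN i hb))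
      have heq : ∀ i, M i = M i₁ := fun i => eq_of_commuting (h.top i₁).rank (hMp i) (hMp i₁) (hMM i) (hMM i₁)
        (fun a ha b hb => hMz i a ha b (hHle i (hMH i₁ hb))) (hMc i) (hMc i₁)
      refine ⟨M i₁, fun hb => ?_, fun γ _ q hq => ?_,
        fun i => ⟨(hMH i₁).trans (hHle i), heq i ▸ hMX i⟩⟩
      · have := hMc i₁
        rw [hb, card_bot] at this
        exact (Nat.one_lt_pow (by norm_num) hp.one_lt).ne this
      · have himg : M i₁ = (M i₁).map γ.toMonoidHom := by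
          refine eq_of_commuting (h.top i₁).rank (hMp i₁) ?_ (hMM i₁) ?_ ?_ (hMc i₁)
            ((card_map_of_injective γ.injective).trans (hMc i₁))
          · rintro _ ⟨u, hu, rfl⟩
            rw [← map_pow, hMp i₁ u hu, map_one]
          · rintro _ ⟨u, hu, rfl⟩ _ ⟨v, hv, rfl⟩
            exact (hMM i₁ u hu v hv).map γ.toMonoidHom
          · rintro u hu _ ⟨v, hv, rfl⟩
            exact hMz i₁ u hu _ (hHle i₁ (hchar (frattini G) γ v (hMH i₁ hv)))
        exact himg.symm ▸ mem_map_of_mem _ hq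
  push Not at hirr
  have htr : ∀ i, ∀ x ∉ E i, ∀ e ∈ E i, ⁅x, ⁅x, e⁆⁆ ∈ frn (E i) := fun i =>
    (hJ i (hplane' i)).resolve_right fun ⟨x, e, H, W, hJi, hci⟩ => hirr i x e H W hJi hci
  by_cases hK : kc p G 2 = ⊥
  swap
  · refine ⟨kc p G 2, hK, fun γ _ => hchar _ γ, fun i => ?_⟩
    rw [← (hT2 i (hplane' i) (htr i)).1]
    exact ⟨frn_le _, hfr i⟩
  have hzero : ∀ i, frn (E i) = ⊥ := fun i => (hT2 i (hplane' i) (htr i)).1.trans hK
  have hcube : ∀ i, Nat.card (E i) = p ^ 3 := fun i => by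
    rw [(h.top i).card_cube (hplane' i), hzero, card_bot, mul_one]
  have hdata : ∀ i, ∃ β ∈ Γ, ∃ w f : G, LineData p β w f b (lineSub (E i) (X i)) := fun i => by
    obtain ⟨x, hx⟩ := (h.top i).exists_notMem
    exact (h.top i).exists_lineData (hzero i) (hcube i) hx (htr i x hx) (h.res i) hab hb1 hb2
  choose β hβ w f hL using hdata
  have hbne : ∀ {i : ℤ}, ((b * i : ℤ) : ZMod p) = (i : ZMod p) → (i : ZMod p) = 0 := fun {i} e' => by
    push_cast at e'
    have h9 : ((b : ZMod p) - 1) * (i : ZMod p) = 0 := by linear_combination e'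
    exact (mul_eq_zero.1 h9).resolve_left (sub_ne_zero.2 hb1)
  have hfixed : ∀ i, ∀ z ∈ center G, β i z = z → z ∈ zpowers (f i) := fun i z hz hfx => by
    obtain ⟨s, t, rfl⟩ := (hL i).dec z hz
    rw [map_mul, map_zpow, map_zpow, (hL i).bw, (hL i).bf, mul_left_inj, ← zpow_mul] at hfx
    have h1 : w i ^ s = 1 := by
      rw [LineTorus.zpow_congr (hL i).wp (r := s) (s := 0) (by
        by_cases hw1 : w i = 1
        · exact absurd ((hL i).indep 1 0 (by rw [hw1]; simp)).1 (by push_cast; exact one_ne_zero)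
        · simpa using hbne (LineTorus.cast_of_zpow_eq (hL i).wp hw1 hfx)), zpow_zero]
    rw [h1, one_mul]
    exact zpow_mem (mem_zpowers _) t
  have hinv : ∀ i, ∀ γ ∈ Γ, γ (f i) ∈ zpowers (f i) := fun i γ hγ => by
    refine hfixed i _ (hchar (center G) γ _ (hL i).fcen) ?_
    rw [(hL i).comm_center h.inn (hβ i) hγ (hL i).fcen, (hL i).bf]
  refine ⟨lineSub (E i₀) (X i₀), ?_, ?_, fun i => ?_⟩
  · rw [(hL i₀).line, Ne, zpowers_eq_bot]
    exact (hL i₀).fne
  · intro γ hγ q hq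
    rw [(hL i₀).line] at hq ⊢
    obtain ⟨k, rfl⟩ := mem_zpowers_iff.1 hq
    rw [map_zpow]
    exact zpow_mem (hinv i₀ γ hγ) k
  have heq : lineSub (E i) (X i) = lineSub (E i₀) (X i₀) := by
    rw [(hL i).line, (hL i₀).line]
    obtain ⟨k, hk⟩ := mem_zpowers_iff.1 (hinv i₀ (β i) (hβ i))
    obtain ⟨s, t, hst⟩ := (hL i).dec (f i₀) (hL i₀).fcen
    have ht : (t : ZMod p) ≠ 0 := fun ht => by
      rw [LineTorus.zpow_congr (hL i).fp (r := t) (s := 0) (by simpa using ht), zpow_zero, mul_one] at hst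
      obtain ⟨m, hm⟩ := mem_zpowers_iff.1 ((hL i₀).der ((commutator G).zpow_mem (hL i).wmem s))
      rw [← hst] at hm
      have := ((hL i₀).indep (-m) 1 (by rw [zpow_one, zpow_neg, hm, inv_mul_cancel])).2
      push_cast at this
      exact one_ne_zero this
    have h1 : w i ^ (b * s - k * s) * f i ^ (t - k * t) = 1 := by
      have hwf : Commute (w i) (f i) := (mem_center_iff.1 (hL i).wcen _).symm
      have e1 : w i ^ (b * s) * f i ^ t = w i ^ (s * k) * f i ^ (t * k) := by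
        have e0 := congrArg (β i) hst
        rw [map_mul, map_zpow, map_zpow, (hL i).bw, (hL i).bf, ← hk, hst, (hwf.zpow_zpow s t).mul_zpow,
          ← zpow_mul, ← zpow_mul, ← zpow_mul] at e0
        exact e0.symm
      rw [zpow_sub, zpow_sub, mul_comm k s, mul_comm k t,
        show w i ^ (b * s) * (w i ^ (s * k))⁻¹ * (f i ^ t * (f i ^ (t * k))⁻¹) =
          w i ^ (b * s) * ((w i ^ (s * k))⁻¹ * f i ^ t) * (f i ^ (t * k))⁻¹ by group,
        ((hwf.zpow_zpow (s * k) t).inv_left).eq, ← mul_assoc, e1, (hwf.zpow_zpow (s * k) (t * k)).eq]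
      group
    obtain ⟨h2, h3⟩ := (hL i).indep _ _ h1
    push_cast at h2 h3
    have hk1 : (k : ZMod p) = 1 := by
      have : (t : ZMod p) * (1 - k) = 0 := by linear_combination h3
      exact (sub_eq_zero.1 ((mul_eq_zero.1 this).resolve_left ht)).symm
    have hs : (s : ZMod p) = 0 := hbne (by push_cast; linear_combination h2 + (s : ZMod p) * hk1)
    rw [LineTorus.zpow_congr (hL i).wp (r := s) (s := 0) (by simpa using hs), zpow_zero, one_mul] at hst
    refine (eq_of_le_of_card_ge (zpowers_le.2 (hst ▸ zpow_mem (mem_zpowers _) t)) (le_of_eq ?_)).symm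
    rw [Nat.card_zpowers, Nat.card_zpowers, orderOf_eq_prime (hL i).fp (hL i).fne,
      orderOf_eq_prime (hL i₀).fp (hL i₀).fne]
  rw [← heq]
  exact ⟨lineSub_le, fun α hα r hr => lineSub_inv hα r hr⟩

end CfsgLib.Fusion.RankThree
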