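import Cfsg.Agent.Lib.Fusion.System.RankThree.Essential
import Cfsg.Agent.Lib.Fusion.System.RankThree.Endgame
import Cfsg.Agent.Lib.Fusion.System.Normal

/-!
# A system of sectional rank three without normal subgroups has a pearl
-/

set_option autoImplicit false
set_option linter.style.haveILetI false
set_option linter.unusedSectionVars false

open Subgroup

namespace CfsgLib.Fusion.RankThree

open Cfsg (FusionSystem autInducedBy)
open Cfsg.FusionSystem (normalizerIn)

universe u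

variable {Ω : Type u} [Group Ω] {S : Subgroup Ω} [Finite S] {p : ℕ} [Fact p.Prime] {F : FusionSystem S}
  {E : Subgroup Ω}

variable (hp5 : 5 ≤ p) (hS : IsPGroup p S) (hr : Cfsg.SectionalPRankLE p 3 S) (hF : F.IsSaturated p)
  (hE : F.IsEssential p E)
include hp5 hS hr hF hE

/-- The data of an essential subgroup inside any name of its normalizer. -/
theorem exists_top_in (N : Subgroup Ω) (hN : normalizerIn S E = N) :
    ∃ (_ : (E.subgroupOf N).Normal) (X : Subgroup (MulAut (E.subgroupOf N))),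
      Top p (E.subgroupOf N) X (F.autGroup N) ∧
      (∀ γ ∈ F.autGroup N, (∀ r ∈ E.subgroupOf N, γ r ∈ E.subgroupOf N) →
        ∃ α ∈ X, ∀ r : E.subgroupOf N, γ r = α r) ∧
      (∀ α ∈ F.autGroup E, ∀ Q : Subgroup N, Q ≤ E.subgroupOf N → InvE X Q →
        ∀ q ∈ Q, autFun α (q : Ω) ∈ Q.map N.subtype) := by
  subst hN
  have hES := hE.1.1
  have hle := le_normalizerIn (S := S) hES
  haveI := finite_of_le hES
  refine ⟨inNrm_normal S E, nrmAut F hES, nrm_top hp5 hS hr hF hE, fun γ hγ hγE => ?_, fun α hα Q hQE hQi q hq => ?_⟩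
  · have hm := ((mem_autGroup_iff inf_le_left).1 hγ).mono hle
    have himg : img E (autFun γ) = E := by
      refine img_eq_of_map_le hES hm le_rfl fun x hx => ?_
      rw [autFun_apply γ (hle hx)]
      exact hγE ⟨x, hle hx⟩ hx
    refine ⟨(MulAut.congr (subgroupOfEquivOfLe hle)).symm (autOf hm himg),
      (mem_nrmAut_iff hES).2 (by rw [MulEquiv.apply_symm_apply]; exact autOf_mem hm himg), fun r => Subtype.ext ?_⟩
    have h1 := autFun_autOf hm himg (x := ((r : normalizerIn S E) : Ω)) (mem_subgroupOf.1 r.2)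
    rw [autFun_apply _ (mem_subgroupOf.1 r.2)] at h1
    refine Eq.trans ?_ (h1.symm.trans rfl)
    exact (autFun_coe γ (r : normalizerIn S E)).symm
  · set α' := (MulAut.congr (subgroupOfEquivOfLe hle)).symm α with hα'
    have hα'X : α' ∈ nrmAut F hES := (mem_nrmAut_iff hES).2 (by rw [hα', MulEquiv.apply_symm_apply]; exact hα)
    refine ⟨(α' ⟨q, hQE hq⟩ : normalizerIn S E), hQi α' hα'X ⟨q, hQE hq⟩ hq, ?_⟩
    rw [autFun_apply α (mem_subgroupOf.1 (hQE hq))]
    rfl

omit hE

/-- The main statement. -/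
theorem exists_pearl (hO : F.core = ⊥) (hnot : ¬ Cfsg.SectionalPRankLE p 2 S) :
    ∃ E : Subgroup Ω, F.IsEssential p E ∧ ((Cfsg.IsElementaryAbelian p E ∧ Nat.card E = p ^ 2) ∨
      (Cfsg.IsExtraspecial p ↥E ∧ Nat.card E = p ^ 3 ∧ ∀ x ∈ E, x ^ p = 1)) := by
  by_contra hcon
  push Not at hcon
  haveI := finite_mulAut (P := S)
  have hnorm : ∀ E, F.IsEssential p E → normalizerIn S E = S := fun E hE =>
    inf_eq_left.2 ((pearl_or_le_normalizer hp5 hS hr hF hE).resolve_left fun hp => (hcon E hE).1 hp.1 hp.2)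
  let I := {E : Subgroup Ω // F.IsEssential p E}
  choose hn X hTop hres hinv using fun i : I => exists_top_in hp5 hS hr hF i.2 S (hnorm i i.2)
  have hinn : autInducedBy S S = (MulAut.conj (G := S)).range := by
    ext α
    rw [mem_autInducedBy_iff]
    constructor
    · rintro ⟨g, hg, hα⟩
      refine ⟨⟨g, hg⟩, MulEquiv.ext fun x => Subtype.ext ?_⟩
      rw [← autFun_coe α x, hα x x.2]
      rfl
    · rintro ⟨g, rfl⟩
      exact ⟨g, g.2, fun x hx => by rw [autFun_apply _ hx]; rfl⟩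
  have hsyl : ¬ p ∣ (MulAut.conj (G := S)).range.relIndex (F.autGroup S) := by
    rw [← hinn]
    exact ((isFullyAutomized_iff hS).1 (IsSaturated.automized_receptive hS hF isFullyNormalized_self).1).2
  have hfam : Family p (fun i : I => (i : Subgroup Ω).subgroupOf S) X (F.autGroup S) := by
    refine ⟨hTop, hres, hsyl, fun i hi => ?_, fun i hi => ?_⟩
    · obtain ⟨⟨hcomm, hexp⟩, hcard⟩ := hi
      refine (hcon i i.2).1 ⟨⟨⟨fun a b => ?_⟩⟩, fun a ha => ?_⟩ ?_
      · have h1 := hcomm.is_comm.comm ((subgroupOfEquivOfLe i.2.1.1).symm a) ((subgroupOfEquivOfLe i.2.1.1).symm b)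
        rw [← map_mul, ← map_mul] at h1
        exact (subgroupOfEquivOfLe i.2.1.1).symm.injective h1
      · exact congrArg Subtype.val (hexp (⟨a, i.2.1.1 ha⟩ : S) ha)
      · rw [← Nat.card_congr (subgroupOfEquivOfLe i.2.1.1).toEquiv]; exact hcard
    · obtain ⟨hex, hcard, hexp⟩ := hi
      obtain ⟨x, hx, hx1⟩ := (hcon i i.2).2
        (CfsgLib.Spor.CoTwoInv.isExtraspecial_of_equiv (subgroupOfEquivOfLe i.2.1.1) hex)
        (by rw [← Nat.card_congr (subgroupOfEquivOfLe i.2.1.1).toEquiv]; exact hcard)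
      exact hx1 (congrArg Subtype.val (hexp ⟨x, i.2.1.1 hx⟩ hx))
  suffices hQ : ∃ Q : Subgroup S, Q ≠ ⊥ ∧ (∀ γ ∈ F.autGroup S, ∀ q ∈ Q, γ q ∈ Q) ∧
      ∀ i : I, Q ≤ (i : Subgroup Ω).subgroupOf S ∧ InvE (X i) Q by
    obtain ⟨Q, hQne, hQS, hQE⟩ := hQ
    refine hQne ?_
    have hQle : Q.map S.subtype ≤ S := map_subtype_le _
    have hnQ : F.IsNormal (Q.map S.subtype) := by
      refine isNormal_of_invariant hS hF hQle fun P hP => ?_
      rcases hP with hP | hP
      · subst hP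
        refine ⟨hQle, fun α hα => img_eq_of_map_le hQle ((mem_autGroup_iff le_rfl).1 hα) hQle ?_⟩
        rintro _ ⟨q, hq, rfl⟩
        exact ⟨α q, hQS α hα q hq, (autFun_coe α q).symm⟩
      · have hQP : Q.map S.subtype ≤ P := by
          rintro _ ⟨q, hq, rfl⟩
          exact (hQE ⟨P, hP⟩).1 hq
        refine ⟨hQP, fun α hα => img_eq_of_map_le hQle ((mem_autGroup_iff hP.1.1).1 hα) hQP ?_⟩
        rintro _ ⟨q, hq, rfl⟩
        exact hinv ⟨P, hP⟩ α hα Q (hQE ⟨P, hP⟩).1 (hQE ⟨P, hP⟩).2 q hq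
    exact (map_eq_bot_iff_of_injective _ S.subtype_injective).1 (le_bot_iff.1 ((le_core hnQ).trans hO.le))
  by_cases hI : Nonempty I
  · exact @Family.exists_invariant _ _ _ p _ I _ hn X (F.autGroup S) hfam hI.some
  refine ⟨⊤, fun htop => hnot fun H N hN A hA hAe => ?_, fun γ _ q _ => mem_top _, fun i => absurd ⟨i⟩ hI⟩
  have hS1 : ∀ s : S, s = 1 := fun s => mem_bot.1 (htop ▸ mem_top s)
  have hA1 : ∀ a : A, a = 1 := fun a => Subtype.ext (by
    obtain ⟨h, hh⟩ := QuotientGroup.mk'_surjective N a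
    rw [← hh, show h = 1 from Subtype.ext (hS1 h), map_one]
    rfl)
  haveI : Subsingleton A := ⟨fun a b => (hA1 a).trans (hA1 b).symm⟩
  rw [Nat.card_unique]
  exact Nat.one_le_pow _ _ (Fact.out : p.Prime).pos

end CfsgLib.Fusion.RankThree
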