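import Cfsg.Agent.Lib.Fusion.System.RankThree.Fusion
import Cfsg.Agent.Lib.Fusion.System.RankThree.Structure
import Cfsg.Agent.Lib.Spor.CoTwoInv.Transfer

/-!
# Essential subgroups in sectional rank three

An essential subgroup is elementary abelian of order `p ^ 2` or normal in `S`.
-/

set_option autoImplicit false
set_option linter.style.haveILetI false
set_option linter.unusedSectionVars false

open Subgroup

namespace CfsgLib.Fusion.RankThree

open Cfsg (FusionSystem)
open Cfsg.FusionSystem (normalizerIn)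

universe u

variable {Ω : Type u} [Group Ω] {S : Subgroup Ω} [Finite S] {p : ℕ} [Fact p.Prime] {F : FusionSystem S}
  {E : Subgroup Ω}

/-- The Frattini subgroup does not depend on the ambient group. -/
theorem card_frn_inNrm (hE : E ≤ S) :
    Nat.card (frn (inNrm S E)) = Nat.card (frattini E) ∧ Nat.card (inNrm S E) = Nat.card E := by
  refine ⟨?_, Nat.card_congr (subgroupOfEquivOfLe (le_normalizerIn hE)).toEquiv⟩
  rw [frn, card_map_of_injective (inNrm S E).subtype_injective,
    ← CfsgLib.Spor.CoTwoInv.frattini_map_equiv (subgroupOfEquivOfLe (le_normalizerIn (S := S) hE)),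
    card_map_of_injective (MulEquiv.injective _)]

/-- The elementary property does not depend on the ambient group. -/
theorem elementary_of_inNrm (hE : E ≤ S)
    (h : Cfsg.IsElementaryAbelian p (inNrm S E) ∧ Nat.card (inNrm S E) = p ^ 2) :
    Cfsg.IsElementaryAbelian p E ∧ Nat.card E = p ^ 2 := by
  obtain ⟨⟨hcomm, hexp⟩, hcard⟩ := h
  have hle := le_normalizerIn (S := S) hE
  refine ⟨⟨⟨⟨fun a b => ?_⟩⟩, fun a ha => ?_⟩, (card_frn_inNrm hE).2 ▸ hcard⟩
  · have h1 := hcomm.is_comm.comm ((subgroupOfEquivOfLe hle).symm a) ((subgroupOfEquivOfLe hle).symm b)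
    rw [← map_mul, ← map_mul] at h1
    exact (subgroupOfEquivOfLe hle).symm.injective h1
  · exact congrArg Subtype.val (hexp (⟨a, hle ha⟩ : normalizerIn S E) ha)

variable (hp5 : 5 ≤ p) (hS : IsPGroup p S) (hr : Cfsg.SectionalPRankLE p 3 S) (hF : F.IsSaturated p)
  (hE : F.IsEssential p E)
include hp5 hS hr hF hE

/-- An essential cube is normal in `S`. -/
theorem le_normalizer_of_cube (hc : Nat.card (inNrm S E) = p ^ 3 * Nat.card (frn (inNrm S E))) :
    S ≤ normalizer (E : Set Ω) := by
  haveI : Finite (normalizerIn S E) := finite_of_le inf_le_left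
  by_contra hlt
  obtain ⟨R, _, _, ι, c, hO⟩ := nrm_over hp5 hS hr hF hE hlt
  exact hO.false_of_cube (nrm_top hp5 hS hr hF hE) hc

/-- An essential subgroup is a plane pearl or normal in `S`. -/
theorem pearl_or_le_normalizer :
    (Cfsg.IsElementaryAbelian p E ∧ Nat.card E = p ^ 2) ∨ S ≤ normalizer (E : Set Ω) := by
  haveI : Finite (normalizerIn S E) := finite_of_le inf_le_left
  have hT := nrm_top hp5 hS hr hF hE
  by_cases hc : Nat.card (inNrm S E) ≤ p ^ 2 * Nat.card (frn (inNrm S E))
  · by_cases hlt : S ≤ normalizer (E : Set Ω)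
    · exact Or.inr hlt
    obtain ⟨R, _, _, ι, c, hO⟩ := nrm_over hp5 hS hr hF hE hlt
    exact Or.inl (elementary_of_inNrm hE.1.1 (hO.card_sq_of_plane hT hc))
  · exact Or.inr (le_normalizer_of_cube hp5 hS hr hF hE (hT.card_cube hc))

end CfsgLib.Fusion.RankThree
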