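import Cfsg.Agent.Lib.Fusion.System.RankThree.Transvection

/-!
# The line fixed by the conjugate transvections

If `E` is elementary of order `p ^ 3` and `x` acts on it as a transvection, the elements all of
whose images under the automizer are central in `G` form the line fixed by the torus.
-/

set_option autoImplicit false
set_option linter.style.haveILetI false
set_option linter.unusedSectionVars false

open Subgroup
open scoped commutatorElement

namespace CfsgLib.Fusion.RankThree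

open CfsgLib.MaxClassEss (frAct frAct_eq_one_iff isPGroup_of_frAct)
open CfsgLib.Fusion.Transvection (dlt dlt_eq_one apply_eq IsTrv pow_apply dlt_conj)

universe u

/-- Transvections in a group with Sylow subgroups of order `p` fix the common fixed points of two
independent ones. -/
theorem fix_of_transvections {M : Type u} [CommGroup M] [Finite M] [Finite (MulAut M)] {p : ℕ}
    [Fact p.Prime] (hM : IsPGroup p M) {L : Subgroup (MulAut M)}
    (hsyl : ∀ H : Subgroup (MulAut M), H ≤ L → IsPGroup p H → Nat.card H ≤ p) {u u' v : MulAut M}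
    (hu : IsTrv p u) (hu' : IsTrv p u') (hv : IsTrv p v) (huL : u ∈ L) (hu'L : u' ∈ L) (hvL : v ∈ L)
    (hne : u' ∉ zpowers u) {c : M} (hc : dlt u c = 1) (hc' : dlt u' c = 1) : dlt v c = 1 := by
  obtain ⟨τ, τ', -, -, h3, h4, hT, hT', -⟩ :=
    CfsgLib.Fusion.Transvection.exists_basis hM hsyl hu hu' huL hu'L hne
  set σ := dlt u' τ with hσ
  have hkey : ∀ {w : MulAut M}, IsTrv p w → w ∈ L → dlt w c = 1 →
      (dlt w).range ≤ (dlt v).ker → dlt v c = 1 := by
    intro w hw hwL hwc hle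
    have hwv : w ∈ zpowers v := by
      by_contra hwv
      exact CfsgLib.Fusion.Transvection.not_range_le_ker hM hsyl hv hw hvL hwL hwv hle
    have he : zpowers w = zpowers v := eq_of_le_of_card_ge (zpowers_le.2 hwv) (by
      rw [Nat.card_zpowers, Nat.card_zpowers, hv.orderOf, hw.orderOf])
    obtain ⟨n, hn⟩ := (mem_powers_iff_mem_zpowers.2 (he ▸ mem_zpowers v) : v ∈ Submonoid.powers w)
    rw [dlt_eq_one, ← hn, pow_apply w (by rw [hwc, map_one]), hwc, one_pow, mul_one]
  have hσT : zpowers σ = (dlt u').range := hu'.zpowers_eq ⟨τ, rfl⟩ h4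
  by_cases hσv : dlt v σ = 1
  · refine hkey hu' hu'L hc' ?_
    rw [← hσT, zpowers_le]
    exact hσv
  obtain ⟨m, hm⟩ : dlt v τ ∈ zpowers (dlt v σ) := by rw [hv.zpowers_eq ⟨σ, rfl⟩ hσv]; exact ⟨τ, rfl⟩
  obtain ⟨k, hk⟩ : ∃ k : ℕ, σ ^ k = σ ^ (-m) :=
    (mem_powers_iff_mem_zpowers.2 (zpow_mem (mem_zpowers σ) (-m)) : σ ^ (-m) ∈ Submonoid.powers σ)
  have hvk : dlt v ((u' ^ k) τ) = 1 := by
    rw [pow_apply u' (hu'.fix τ), ← hσ, hk, map_mul, map_zpow, ← hm]
    show dlt v σ ^ m * dlt v σ ^ (-m) = 1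
    rw [← zpow_add, add_neg_cancel, zpow_zero]
  refine hkey (hu.conj (u' ^ k)) (L.mul_mem (L.mul_mem (L.pow_mem hu'L k) huL) (L.inv_mem (L.pow_mem hu'L k)))
    ?_ ?_
  · have : (u' ^ k)⁻¹ c = c := by
      refine (MulEquiv.symm_apply_eq _).2 ?_
      rw [pow_apply u' (by rw [hc', map_one]), hc', one_pow, mul_one]
    rw [dlt_conj, this, hc, map_one]
  · rintro _ ⟨r, rfl⟩
    obtain ⟨i, hi⟩ := mem_zpowers_iff.1 (hT.ge ⟨(u' ^ k)⁻¹ r, rfl⟩)
    show dlt v (dlt (u' ^ k * u * (u' ^ k)⁻¹) r) = 1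
    rw [dlt_conj, ← hi, map_zpow, map_zpow, hvk, one_zpow]

variable {G : Type u} [Group G] [Finite G] {p : ℕ} [Fact p.Prime] {E : Subgroup G} [E.Normal]
  {X : Subgroup (MulAut E)} {Γ : Subgroup (MulAut G)}

/-- The elements of `E` all of whose images under `X` are central in `G`. -/
def lineSub (E : Subgroup G) (X : Subgroup (MulAut E)) : Subgroup G :=
  ({ carrier := {r : E | ∀ α ∈ X, (α r : G) ∈ center G}
     one_mem' := fun α _ => by rw [map_one]; exact one_mem (center G)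
     mul_mem' := fun {a b} ha hb α hα => by
       rw [map_mul]; exact mul_mem (ha α hα) (hb α hα)
     inv_mem' := fun {a} ha α hα => by
       rw [map_inv]; exact inv_mem (ha α hα) } : Subgroup E).map E.subtype

theorem mem_lineSub {r : E} : (r : G) ∈ lineSub E X ↔ ∀ α ∈ X, (α r : G) ∈ center G := by
  refine ⟨fun ⟨s, hs, hsr⟩ => ?_, fun hr => ⟨r, hr, rfl⟩⟩
  rw [← (Subtype.ext hsr : s = r)]
  exact hs

theorem lineSub_le : lineSub E X ≤ E := map_subtype_le _

theorem lineSub_le_center : lineSub E X ≤ center G := fun r hr =>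
  (mem_lineSub (r := ⟨r, lineSub_le hr⟩)).1 hr 1 X.one_mem

theorem lineSub_inv {α : MulAut E} (hα : α ∈ X) (r : E) (hr : (r : G) ∈ lineSub E X) :
    (α r : G) ∈ lineSub E X :=
  mem_lineSub.2 fun β hβ => mem_lineSub.1 hr (β * α) (X.mul_mem hβ hα)

/-- The line is nontrivial and meets the derived subgroup trivially. -/
theorem Top.lineSub_spec (h : Top p E X Γ) (hN : frn E = ⊥) (hc3 : Nat.card E = p ^ 3) {x : G} (hx : x ∉ E)
    (hd : ∀ e ∈ E, ⁅x, ⁅x, e⁆⁆ ∈ frn E) :
    lineSub E X ≠ ⊥ ∧ ∀ e ∈ E, ⁅x, e⁆ ∈ lineSub E X → ⁅x, e⁆ = 1 := by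
  letI := frCommGroup h.isPE
  haveI : Finite (MulAut E) := Finite.of_injective (fun a : MulAut E => (a : E → E)) DFunLike.coe_injective
  haveI : Finite (MulAut (E ⧸ frattini E)) :=
    Finite.of_injective (fun a : MulAut (E ⧸ frattini E) => (a : E ⧸ frattini E → E ⧸ frattini E))
      DFunLike.coe_injective
  set cx := MulAut.conjNormal (H := E) x with hcx
  set u := frAct cx with hu
  have hutrv : IsTrv p u := h.isTrv_fr hx hd
  obtain ⟨g, hg, hne⟩ := h.exists_conj_fr hx
  rw [← hu] at hne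
  have huX : u ∈ X.map frAct := mem_map_of_mem _ (h.qle ⟨x, rfl⟩)
  set u' := g * u * g⁻¹ with hu'def
  have hu' : IsTrv p u' := hutrv.conj g
  have hu'X : u' ∈ X.map frAct := mul_mem (mul_mem hg huX) (inv_mem hg)
  have hMp : IsPGroup p (E ⧸ frattini E) := h.isPE.to_quotient _
  have hsyl := fun H hH hp' => h.card_pgroup_le (H := H) hH hp'
  obtain ⟨τ, τ', h1, h2, h3, h4, hT, hT', hdec⟩ :=
    CfsgLib.Fusion.Transvection.exists_basis hMp hsyl hutrv hu' huX hu'X hne
  obtain ⟨π, hπ⟩ : ∃ π : E →* E ⧸ frattini E, π = QuotientGroup.mk' (frattini E) := ⟨_, rfl⟩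
  have hinj : Function.Injective π := by
    refine (injective_iff_map_eq_one π).2 fun r hr => ?_
    rw [hπ] at hr
    have h5 : (r : G) ∈ frn E := mem_frn.2 ((QuotientGroup.eq_one_iff r).1 hr)
    rw [hN, mem_bot] at h5
    exact Subtype.ext h5
  have hEab : ∀ r ∈ E, ∀ s ∈ E, r * s = s * r := fun r hr s hs => by
    have := h.comm_frn hr hs
    rwa [hN, mem_bot, commutatorElement_eq_one_iff_mul_comm] at this
  have hfix : ∀ {β : MulAut E} {r : E}, dlt (frAct (β⁻¹ * cx * β)) (π r) = 1 ↔ Commute x (β r : G) := by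
    intro β r
    rw [dlt_eq_one, show frAct (β⁻¹ * cx * β) (π r) = π ((β⁻¹ * cx * β) r) by rw [hπ]; rfl, hinj.eq_iff,
      MulAut.mul_apply, MulAut.mul_apply]
    constructor
    · intro e
      have e2 := congrArg (fun z => ((β z : E) : G)) e
      rw [MulAut.apply_inv_self, hcx, MulAut.conjNormal_apply] at e2
      exact mul_inv_eq_iff_eq_mul.1 e2
    · intro e
      rw [show cx (β r) = β r from Subtype.ext (by
        rw [hcx, MulAut.conjNormal_apply, e.eq, mul_inv_cancel_right]), MulAut.inv_apply_self]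
  have hcen : ∀ {r : G}, r ∈ E → Commute x r → r ∈ center G := fun {r} hr hxr => mem_center_iff.2 fun y => by
    obtain ⟨i, e, he, rfl⟩ := h.decomp hx y
    exact ((hxr.zpow_left i).mul_left (hEab e he r hr)).eq
  constructor
  · obtain ⟨c, hc1, hc2, hc3'⟩ : ∃ c, c ≠ 1 ∧ dlt u c = 1 ∧ dlt u' c = 1 := by
      by_contra hno
      push Not at hno
      have hle : Nat.card (E ⧸ frattini E) ≤ p * p := by
        have hsub : zpowers τ ⊔ zpowers τ' = ⊤ := eq_top_iff.2 fun r _ => by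
          obtain ⟨i, j, c, hc, hc', rfl⟩ := hdec r
          have hc1 : c = 1 := by_contra fun hc1 => hno c hc1 hc hc'
          rw [hc1, mul_one]
          exact mul_mem (mem_sup_left (zpow_mem (mem_zpowers τ) i)) (mem_sup_right (zpow_mem (mem_zpowers τ') j))
        have hd' := CfsgLib.PGroup.card_sup_dvd_of_normal (zpowers τ) (zpowers τ')
        rw [hsub, card_top, hT, hT', hutrv.card, hu'.card] at hd'
        exact Nat.le_of_dvd (Nat.mul_pos (Fact.out : p.Prime).pos (Fact.out : p.Prime).pos) hd'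
      have hb : frattini E = ⊥ := (Subgroup.map_eq_bot_iff_of_injective _ E.subtype_injective).1 hN
      have hE3 : Nat.card E = Nat.card (E ⧸ frattini E) := by
        rw [card_eq_card_quotient_mul_card_subgroup (frattini E), hb, card_bot, mul_one]
      rw [← pow_two] at hle
      rw [← hE3, hc3] at hle
      exact absurd ((Nat.pow_le_pow_iff_right (Fact.out : p.Prime).one_lt).1 hle) (by norm_num)
    obtain ⟨r, hr⟩ := QuotientGroup.mk'_surjective (frattini E) c
    rw [← hπ] at hr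
    subst hr
    intro hbot
    refine hc1 ?_
    have hm : (r : G) ∈ lineSub E X := mem_lineSub.2 fun β hβ => by
      refine hcen (β r).2 (hfix.1 ?_)
      refine fix_of_transvections hMp hsyl hutrv hu' ?_ huX hu'X ?_ hne hc2 hc3'
      · rw [map_mul, map_mul, map_inv]
        have := hutrv.conj ((frAct β)⁻¹)
        rwa [inv_inv] at this
      · exact mem_map_of_mem _ (X.mul_mem (X.mul_mem (X.inv_mem hβ) (h.qle ⟨x, rfl⟩)) hβ)
    rw [hbot, mem_bot] at hm
    rw [show r = 1 from Subtype.ext hm, map_one]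
  · intro e he hm
    obtain ⟨α, hα, rfl⟩ := hg
    by_contra hwne
    have hwE : ⁅x, e⁆ ∈ E := lineSub_le hm
    have hw := mem_lineSub (r := (⟨⁅x, e⁆, hwE⟩ : E)).1 hm α⁻¹ (X.inv_mem hα)
    have h6 : dlt u' (π ⟨⁅x, e⁆, hwE⟩) = 1 := by
      have h7 := (hfix (β := α⁻¹) (r := ⟨⁅x, e⁆, hwE⟩)).2 (Commute.symm (mem_center_iff.1 hw x).symm)
      rwa [inv_inv, map_mul, map_mul, map_inv] at h7
    have h8 : π ⟨⁅x, e⁆, hwE⟩ ∈ (dlt u).range := by
      refine ⟨π ⟨e, he⟩, ?_⟩
      show (π ⟨e, he⟩)⁻¹ * u (π ⟨e, he⟩) = π ⟨⁅x, e⁆, hwE⟩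
      rw [hu, show frAct cx (π ⟨e, he⟩) = π (cx ⟨e, he⟩) by rw [hπ]; rfl, ← map_inv, ← map_mul]
      refine congrArg π (Subtype.ext ?_)
      show e⁻¹ * (cx ⟨e, he⟩ : G) = ⁅x, e⁆
      have hxe : x * e * x⁻¹ ∈ E := (inferInstance : E.Normal).conj_mem e he x
      rw [hcx, MulAut.conjNormal_apply, commutatorElement_def, hEab _ (inv_mem he) _ hxe]
    have h9 : π ⟨⁅x, e⁆, hwE⟩ ≠ 1 := fun e' => hwne (congrArg Subtype.val
      ((injective_iff_map_eq_one π).1 hinj _ e'))
    have h10 : τ ∈ zpowers (π ⟨⁅x, e⁆, hwE⟩) := by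
      rw [hutrv.zpowers_eq h8 h9, ← hT]; exact mem_zpowers τ
    obtain ⟨i, hi⟩ := mem_zpowers_iff.1 h10
    exact h4 (by rw [← hi, map_zpow, h6, one_zpow])

end CfsgLib.Fusion.RankThree
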