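import Cfsg.Agent.Lib.Fusion.System.RankThree.Index
import Cfsg.Agent.Lib.Fusion.System.RankThree.Over
import Cfsg.Agent.Lib.Fusion.System.EssentialPlane
import Cfsg.Agent.Lib.Fusion.System.TopCriterion
import Cfsg.Agent.Lib.Fusion.System.Normal
import Cfsg.Agent.Lib.PGroup.Basic

/-!
# An essential subgroup inside its normalizer

An essential subgroup of a saturated system on a group of sectional rank at most three has index
`p` in its normalizer, and the automizers give the data `Top`; if the normalizer is not the whole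
group, a fully normalized conjugate of it gives the data `Over`.
-/

set_option autoImplicit false
set_option linter.style.haveILetI false
set_option linter.unusedSectionVars false

open Subgroup

namespace CfsgLib.Fusion.RankThree

open Cfsg (FusionSystem autInducedBy)
open Cfsg.FusionSystem (normalizerIn centralizerIn)
open CfsgLib.MaxClassEss (frAct)

universe u

variable {Ω : Type u} [Group Ω] {S : Subgroup Ω}

/-- `E` inside its normalizer. -/
abbrev inNrm (S E : Subgroup Ω) : Subgroup (normalizerIn S E) := E.subgroupOf (normalizerIn S E)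

instance inNrm_normal (S E : Subgroup Ω) : (inNrm S E).Normal := ⟨by
  intro x hx g
  exact (mem_normalizer_iff.1 g.2.2 (x : Ω)).1 hx⟩

/-- The automizer of `E` as automorphisms of `E` inside its normalizer. -/
noncomputable def nrmAut (F : FusionSystem S) {E : Subgroup Ω} (hE : E ≤ S) :
    Subgroup (MulAut (inNrm S E)) :=
  (F.autGroup E).map (MulAut.congr (subgroupOfEquivOfLe (le_normalizerIn hE)).symm).toMonoidHom

theorem mem_nrmAut_iff {F : FusionSystem S} {E : Subgroup Ω} (hE : E ≤ S) {α : MulAut (inNrm S E)} :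
    α ∈ nrmAut F hE ↔ MulAut.congr (subgroupOfEquivOfLe (le_normalizerIn hE)) α ∈ F.autGroup E :=
  Subgroup.mem_map_equiv

/-- A subgroup has no larger sectional rank. -/
theorem sectional_of_injective {A B : Type u} [Group A] [Group B] {p k : ℕ}
    (h : Cfsg.SectionalPRankLE p k B) (f : A →* B) (hf : Function.Injective f) :
    Cfsg.SectionalPRankLE p k A := by
  intro H M hM T hT hTe
  let q := H.equivMapOfInjective f hf
  haveI : (M.map q.toMonoidHom).Normal := hM.map _ q.surjective
  let σ := QuotientGroup.congr M (M.map q.toMonoidHom) q rfl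
  have h1 := h (H.map f) (M.map q.toMonoidHom) (T.map σ.toMonoidHom) ⟨⟨fun a b => by
    obtain ⟨a, x, hx, rfl⟩ := a
    obtain ⟨b, y, hy, rfl⟩ := b
    refine Subtype.ext ?_
    show σ x * σ y = σ y * σ x
    rw [← map_mul, ← map_mul]
    exact congrArg σ (congrArg Subtype.val (hT.is_comm.comm (⟨x, hx⟩ : T) ⟨y, hy⟩))⟩⟩ (by
    rintro _ ⟨x, hx, rfl⟩
    show σ x ^ p = 1
    rw [← map_pow, hTe x hx, map_one])
  exact (Nat.card_congr (T.equivMapOfInjective σ.toMonoidHom σ.injective).toEquiv).trans_le h1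

variable [Finite S] {p : ℕ} [Fact p.Prime] {F : FusionSystem S} {E : Subgroup Ω}

/-- The image of the normalizer in the automizer. -/
theorem range_conjNormal (hE : E ≤ S) : (MulAut.conjNormal (H := inNrm S E)).range =
    (autInducedBy S E).map (MulAut.congr (subgroupOfEquivOfLe (le_normalizerIn hE)).symm).toMonoidHom := by
  ext α
  constructor
  · rintro ⟨g, rfl⟩
    refine Subgroup.mem_map_equiv.2 (mem_autInducedBy_iff.2 ⟨g, g.2.1, fun x hx => ?_⟩)
    rw [autFun_apply _ hx]
    rfl
  · intro hα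
    obtain ⟨g, hg, hact⟩ := mem_autInducedBy_iff.1 (Subgroup.mem_map_equiv.1 hα)
    refine ⟨⟨g, hg, mem_normalizer_of_autFun hact⟩, MulEquiv.ext fun y => Subtype.ext (Subtype.ext ?_)⟩
    have h1 := hact ((y : normalizerIn S E) : Ω) y.2
    rw [autFun_apply _ (mem_subgroupOf.1 y.2)] at h1
    exact h1.symm

/-- The inner automorphisms of `E` are the largest normal `p`-subgroup of its automizer. -/
theorem nrm_core (hS : IsPGroup p S) (hE : F.IsEssential p E) (Y : Subgroup (MulAut (inNrm S E)))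
    (hY : Y ≤ nrmAut F hE.1.1) (hn : ∀ α ∈ nrmAut F hE.1.1, ∀ y ∈ Y, α * y * α⁻¹ ∈ Y) (hp : IsPGroup p Y) :
    Y ≤ Cfsg.Inn (inNrm S E) := by
  set C := (MulAut.congr (subgroupOfEquivOfLe (le_normalizerIn hE.1.1)) :
    MulAut (inNrm S E) ≃* MulAut E) with hC
  set Y' := (Y.map C.toMonoidHom).subgroupOf (F.autGroup E) with hY'
  have hY'n : Y'.Normal := ⟨fun y hy g => by
    obtain ⟨z, hz, hzy⟩ := hy
    refine ⟨C.symm (g : MulAut E) * z * (C.symm (g : MulAut E))⁻¹,
      hn _ ((mem_nrmAut_iff hE.1.1).2 (by rw [← hC, C.apply_symm_apply]; exact g.2)) z hz, ?_⟩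
    show C (C.symm (g : MulAut E) * z * (C.symm (g : MulAut E))⁻¹) = _
    rw [map_mul, map_mul, map_inv, C.apply_symm_apply, show C z = _ from hzy]
    rfl⟩
  have hY'p : IsPGroup p Y' := by
    refine (hp.map C.toMonoidHom).of_equiv (subgroupOfEquivOfLe ?_).symm
    rintro _ ⟨z, hz, rfl⟩
    exact (mem_nrmAut_iff hE.1.1).1 (hY hz)
  intro y hy
  have h1 : C y ∈ (Cfsg.pCore p (F.autGroup E)).map (F.autGroup E).subtype :=
    ⟨⟨C y, (mem_nrmAut_iff hE.1.1).1 (hY hy)⟩,
      CfsgLib.PGroup.le_pCore hY'n hY'p (mem_map_of_mem C.toMonoidHom hy), rfl⟩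
  rw [(isRadical_of_isEssential hS hE).2] at h1
  obtain ⟨c, hc⟩ := h1
  set e := subgroupOfEquivOfLe (le_normalizerIn (S := S) hE.1.1)
  refine ⟨e.symm c, MulEquiv.ext fun r => ?_⟩
  have h2 := DFunLike.congr_fun hc (e r)
  rw [MulAut.conj_apply] at h2 ⊢
  have h3 : C y (e r) = e (y r) := congrArg (fun z => e (y z)) (e.symm_apply_apply r)
  rw [h3] at h2
  apply e.injective
  rw [map_mul, map_mul, map_inv, e.apply_symm_apply]
  exact h2

/-- The normalizer gives an embedded configuration on the Frattini quotient. -/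
theorem nrm_embedded (hS : IsPGroup p S) (hF : F.IsSaturated p) (hE : F.IsEssential p E) :
    ∃ M, CubeAutomizer.Embedded p ((nrmAut F hE.1.1).map frAct)
      ((MulAut.conjNormal (H := inNrm S E)).range.map frAct) M := by
  have hES := hE.1.1
  haveI := finite_of_le hES
  haveI := finite_mulAut (P := E)
  haveI : Finite (normalizerIn S E) := finite_of_le inf_le_left
  have hle := autInducedBy_le_autGroup (F := F) hES
  have hi := ((isFullyAutomized_iff hS).1 (IsSaturated.automized_receptive hS hF hE.2.1).1).2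
  set C := (MulAut.congr (subgroupOfEquivOfLe (le_normalizerIn (S := S) hES)).symm :
    MulAut E ≃* MulAut (inNrm S E)) with hC
  let φ : F.autGroup E →* MulAut (inNrm S E ⧸ frattini (inNrm S E)) :=
    frAct.comp (C.toMonoidHom.comp (F.autGroup E).subtype)
  set e := subgroupOfEquivOfLe (le_normalizerIn (S := S) hES)
  have hp' : IsPGroup p (inNrm S E) := (hS.to_le inf_le_left).to_subgroup _
  have hker : φ.ker = (Cfsg.Inn E).subgroupOf (F.autGroup E) := by
    ext α
    constructor
    · intro hα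
      have h1 := nrm_core hS hE (nrmAut F hES ⊓ (frAct (H := inNrm S E)).ker) inf_le_left
        (fun a ha y hy => ⟨(nrmAut F hES).mul_mem ((nrmAut F hES).mul_mem ha hy.1) ((nrmAut F hES).inv_mem ha), show frAct (a * y * a⁻¹) = 1 by
          rw [map_mul, map_mul, show frAct y = 1 from hy.2, mul_one, map_inv, mul_inv_cancel]⟩)
        (CfsgLib.MaxClassEss.isPGroup_of_frAct hp' _ fun σ hσ => hσ.2)
        (show C (α : MulAut E) ∈ _ from ⟨mem_map_of_mem C.toMonoidHom α.2, hα⟩)
      obtain ⟨c, hc⟩ := h1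
      refine mem_subgroupOf.2 ⟨e c, MulEquiv.ext fun r => ?_⟩
      have h2 := congrArg e (DFunLike.congr_fun hc (e.symm r))
      rw [MulAut.conj_apply, map_mul, map_mul, map_inv, e.apply_symm_apply] at h2
      rw [MulAut.conj_apply]
      refine h2.trans ?_
      show e (e.symm ((α : MulAut E) (e (e.symm r)))) = _
      rw [e.apply_symm_apply, e.apply_symm_apply]
    · intro hα
      obtain ⟨c, hc⟩ := mem_subgroupOf.1 hα
      refine MonoidHom.mem_ker.2 (CfsgLib.MaxClassEss.frAct_eq_one_iff.2 fun a => ?_)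
      show e.symm ((α : MulAut E) (e a)) * a⁻¹ ∈ _
      rw [← hc, MulAut.conj_apply, map_mul, map_mul, map_inv, e.symm_apply_apply]
      exact CfsgLib.Coprime.commutator_le_frattini hp' (commutator_mem_commutator (mem_top _) (mem_top a))
  have hφr : φ.range = (nrmAut F hES).map frAct := by
    show (frAct.comp (C.toMonoidHom.comp (F.autGroup E).subtype)).range = _
    rw [MonoidHom.range_comp, MonoidHom.range_comp, Subgroup.range_subtype]
    rfl
  have hQbar : (MulAut.conjNormal (H := inNrm S E)).range.map frAct =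
      ((autInducedBy S E).subgroupOf (F.autGroup E)).map φ := by
    rw [range_conjNormal hES, map_map]
    conv_lhs => rw [← map_subgroupOf_eq_of_le hle, map_map]
    rfl
  have hdvd : p ∣ Nat.card (F.autGroup E ⧸ (Cfsg.Inn E).subgroupOf (F.autGroup E)) := by
    obtain ⟨-, -, hn, E₁, hE₁⟩ := hE
    exact hE₁.1.trans dvd_rfl
  obtain ⟨-, -, hn, E₁, hE₁⟩ := hE
  haveI := hn
  set K := (Cfsg.Inn E).subgroupOf (F.autGroup E) with hK
  set π := QuotientGroup.mk' K with hπ
  set P := ((autInducedBy S E).subgroupOf (F.autGroup E)).map π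
  have hP : IsPGroup p P :=
    ((isPGroup_autInducedBy hS).of_equiv (subgroupOfEquivOfLe hle).symm).map π
  obtain ⟨E', hE', hT⟩ := exists_conj_embedded hP hE₁
  have hne : P ≠ ⊥ := fun hPb => by
    have h1 : P.index ∣ ((autInducedBy S E).subgroupOf (F.autGroup E)).index :=
      index_map_dvd _ (QuotientGroup.mk'_surjective K)
    rw [hPb, index_bot] at h1
    exact hi (hdvd.trans h1)
  let ψ : (F.autGroup E ⧸ K) →* MulAut (inNrm S E ⧸ frattini (inNrm S E)) :=
    QuotientGroup.lift K φ hker.ge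
  have hψ : Function.Injective ψ := by
    refine (injective_iff_map_eq_one ψ).2 fun y hy => ?_
    obtain ⟨y, rfl⟩ := QuotientGroup.mk'_surjective K y
    exact (QuotientGroup.eq_one_iff y).2 (hker.le hy)
  have hcomp : φ = ψ.comp π := rfl
  have hψr : ψ.range = φ.range := by
    rw [hcomp, MonoidHom.range_comp, QuotientGroup.range_mk', ← MonoidHom.range_eq_map]
  rw [hQbar, ← hφr, ← hψr, hcomp, ← map_map]
  refine ⟨E'.map ψ, map_le_range ψ P, hP.map ψ, ?_, fun hb => hne ((map_eq_bot_iff_of_injective _ hψ).1 hb),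
    map_le_range ψ E', fun hle' => hE' ?_, ?_⟩
  · rw [MonoidHom.range_eq_map, relIndex_map_map_of_injective _ _ hψ, relIndex_top_right]
    exact fun hd => hi (hd.trans (index_map_dvd _ (QuotientGroup.mk'_surjective K)))
  · refine eq_top_iff.2 fun y _ => ?_
    obtain ⟨z, hz, hzy⟩ := hle' ⟨y, rfl⟩
    rwa [← hψ hzy]
  · rintro T hTP hT1 _ ⟨⟨x, rfl⟩, hx⟩
    have hTmap : (T.comap ψ).map ψ = T := map_comap_eq_self (hTP.trans (map_le_range ψ P))
    refine mem_map_of_mem ψ (hT (T.comap ψ) (fun y hy => ?_) (fun hb => hT1 ?_) ?_)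
    · obtain ⟨z, hz, hzy⟩ := hTP hy
      rwa [← hψ hzy]
    · rw [← hTmap, hb, Subgroup.map_bot]
    · refine mem_normalizer_iff.2 fun y => ?_
      rw [mem_comap, mem_comap, map_mul, map_mul, map_inv]
      exact mem_normalizer_iff.1 hx (ψ y)

/-- The data of `Top` apart from the bound on `p`. -/
theorem nrm_parts (hS : IsPGroup p S) (hr : Cfsg.SectionalPRankLE p 3 S) (hF : F.IsSaturated p)
    (hE : F.IsEssential p E) :
    IsPGroup p (normalizerIn S E) ∧ Cfsg.SectionalPRankLE p 3 (normalizerIn S E) ∧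
      Nat.card (normalizerIn S E) = p * Nat.card (inNrm S E) ∧
      (∀ g : normalizerIn S E, (∀ e ∈ inNrm S E, g * e = e * g) → g ∈ inNrm S E) ∧
      (MulAut.conjNormal (H := inNrm S E)).range ≤ nrmAut F hE.1.1 ∧
      ¬ p ∣ (MulAut.conjNormal (H := inNrm S E)).range.relIndex (nrmAut F hE.1.1) ∧
      (∀ Y : Subgroup (MulAut (inNrm S E)), Y ≤ nrmAut F hE.1.1 →
        (∀ α ∈ nrmAut F hE.1.1, ∀ y ∈ Y, α * y * α⁻¹ ∈ Y) → IsPGroup p Y → Y ≤ Cfsg.Inn (inNrm S E)) ∧
      ∀ α ∈ nrmAut F hE.1.1, α ∈ normalizer ((MulAut.conjNormal (H := inNrm S E)).range : Set (MulAut (inNrm S E))) →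
        ∃ β ∈ F.autGroup (normalizerIn S E), ∀ e : inNrm S E, β (e : normalizerIn S E) = (α e : normalizerIn S E) := by
  have hES := hE.1.1
  haveI := finite_of_le hES
  haveI := finite_mulAut (P := E)
  haveI : Finite (normalizerIn S E) := finite_of_le inf_le_left
  have hG : IsPGroup p (normalizerIn S E) := hS.to_le inf_le_left
  have hrN : Cfsg.SectionalPRankLE p 3 (normalizerIn S E) :=
    sectional_of_injective hr (inclusion inf_le_left) (inclusion_injective _)
  have hle := autInducedBy_le_autGroup (F := F) hES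
  have hqle : (MulAut.conjNormal (H := inNrm S E)).range ≤ nrmAut F hES := by
    rw [range_conjNormal hES]; exact map_mono hle
  have hcent : ∀ g : normalizerIn S E, (∀ e ∈ inNrm S E, g * e = e * g) → g ∈ inNrm S E := fun g hg =>
    hE.1.2 E (isConj_refl hES) ⟨g.2.1, mem_centralizer_iff.2 fun y hy =>
      (congrArg Subtype.val (hg ⟨y, le_normalizerIn hES hy⟩ hy)).symm⟩
  obtain ⟨M, hM⟩ := nrm_embedded hS hF hE
  refine ⟨hG, hrN, card_eq_of_embedded hG hrN hqle (nrm_core hS hE) hcent hM, hcent, hqle, ?_,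
    nrm_core hS hE, ?_⟩
  · rw [range_conjNormal hES, nrmAut,
      relIndex_map_map_of_injective _ _ (MulEquiv.injective _)]
    exact ((isFullyAutomized_iff hS).1 (IsSaturated.automized_receptive hS hF hE.2.1).1).2
  intro α hα hαn
  set C := (MulAut.congr (subgroupOfEquivOfLe (le_normalizerIn (S := S) hES)) :
    MulAut (inNrm S E) ≃* MulAut E) with hC
  set α' := C α with hα'
  have hm := (mem_autGroup_iff hES).1 ((mem_nrmAut_iff hES).1 hα)
  obtain ⟨g, hg, hgf⟩ := (isReceptive_iff.1 (IsSaturated.automized_receptive hS hF hE.2.1).2).2 E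
    (autFun α') hm (img_autFun α')
  have hext : normalizerIn S E ≤ extSub S E (autFun α') := by
    intro n hn
    have h1 := (mem_normalizer_iff.1 hαn (MulAut.conjNormal (⟨n, hn⟩ : normalizerIn S E))).1 ⟨_, rfl⟩
    rw [range_conjNormal hES] at h1
    obtain ⟨h, hh, hact⟩ := mem_autInducedBy_iff.1 (Subgroup.mem_map_equiv.1 h1)
    refine ⟨hn, h, hh, fun x hx => ?_⟩
    have hnx : n * x * n⁻¹ ∈ E := (mem_normalizer_iff.1 hn.2 x).1 hx
    have h2 := hact _ (autFun_mem α' hx)
    rw [autFun_apply α' hnx, ← h2, autFun_apply α' hx]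
    rw [autFun_apply _ (SetLike.coe_mem _)]
    have hCC : ∀ β, (MulAut.congr (subgroupOfEquivOfLe (le_normalizerIn (S := S) hES)).symm).symm β = C β :=
      fun β => MulEquiv.ext fun z => rfl
    have h3 : C (MulAut.conjNormal (⟨n, hn⟩ : normalizerIn S E)) ⟨x, hx⟩ = ⟨n * x * n⁻¹, hnx⟩ := rfl
    rw [hCC, map_mul, map_mul, map_inv, ← hα', MulAut.mul_apply, MulAut.mul_apply, Subtype.coe_eta,
      MulAut.inv_apply_self, h3]
  have hgN := hg.mono hext
  have himg : img (normalizerIn S E) g = normalizerIn S E := by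
    refine eq_of_le_of_card_le inf_le_left (hgN.img_le_of_forall fun y hy => ?_) hgN.card_img.ge
    have h1 := map_mem_normalizerIn hgN (le_normalizerIn hES) hy hy.2
    rwa [IsMap.img_congr hgf, img_autFun] at h1
  refine ⟨autOf hgN himg, autOf_mem hgN himg, fun r => Subtype.ext ?_⟩
  rw [← autFun_coe, autFun_autOf hgN himg (r : normalizerIn S E).2, hgf ((r : normalizerIn S E) : Ω) (mem_subgroupOf.1 r.2),
    autFun_apply _ (mem_subgroupOf.1 r.2)]
  rfl

variable (hp5 : 5 ≤ p) (hS : IsPGroup p S) (hr : Cfsg.SectionalPRankLE p 3 S) (hF : F.IsSaturated p)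
  (hE : F.IsEssential p E)
include hp5 hS hr hF hE

/-- An essential subgroup gives `Top`. -/
theorem nrm_top : Top p (inNrm S E) (nrmAut F hE.1.1) (F.autGroup (normalizerIn S E)) := by
  obtain ⟨h1, h2, h3, h4, h5, h6, h7, h8⟩ := nrm_parts hS hr hF hE
  exact ⟨hp5, h1, h2, h3, h4, h5, h6, h7, h8⟩

/-- Below a larger group the normalizer gives `Over`. -/
theorem nrm_over (hlt : ¬ S ≤ normalizer (E : Set Ω)) :
    ∃ (R : Type u) (_ : Group R) (_ : Finite R) (ι : normalizerIn S E →* R)
      (c : R →* MulAut (normalizerIn S E)),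
      Over p (inNrm S E) (F.autGroup (normalizerIn S E)) ι c := by
  have hES := hE.1.1
  set N := normalizerIn S E with hN
  have hNS : N ≤ S := inf_le_left
  haveI := finite_of_le hES
  haveI : Finite N := finite_of_le hNS
  obtain ⟨Q, hQ, hQn⟩ := exists_fullyNormalized (F := F) hNS
  obtain ⟨f, hf, himg⟩ := isConj_iff.1 hQ
  subst himg
  obtain ⟨hau, hre⟩ := IsSaturated.automized_receptive hS hF hQn
  have hQS := hf.img_le
  haveI := finite_of_le hQS
  haveI := finite_mulAut (P := img N f)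
  haveI := finite_mulAut (P := N)
  set N' := normalizerIn S (img N f) with hN'
  haveI : Finite N' := finite_of_le inf_le_left
  haveI : ((img N f).subgroupOf N').Normal := inNrm_normal S (img N f)
  set e := mapEquiv hf with he
  set ε := (subgroupOfEquivOfLe (le_normalizerIn (S := S) hQS)).trans e.symm with hε
  let c : N' →* MulAut N :=
    (MulAut.congr ε).toMonoidHom.comp (MulAut.conjNormal (H := inNrm S (img N f)))
  let ι : N →* N' := (inclusion (le_normalizerIn hQS)).comp e.toMonoidHom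
  have hι : ∀ y : N, ((ι y : N') : Ω) = f y := fun y => rfl
  have hspec : ∀ (r : N') (y : N), f (c r y : N) = (r : Ω) * f y * (r : Ω)⁻¹ := fun r y => by
    show ((e (ε (MulAut.conjNormal r (ε.symm y))) : img N f) : Ω) = _
    rw [hε, MulEquiv.trans_apply, e.apply_symm_apply]
    rfl
  have hcr : c.range = (autInducedBy S (img N f)).map (MulAut.congr e.symm).toMonoidHom := by
    rw [show c.range = (MulAut.conjNormal (H := inNrm S (img N f))).range.map (MulAut.congr ε).toMonoidHom
      from MonoidHom.range_comp _ _, range_conjNormal hQS, map_map]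
    rfl
  have hΓ : F.autGroup N = (F.autGroup (img N f)).map (MulAut.congr e.symm).toMonoidHom := by
    ext β
    rw [Subgroup.mem_map_equiv, ← congr_mem_autGroup_iff hf β]
    rfl
  refine ⟨N', inferInstance, inferInstance, ι, c, ?_, hS.to_le inf_le_left,
    sectional_of_injective hr (inclusion inf_le_left) (inclusion_injective _), ?_, ?_, ?_, ?_, ?_, ?_⟩
  · intro y z hyz
    exact Subtype.ext (hf.inj y.2 z.2 (congrArg (fun w : N' => (w : Ω)) hyz))
  · intro r y
    exact Subtype.ext (hspec r y)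
  · intro r hr
    have hconjE : F.IsConj E (img E f) := isConj_iff.2 ⟨f, hf.mono (le_normalizerIn hES), rfl⟩
    have hEN : E ≤ N := le_normalizerIn hES
    have h1 : img N f ≤ normalizerIn S (img E f) := hf.img_le_of_forall fun n hn =>
      map_mem_normalizerIn hf hEN hn hn.2
    have h2 : img N f = normalizerIn S (img E f) :=
      eq_of_le_of_card_le inf_le_left h1 ((hE.2.1.2 _ hconjE).trans_eq hf.card_img.symm)
    have h3 : (r : Ω) ∈ normalizerIn S (img E f) := by
      refine ⟨r.2.1, ?_⟩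
      have hfE := hf.mono hEN
      haveI := finite_of_le hfE.img_le
      have hin : ∀ y ∈ img E f, (r : Ω) * y * (r : Ω)⁻¹ ∈ img E f := fun y hy => by
        obtain ⟨x, hx, rfl⟩ := hfE.mem_img.1 hy
        rw [← hspec r ⟨x, hEN hx⟩]
        exact hfE.mem_img.2 ⟨_, hr ⟨x, hEN hx⟩ hx, rfl⟩
      refine conjBy_eq_iff.1 (eq_of_le_of_card_le hfE.img_le ?_ (CfsgLib.Fusion.card_conjBy _ _).ge)
      intro y hy
      have h4 := hin _ (mem_conjBy.1 hy)
      simpa [mul_assoc] using h4
    rw [← h2] at h3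
    obtain ⟨n, hn, hnr⟩ := hf.mem_img.1 h3
    exact ⟨⟨n, hn⟩, Subtype.ext hnr⟩
  · have hne : img N f ≠ S := fun hQS' => hlt fun s hs => by
      have h1 : N = S := eq_of_le_of_card_le le_rfl hNS (by rw [← hf.card_img, hQS'])
      exact (h1.ge hs).2
    obtain ⟨s, hs, hsQ⟩ := SetLike.exists_of_lt (lt_normalizerIn hS hQS hne)
    refine ⟨⟨s, hs⟩, fun ⟨y, hy⟩ => hsQ ?_⟩
    rw [show s = ((ι y : N') : Ω) by rw [hy]]
    exact (e y).2
  · rw [hcr, hΓ]
    exact map_mono (autInducedBy_le_autGroup hQS)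
  · rw [hcr, hΓ, relIndex_map_map_of_injective _ _ (MulEquiv.injective _)]
    exact ((isFullyAutomized_iff hS).1 hau).2
  intro γ hγ hγn
  set C := (MulAut.congr e : MulAut N ≃* MulAut (img N f)) with hC
  have hγ' := (congr_mem_autGroup_iff hf γ).2 hγ
  set γ' := C γ with hγdef
  obtain ⟨g, hg, hgf⟩ := (isReceptive_iff.1 hre).2 (img N f) (autFun γ') ((mem_autGroup_iff hQS).1 hγ')
    (img_autFun γ')
  have hext : N' ≤ extSub S (img N f) (autFun γ') := by
    intro n hn
    have h1 := (mem_normalizer_iff.1 hγn (c ⟨n, hn⟩)).1 ⟨_, rfl⟩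
    rw [hcr] at h1
    obtain ⟨k, hk, hact⟩ := mem_autInducedBy_iff.1 (Subgroup.mem_map_equiv.1 h1)
    refine ⟨hn, k, hk, fun x hx => ?_⟩
    have hnx : n * x * n⁻¹ ∈ img N f := (mem_normalizer_iff.1 hn.2 x).1 hx
    rw [autFun_apply γ' hnx, ← hact _ (autFun_mem γ' hx), autFun_apply γ' hx,
      autFun_apply _ (SetLike.coe_mem _)]
    show (γ' ⟨n * x * n⁻¹, hnx⟩ : Ω) = (C (γ * c ⟨n, hn⟩ * γ⁻¹) (γ' ⟨x, hx⟩) : Ω)
    rw [map_mul, map_mul, map_inv, ← hγdef, MulAut.mul_apply, MulAut.mul_apply, MulAut.inv_apply_self]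
    congr 2
    refine Subtype.ext ?_
    show n * x * n⁻¹ = ((e (c ⟨n, hn⟩ (e.symm ⟨x, hx⟩)) : img N f) : Ω)
    rw [show ((e (c ⟨n, hn⟩ (e.symm ⟨x, hx⟩)) : img N f) : Ω) =
      f ((c ⟨n, hn⟩ (e.symm ⟨x, hx⟩) : N) : Ω) from rfl, hspec]
    show _ = n * ((e (e.symm ⟨x, hx⟩) : img N f) : Ω) * n⁻¹
    rw [e.apply_symm_apply]
  have hgN := hg.mono hext
  have hgimg : img N' g = N' := by
    refine eq_of_le_of_card_le inf_le_left (hgN.img_le_of_forall fun y hy => ?_) hgN.card_img.ge
    have h1 := map_mem_normalizerIn hgN (le_normalizerIn hQS) hy hy.2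
    rwa [IsMap.img_congr hgf, img_autFun] at h1
  refine ⟨autOf hgN hgimg, fun y => Subtype.ext ?_⟩
  rw [← autFun_coe, autFun_autOf hgN hgimg (ι y).2, hι, hgf (f y) (e y).2, autFun_apply γ' (x := f y) (e y).2]
  show ((e (γ (e.symm (e y))) : img N f) : Ω) = _
  rw [e.symm_apply_apply]
  rfl

end CfsgLib.Fusion.RankThree
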