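import Cfsg.Agent.Lib.Fusion.System.RankThree.Transvection

/-!
# The group of order `p⁴`, exponent `p` and class two

Coordinates, the centre and the derived subgroup of the product of a nonabelian group of order
`p³` and exponent `p` with a cyclic group of order `p`.
-/

set_option autoImplicit false
set_option linter.style.haveILetI false
set_option linter.unusedSectionVars false

open Subgroup
open scoped commutatorElement

namespace CfsgLib.Fusion.RankThree

open CfsgLib.Fusion.LineTorus (Sec zpow_congr)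

universe u

/-- `E` is elementary of index `p`, spanned by `⁅x, e⁆`, `e`, `f`. -/
structure HData (p : ℕ) {G : Type u} [Group G] (E : Subgroup G) (x e f : G) : Prop where
  exp : ∀ y : G, y ^ p = 1
  cardE : Nat.card E = p ^ 3
  index : Nat.card G = p * Nat.card E
  cc : ∀ y z : G, ⁅y, z⁆ ∈ center G
  xmem : x ∉ E
  emem : e ∈ E
  fmem : f ∈ E
  wmem : ⁅x, e⁆ ∈ E
  wne : ⁅x, e⁆ ≠ 1
  ef : Commute e f
  xf : Commute x f
  gen : ∀ y ∈ E, ∃ i j l : ℤ, y = ⁅x, e⁆ ^ i * e ^ j * f ^ l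
  decomp : ∀ y, ∃ A : ℤ, ∃ r ∈ E, y = x ^ A * r

variable {G : Type u} [Group G] [Finite G] {p : ℕ} [Fact p.Prime] {E : Subgroup G} {x e f : G}
  (h : HData p E x e f)
include h

theorem HData.pgroup : IsPGroup p G := fun y => ⟨1, by rw [pow_one]; exact h.exp y⟩

theorem HData.cast_zero {y : G} (hy : y ≠ 1) {k : ℤ} (hk : y ^ k = 1) : (k : ZMod p) = 0 := by
  by_contra h0
  exact hy (mem_bot.1 (mem_of_zpow_mem (H := (⊥ : Subgroup G)) (p := p) (by rw [h.exp]; exact one_mem _)
    (by rw [hk]; exact one_mem _) h0))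

theorem HData.congr (y : G) {r s : ℤ} (e' : (r : ZMod p) = s) : y ^ r = y ^ s := zpow_congr (h.exp y) e'

theorem HData.cast_mem {H : Subgroup G} {y : G} (hy : y ∉ H) {k : ℤ} (hk : y ^ k ∈ H) :
    (k : ZMod p) = 0 := by
  by_contra h0
  exact hy (mem_of_zpow_mem (p := p) (by rw [h.exp]; exact one_mem _) hk h0)

theorem HData.comm_w (y : G) : Commute y ⁅x, e⁆ := mem_center_iff.1 (h.cc x e) y

theorem HData.all (y : G) : ∃ A i j l : ℤ, y = x ^ A * (⁅x, e⁆ ^ i * e ^ j * f ^ l) := by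
  obtain ⟨A, r, hr, rfl⟩ := h.decomp y
  obtain ⟨i, j, l, rfl⟩ := h.gen r hr
  exact ⟨A, i, j, l, rfl⟩

theorem HData.commute_E {y : G} (hy : y ∈ E) : Commute y e ∧ Commute y f := by
  obtain ⟨i, j, l, rfl⟩ := h.gen y hy
  exact ⟨(((h.comm_w e).symm.zpow_left i).mul_left ((Commute.refl e).zpow_left j)).mul_left
      (h.ef.symm.zpow_left l),
    (((h.comm_w f).symm.zpow_left i).mul_left (h.ef.zpow_left j)).mul_left
      ((Commute.refl f).zpow_left l)⟩

theorem HData.f_center : f ∈ center G := mem_center_iff.2 fun y => by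
  obtain ⟨A, r, hr, rfl⟩ := h.decomp y
  exact ((h.xf.zpow_left A).mul_left (h.commute_E hr).2).eq

theorem HData.comm_e {A : ℤ} {r : G} (hr : r ∈ E) : ⁅x ^ A * r, e⁆ = ⁅x, e⁆ ^ A := by
  show commHom e (fun u => h.cc u _) (x ^ A * r) = _
  rw [map_mul, map_zpow, show commHom e (fun u => h.cc u _) r = 1 from
    commutatorElement_eq_one_iff_mul_comm.2 (h.commute_E hr).1.eq, mul_one]
  rfl

theorem HData.comm_x {A i j l : ℤ} :
    ⁅x ^ A * (⁅x, e⁆ ^ i * e ^ j * f ^ l), x⁆ = ⁅x, e⁆ ^ (-j) := by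
  show commHom x (fun u => h.cc u _) _ = _
  rw [map_mul, map_zpow, map_mul, map_mul, map_zpow, map_zpow, map_zpow,
    show commHom x (fun u => h.cc u _) x = 1 from commutatorElement_self x,
    show commHom x (fun u => h.cc u _) ⁅x, e⁆ = 1 from
      commutatorElement_eq_one_iff_mul_comm.2 (h.comm_w x).symm.eq,
    show commHom x (fun u => h.cc u _) f = 1 from commutatorElement_eq_one_iff_mul_comm.2 h.xf.symm.eq,
    one_zpow, one_zpow, one_zpow, mul_one, one_mul, one_mul, zpow_neg, ← inv_zpow, commutatorElement_inv]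
  rfl

theorem HData.center_le : center G ≤ E := fun y hy => by
  obtain ⟨A, r, hr, rfl⟩ := h.decomp y
  have h1 := h.comm_e (A := A) hr
  rw [commutatorElement_eq_one_iff_mul_comm.2 (mem_center_iff.1 hy e).symm] at h1
  rw [h.congr x (r := A) (s := 0) (by simpa using h.cast_zero h.wne h1.symm), zpow_zero, one_mul]
  exact hr

theorem HData.e_notMem : e ∉ center G := fun he =>
  h.wne (commutatorElement_eq_one_iff_mul_comm.2 (mem_center_iff.1 he x))

theorem HData.center_gen {y : G} (hy : y ∈ center G) :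
    ∃ i l : ℤ, y = ⁅x, e⁆ ^ i * f ^ l := by
  obtain ⟨i, j, l, rfl⟩ := h.gen y (h.center_le hy)
  have h1 := h.comm_x (A := 0) (i := i) (j := j) (l := l)
  rw [zpow_zero, one_mul, commutatorElement_eq_one_iff_mul_comm.2 (mem_center_iff.1 hy x).symm] at h1
  exact ⟨i, l, by rw [h.congr e (r := j) (s := 0) (by simpa using h.cast_zero h.wne h1.symm),
    zpow_zero, mul_one]⟩

theorem HData.comm_mem (u t : G) : ⁅u, t⁆ ∈ zpowers ⁅x, e⁆ := by
  have hx : ⁅x, t⁆ ∈ zpowers ⁅x, e⁆ := by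
    obtain ⟨A, i, j, l, rfl⟩ := h.all t
    rw [← commutatorElement_inv (x ^ A * (⁅x, e⁆ ^ i * e ^ j * f ^ l)) x, h.comm_x]
    exact inv_mem (zpow_mem (mem_zpowers _) _)
  have he : ⁅e, t⁆ ∈ zpowers ⁅x, e⁆ := by
    obtain ⟨A, r, hr, rfl⟩ := h.decomp t
    rw [← commutatorElement_inv (x ^ A * r) e, h.comm_e hr]
    exact inv_mem (zpow_mem (mem_zpowers _) _)
  obtain ⟨A, i, j, l, rfl⟩ := h.all u
  show commHom t (fun u => h.cc u _) _ ∈ _
  rw [map_mul, map_zpow, map_mul, map_mul, map_zpow, map_zpow, map_zpow]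
  refine mul_mem (zpow_mem hx A) (mul_mem (mul_mem (zpow_mem ?_ i) (zpow_mem he j)) (zpow_mem ?_ l))
  · rw [show commHom t (fun u => h.cc u _) ⁅x, e⁆ = 1 from
      commutatorElement_eq_one_iff_mul_comm.2 (h.comm_w t).symm.eq]
    exact one_mem _
  · rw [show commHom t (fun u => h.cc u _) f = 1 from
      commutatorElement_eq_one_iff_mul_comm.2 (mem_center_iff.1 h.f_center t).symm]
    exact one_mem _

theorem HData.w_normal : (zpowers ⁅x, e⁆).Normal := ⟨fun n hn g => by
  obtain ⟨k, rfl⟩ := mem_zpowers_iff.1 hn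
  rw [((h.comm_w g).zpow_right k).eq, mul_inv_cancel_right]
  exact zpow_mem (mem_zpowers _) k⟩

theorem HData.w_apply (γ : MulAut G) {y : G} (hy : y ∈ zpowers ⁅x, e⁆) : γ y ∈ zpowers ⁅x, e⁆ := by
  obtain ⟨k, rfl⟩ := mem_zpowers_iff.1 hy
  rw [map_zpow, map_commutatorElement]
  exact zpow_mem (h.comm_mem _ _) k

theorem HData.w_le_center : zpowers ⁅x, e⁆ ≤ center G := zpowers_le.2 (h.cc x e)

theorem HData.card_w : Nat.card (zpowers ⁅x, e⁆) = p := by
  rw [Nat.card_zpowers, orderOf_eq_prime (h.exp _) h.wne]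

theorem HData.f_notMem : f ∉ zpowers ⁅x, e⁆ := fun hf => by
  have hp := (Fact.out : p.Prime)
  haveI := h.w_normal
  have hle : E ≤ zpowers e ⊔ zpowers ⁅x, e⁆ := fun y hy => by
    obtain ⟨i, j, l, rfl⟩ := h.gen y hy
    exact mul_mem (mul_mem (mem_sup_right (zpow_mem (mem_zpowers _) i))
      (mem_sup_left (zpow_mem (mem_zpowers _) j))) (mem_sup_right (zpow_mem hf l))
  have h1 := (Subgroup.card_le_of_le hle).trans (Nat.le_of_dvd (Nat.mul_pos Nat.card_pos Nat.card_pos)
    (CfsgLib.PGroup.card_sup_dvd_of_normal (zpowers e) (zpowers ⁅x, e⁆)))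
  rw [h.cardE, h.card_w, Nat.card_zpowers] at h1
  have h2 : orderOf e * p ≤ p * p :=
    Nat.mul_le_mul_right p (Nat.le_of_dvd hp.pos (orderOf_dvd_of_pow_eq_one (h.exp e)))
  have h3 : p ^ 2 < p ^ 3 := Nat.pow_lt_pow_right hp.one_lt (by norm_num)
  rw [pow_two] at h3
  omega

theorem HData.card_center : Nat.card (center G) = p * p := by
  have hp := (Fact.out : p.Prime)
  refine le_antisymm ?_ ?_
  · have h1 := CfsgLib.MaxClassCube.mul_card_le h.pgroup
      (lt_of_le_of_ne h.center_le fun e' => h.e_notMem (e'.ge h.emem))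
    rw [h.cardE] at h1
    exact Nat.le_of_mul_le_mul_left (h1.trans (le_of_eq (by ring))) hp.pos
  · have h1 := CfsgLib.MaxClassCube.mul_card_le h.pgroup
      (lt_of_le_of_ne h.w_le_center fun e' => h.f_notMem (e'.ge h.f_center))
    rwa [h.card_w] at h1

theorem HData.card_eq : Nat.card G = p * p * Nat.card (center G) := by
  rw [h.index, h.cardE, h.card_center]; ring

theorem HData.gen_center {y : G} (hy : y ∈ E) : ∃ k : ℤ, (e ^ k)⁻¹ * y ∈ center G := by
  obtain ⟨i, j, l, rfl⟩ := h.gen y hy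
  refine ⟨j, ?_⟩
  rw [(((h.comm_w e).zpow_left j).zpow_right i).symm.eq, mul_assoc, inv_mul_cancel_left]
  exact mul_mem ((center G).zpow_mem (h.cc x e) i) ((center G).zpow_mem h.f_center l)

theorem HData.sec_center (Γ : Subgroup (MulAut G)) : Sec p Γ (center G) (zpowers ⁅x, e⁆) :=
  ⟨h.w_le_center, h.w_normal, by rw [h.card_center, h.card_w],
    fun γ _ y hy => characteristic_iff_map_le.1 (inferInstance : (center G).Characteristic) γ ⟨y, hy, rfl⟩,
    fun γ _ _ hy => h.w_apply γ hy⟩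

theorem HData.sec_w (Γ : Subgroup (MulAut G)) : Sec p Γ (zpowers ⁅x, e⁆) ⊥ :=
  ⟨bot_le, inferInstance, by rw [h.card_w, card_bot, mul_one], fun γ _ _ hy => h.w_apply γ hy,
    fun γ _ y hy => by rw [mem_bot.1 hy, map_one]; exact one_mem _⟩

end CfsgLib.Fusion.RankThree
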