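import Cfsg.Agent.Lib.Fusion.System.RankThree.HeisPlane
import Cfsg.Agent.Lib.Fusion.System.RankThree.Over

/-!
# No escape over the group of order `p⁴`, exponent `p` and class two

An element of `R` moving `E` can be corrected to commute with a subgroup of order `p³`, and the
weights of a torus make it of order `p`.
-/

set_option autoImplicit false
set_option linter.style.haveILetI false
set_option linter.unusedSectionVars false

open Subgroup
open scoped commutatorElement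

namespace CfsgLib.Fusion.RankThree

open CfsgLib.Fusion.LineTorus (Sec Inv setStab exists_wt zpow_congr pGen_fix le_pGen)

universe u v

/-- Four independent commuting elements of order `p` in a group of sectional rank three. -/
theorem false_of_four_elements {H : Type v} [Group H] [Finite H] {p : ℕ} [Fact p.Prime] (hH : IsPGroup p H)
    (hr : Cfsg.SectionalPRankLE p 3 H) {a b c d : H} (ha : a ≠ 1) (hb : b ∉ zpowers a)
    (hc : c ∉ closure ({a, b} : Set H)) (hd : d ∉ closure ({a, b, c} : Set H))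
    (hexp : ∀ y ∈ ({a, b, c, d} : Set H), y ^ p = 1)
    (hcomm : ∀ y ∈ ({a, b, c, d} : Set H), ∀ z ∈ ({a, b, c, d} : Set H), y * z = z * y) : False := by
  set π := QuotientGroup.mk' (⊥ : Subgroup H)
  have hinj : Function.Injective π := (injective_iff_map_eq_one π).2 fun y hy =>
    mem_bot.1 ((QuotientGroup.eq_one_iff y).1 hy)
  refine false_of_four hH hr ⊥ (a := π a) (b := π b) (c := π c) (d := π d)
    (fun e => ha (hinj (e.trans (map_one π).symm))) ?_ ?_ ?_ ?_ ?_
  · rwa [← MonoidHom.map_zpowers, mem_map_iff_mem hinj]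
  · rwa [show ({π a, π b} : Set (H ⧸ (⊥ : Subgroup H))) = π '' {a, b} by simp [Set.image_insert_eq],
      ← MonoidHom.map_closure, mem_map_iff_mem hinj]
  · rwa [show ({π a, π b, π c} : Set (H ⧸ (⊥ : Subgroup H))) = π '' {a, b, c} by
      simp [Set.image_insert_eq], ← MonoidHom.map_closure, mem_map_iff_mem hinj]
  · rintro _ (rfl | rfl | rfl | rfl) <;> rw [← map_pow, hexp _ (by simp), map_one]
  · rintro _ (rfl | rfl | rfl | rfl) _ (rfl | rfl | rfl | rfl) <;>
      exact (map_mul π _ _).symm.trans ((congrArg π (hcomm _ (by simp) _ (by simp))).trans (map_mul π _ _))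

variable {G : Type u} [Group G] [Finite G] {R : Type v} [Group R] [Finite R] {p : ℕ} [Fact p.Prime]
  {E : Subgroup G} [E.Normal] {Γ : Subgroup (MulAut G)} {ι : G →* R} {c : R →* MulAut G}
  {x e f : G}

theorem Over.false_of_hdata (hO : Over p E Γ ι c) (h : HData p E x e f) (hp5 : 5 ≤ p) {β : MulAut G}
    (hβ : β ∈ Γ) {a b : ℤ} (hab : ((a * b : ℤ) : ZMod p) = 1) (hb2 : (b : ZMod p) ^ 2 ≠ 1)
    (hb3 : (b : ZMod p) ^ 3 ≠ 1) (hb5 : (b : ZMod p) ^ 5 ≠ 1) (hβx : (x ^ (b * b))⁻¹ * β x ∈ E)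
    (hβe : β e = e ^ a) (hβw : β ⁅x, e⁆ = ⁅x, e⁆ ^ b) (hβf : β f = f) : False := by
  have hp := (Fact.out : p.Prime)
  have hab' : (a : ZMod p) * (b : ZMod p) = 1 := by push_cast at hab; exact hab
  have hb0 : (b : ZMod p) ≠ 0 := fun e0 => by rw [e0, mul_zero] at hab'; exact zero_ne_one hab'
  have hG := h.pgroup
  have hzc : ∀ γ : MulAut G, ∀ y ∈ center G, γ y ∈ center G := fun γ y hy =>
    characteristic_iff_map_le.1 (inferInstance : (center G).Characteristic) γ ⟨y, hy, rfl⟩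
  obtain ⟨g, hg, hx1E', D, hx1D', hZD, hcD, hDinv, hDfix, hDtop, hidx, hgp⟩ :=
    hO.exists_line inferInstance h.center_le (fun r => hzc _) h.card_eq h.emem
      (fun y hy => h.gen_center hy)
  obtain ⟨x1, hx1⟩ : ∃ x1, x1 = c g e * e⁻¹ := ⟨_, rfl⟩
  rw [← hx1] at hx1E' hx1D'
  have hge : c g e = x1 * e := by rw [hx1, inv_mul_cancel_right]
  haveI hWn := h.w_normal
  have hDn : ∀ {T : Subgroup G}, zpowers ⁅x, e⁆ ≤ T → T.Normal := fun hT =>
    LineTorus.normal_of_comm (R := zpowers ⁅x, e⁆) h.comm_mem hT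
  haveI hDnormal : D.Normal := hDn (h.w_le_center.trans hZD)
  obtain ⟨h0, hh0Γ, hh0x, hh0w, hh0f⟩ := h.exists_eigen hβ hab hb3 hβx hβe hβw hβf
    (hO.qle ⟨g, rfl⟩) hx1E' hge (hDfix g x1 hx1D')
  have hDmod : ∀ y ∈ D, ∃ i : ℤ, (x1 ^ i)⁻¹ * y ∈ center G := by
    intro y hy
    have heq : zpowers x1 ⊔ center G = D := eq_of_le_of_card_ge (sup_le (zpowers_le.2 hx1D') hZD) (by
      rw [hcD]
      exact CfsgLib.MaxClassCube.mul_card_le hG (lt_of_le_of_ne le_sup_right fun e' =>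
        hx1E' (h.center_le (e'.ge (mem_sup_left (mem_zpowers x1))))))
    obtain ⟨u, hu, z, hz, rfl⟩ := mem_sup_of_normal_right.1 (heq.ge hy)
    obtain ⟨i, rfl⟩ := mem_zpowers_iff.1 hu
    exact ⟨i, by rwa [inv_mul_cancel_left]⟩
  have hh0D : ∀ y ∈ D, h0 y ∈ D := fun y hy => by
    obtain ⟨i, hi⟩ := hDmod y hy
    have h1 : h0 y = h0 x1 ^ i * h0 ((x1 ^ i)⁻¹ * y) := by
      rw [← map_zpow, ← map_mul, mul_inv_cancel_left]
    rw [h1]
    refine mul_mem (zpow_mem ?_ i) (hZD (hzc h0 _ hi))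
    have := mul_mem (zpow_mem hx1D' (b * b)) (hZD hh0x)
    rwa [mul_inv_cancel_left] at this
  -- a modification extending to `R`
  set Y := Γ ⊓ setStab D with hY
  have hQY : c.range ≤ Y := fun γ hγ => by
    obtain ⟨r, rfl⟩ := hγ
    exact ⟨hO.qle ⟨r, rfl⟩, fun y hy => hDinv r y hy⟩
  have hsec1 : Sec p Y ⊤ D := ⟨le_top, hDnormal, by rw [card_top, h.card_eq, hcD]; ring,
    fun _ _ _ _ => mem_top _, fun γ hγ => hγ.2⟩
  have hsec2 : Sec p Y D (center G) := ⟨hZD, inferInstance, hcD, fun γ hγ => hγ.2, fun γ _ => hzc γ⟩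
  have hQp : IsPGroup p c.range := by
    rw [MonoidHom.range_eq_map]; exact (hO.pgroup.to_subgroup ⊤).map _
  have hrfix : ∀ {U T : Subgroup G}, Sec p Y U T → ∀ r, ∀ y ∈ U, y⁻¹ * c r y ∈ T := fun hs r y hy =>
    pGen_fix hs (le_pGen hQY hQp ⟨r, rfl⟩) y hy
  obtain ⟨w, hwdef⟩ : ∃ w, w = ⁅x, e⁆ := ⟨_, rfl⟩
  have hwW : w ∈ zpowers ⁅x, e⁆ := by rw [hwdef]; exact mem_zpowers _
  have hcw : ∀ r, ∀ y ∈ zpowers ⁅x, e⁆, c r y = y := fun r y hy =>
    (inv_mul_eq_one.1 (mem_bot.1 (hrfix (h.sec_w Y) r y hy))).symm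
  obtain ⟨γ, hγY, δ, hδ, hwt⟩ := hO.exists_delta inf_le_left hQY (γ := h0) ⟨hh0Γ, hh0D⟩
  have hγw : γ w = w ^ b := by
    rw [hwdef, ← hh0w]
    exact (inv_mul_eq_one.1 (mem_bot.1 (hwt _ ⊥ (h.sec_w Y) _ (mem_zpowers _)))).symm
  have hγf : f⁻¹ * γ f ∈ zpowers ⁅x, e⁆ := by
    have := mul_mem hh0f (hwt _ _ (h.sec_center Y) f h.f_center)
    rwa [mul_assoc, mul_inv_cancel_left] at this
  have hγx1 : (x1 ^ (b * b))⁻¹ * γ x1 ∈ center G := by
    have := mul_mem hh0x (hwt D _ hsec2 x1 hx1D')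
    rwa [mul_assoc, mul_inv_cancel_left] at this
  -- the commutator of `x₁` and `e`
  obtain ⟨z, hz⟩ : ∃ z, z = ⁅x1, e⁆ := ⟨_, rfl⟩
  obtain ⟨A1, r1, hr1, hx1r⟩ := h.decomp x1
  have hzA : z = w ^ A1 := by rw [hz, hx1r, h.comm_e hr1, hwdef]
  have hA10 : (A1 : ZMod p) ≠ 0 := fun h0' => hx1E' (by
    rw [hx1r, h.congr x (r := A1) (s := 0) (by simpa using h0'), zpow_zero, one_mul]; exact hr1)
  have hz1 : z ≠ 1 := fun e' => hA10 (h.cast_zero (hwdef ▸ h.wne) (hzA ▸ e'))
  have hzW : z ∈ zpowers ⁅x, e⁆ := by rw [hz]; exact h.comm_mem _ _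
  have hWz : ∀ y ∈ zpowers ⁅x, e⁆, ∃ k : ℤ, y = z ^ k := fun y hy => by
    obtain ⟨k, rfl⟩ := mem_zpowers_iff.1 hy
    obtain ⟨A2, hA2⟩ : ∃ A2 : ℤ, (A2 : ZMod p) = (A1 : ZMod p)⁻¹ :=
      ⟨((A1 : ZMod p)⁻¹).val, by push_cast; rw [ZMod.natCast_zmod_val]⟩
    refine ⟨A2 * k, ?_⟩
    rw [hzA, ← zpow_mul, hwdef]
    refine h.congr _ ?_
    push_cast; rw [hA2, ← mul_assoc, mul_inv_cancel₀ hA10, one_mul]
  have hzcen : ∀ u, Commute u z := fun u => mem_center_iff.1 (h.w_le_center hzW) u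
  have hγz : γ z = z ^ b := by rw [hzA, map_zpow, hγw, ← zpow_mul, ← zpow_mul, mul_comm]
  have hDx1 : ∀ y ∈ D, Commute y x1 := fun y hy => by
    obtain ⟨i, hi⟩ := hDmod y hy
    rw [show y = x1 ^ i * ((x1 ^ i)⁻¹ * y) by group]
    exact ((Commute.refl x1).zpow_left i).mul_left (mem_center_iff.1 hi x1).symm
  obtain ⟨re, hre⟩ := exists_wt hsec1 hγY
  obtain ⟨d1, hd1, hγe⟩ : ∃ d ∈ D, γ e = e ^ re * d :=
    ⟨(e ^ re)⁻¹ * γ e, QuotientGroup.eq.1 (by
      rw [hre e (mem_top _), ← QuotientGroup.mk_zpow]), by group⟩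
  obtain ⟨z1, hz1c, hγx1'⟩ : ∃ z1 ∈ center G, γ x1 = x1 ^ (b * b) * z1 :=
    ⟨_, hγx1, by group⟩
  have hra : (re : ZMod p) = a := by
    have h1 : γ z = z ^ (b * b * re) := by
      rw [hz, map_commutatorElement, hγx1', hγe]
      show commHom (e ^ re * d1) (fun u => h.cc u _) (x1 ^ (b * b) * z1) = _
      rw [map_mul, map_zpow, show commHom (e ^ re * d1) (fun u => h.cc u _) z1 = 1 from
        commutatorElement_eq_one_iff_mul_comm.2 (mem_center_iff.1 hz1c _).symm, mul_one]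
      show ⁅x1, e ^ re * d1⁆ ^ (b * b) = _
      have h2 : ⁅x1, e ^ re * d1⁆ = ⁅x1, e⁆ ^ re := by
        rw [← commutatorElement_inv]
        show (commHom x1 (fun u => h.cc u _) (e ^ re * d1))⁻¹ = _
        rw [map_mul, map_zpow, show commHom x1 (fun u => h.cc u _) d1 = 1 from
          commutatorElement_eq_one_iff_mul_comm.2 (hDx1 d1 hd1).eq, mul_one]
        show (⁅e, x1⁆ ^ re)⁻¹ = _
        rw [← inv_zpow, commutatorElement_inv]
      rw [h2, ← zpow_mul, mul_comm]
    rw [hγz] at h1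
    have h3 := h.cast_zero hz1 (k := b * b * re - b) (by rw [zpow_sub, ← h1, mul_inv_cancel])
    push_cast at h3
    have h4 : (b : ZMod p) * re = 1 := by
      have : (b : ZMod p) * ((b : ZMod p) * re - 1) = 0 := by linear_combination h3
      exact sub_eq_zero.1 ((mul_eq_zero.1 this).resolve_left hb0)
    linear_combination (a : ZMod p) * h4 - (re : ZMod p) * hab'
  -- the action of `δ g`
  have hcomm : ∀ r y, γ (c r y) = c (δ r) (γ y) := fun r y => hO.inj (by
    rw [← hδ, hO.spec, map_mul, map_mul, map_inv, hδ, hO.spec])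
  haveI := hO.range_normal
  have hrange : ∀ y, ((ι y : R) : R ⧸ ι.range) = 1 := fun y => (QuotientGroup.eq_one_iff _).2 ⟨y, rfl⟩
  obtain ⟨s, p0, hs⟩ : ∃ (s : ℕ) (p0 : G), δ g = g ^ s * ι p0 := by
    obtain ⟨i, hi⟩ := hidx (δ g)
    refine ⟨((i : ZMod p)).val, ?_⟩
    have h1 : (g ^ ((i : ZMod p)).val)⁻¹ * g ^ i ∈ ι.range := by
      rw [← QuotientGroup.eq, QuotientGroup.mk_pow, QuotientGroup.mk_zpow, ← zpow_natCast]
      refine zpow_congr (by rw [← QuotientGroup.mk_pow]; exact (QuotientGroup.eq_one_iff _).2 hgp) ?_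
      push_cast; rw [ZMod.natCast_zmod_val]
    have h2 := mul_mem h1 hi
    rw [mul_assoc, mul_inv_cancel_left] at h2
    obtain ⟨p0, hp0⟩ := h2
    exact ⟨p0, by rw [hp0, mul_inv_cancel_left]⟩
  set π := QuotientGroup.mk' (center G) with hπ
  have hπc : ∀ γ : MulAut G, ∀ {y y' : G}, π y = π y' → π (γ y) = π (γ y') := fun γ {y y'} hyy => by
    refine QuotientGroup.eq.2 ?_
    rw [← map_inv, ← map_mul]
    exact hzc γ _ (QuotientGroup.eq.1 hyy)
  have hπcomm : ∀ u t : G, Commute (π u) (π t) := h.commute_mk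
  have hu_x1 : π (c g x1) = π x1 := (QuotientGroup.eq.2 (hDfix g x1 hx1D')).symm
  have hcg : ∀ i : ℕ, π (c (g ^ i) e) = π x1 ^ i * π e ∧ π (c (g ^ i) x1) = π x1 := by
    intro i
    induction i with
    | zero => simp
    | succ i ih =>
      rw [pow_succ', map_mul, MulAut.mul_apply, MulAut.mul_apply]
      refine ⟨?_, by rw [hπc (c g) ih.2, hu_x1]⟩
      rw [hπc (c g) (y' := x1 ^ i * e) (by rw [map_mul π, map_pow π]; exact ih.1), map_mul, map_pow,
        map_mul, map_pow, hu_x1, hge, map_mul, ← mul_assoc, ← pow_succ]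
  have hπconj : ∀ u t : G, π (u * t * u⁻¹) = π t := fun u t => by
    rw [map_mul, map_mul, map_inv, (hπcomm u t).eq, mul_inv_cancel_right]
  have hπind : ∀ {A : ℤ}, π x1 ^ A = 1 → (A : ZMod p) = 0 := fun {A} hA => by
    rw [← map_zpow] at hA
    exact h.cast_mem hx1E' (h.center_le ((QuotientGroup.eq_one_iff _).1 hA))
  have hs3 : (s : ZMod p) = (b : ZMod p) ^ 3 := by
    obtain ⟨i, hi⟩ := hDmod d1 hd1
    have hπγe : π (γ e) = π e ^ re * π x1 ^ i := by
      rw [hγe, map_mul, map_zpow, ← map_zpow π x1, show π (x1 ^ i) = π d1 from QuotientGroup.eq.2 hi]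
    have hγx1π : π (γ x1) = π x1 ^ (b * b) := by
      rw [← map_zpow]; exact (QuotientGroup.eq.2 hγx1).symm
    have h1 := congrArg π (hcomm g e)
    rw [hge, map_mul, map_mul, hγx1π, hs, map_mul c, MulAut.mul_apply, hO.c_self,
      hπc (c (g ^ s)) (hπconj p0 (γ e)), hπc (c (g ^ s)) (y' := e ^ re * x1 ^ i) (by
      rw [map_mul π, map_zpow π, map_zpow π]; exact hπγe), map_mul (c (g ^ s)), map_zpow, map_zpow,
      map_mul π, map_zpow π, map_zpow π, (hcg s).1, (hcg s).2,
      (((hπcomm x1 e).pow_left s)).mul_zpow, mul_assoc, ← hπγe] at h1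
    have h2 := mul_right_cancel h1
    rw [← zpow_natCast, ← zpow_mul] at h2
    have h3 := hπind (A := b * b - s * re) (by rw [zpow_sub, h2, mul_inv_cancel])
    push_cast at h3
    rw [hra] at h3
    linear_combination -(b : ZMod p) * h3 - (s : ZMod p) * hab'
  have hconjc : ∀ (u : G) {y : G}, y ∈ center G → u * y * u⁻¹ = y := fun u {y} hy => by
    rw [mem_center_iff.1 hy u, mul_inv_cancel_right]
  -- `g` centralizes `f`
  have hgf : c g f = f := by
    obtain ⟨k, hk⟩ := hWz _ (hrfix (h.sec_center Y) g f h.f_center)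
    have hcgf : c g f = f * z ^ k := by rw [← hk, mul_inv_cancel_left]
    obtain ⟨t1, ht1⟩ := hWz _ hγf
    have hγf' : γ f = f * z ^ t1 := by rw [← ht1, mul_inv_cancel_left]
    have hiter : ∀ i : ℕ, c (g ^ i) (γ f) = γ f * z ^ (k * i) := by
      intro i
      induction i with
      | zero => simp
      | succ i ih =>
        rw [pow_succ', map_mul, MulAut.mul_apply, ih, hγf', map_mul, map_mul, map_zpow, map_zpow,
          hcw g z hzW, hcgf, mul_assoc, mul_assoc, ← zpow_add, ← zpow_add, mul_assoc, ← zpow_add]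
        congr 2; push_cast; ring
    have h1 := hcomm g f
    rw [hcgf, map_mul, map_zpow, hγz, hs, map_mul c, MulAut.mul_apply, hO.c_self,
      hconjc p0 (hzc γ f h.f_center), hiter s, ← zpow_mul] at h1
    have h2 := mul_left_cancel h1
    have h3 := h.cast_zero hz1 (k := b * k - k * s) (by rw [zpow_sub, h2, mul_inv_cancel])
    push_cast at h3
    rw [hs3] at h3
    have hk0 : (k : ZMod p) = 0 := by
      have : (k : ZMod p) * ((b : ZMod p) * (1 - b ^ 2)) = 0 := by linear_combination h3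
      exact (mul_eq_zero.1 this).resolve_right (mul_ne_zero hb0 (sub_ne_zero.2 (Ne.symm hb2)))
    rw [hcgf, h.congr z (r := k) (s := 0) (by simpa using hk0), zpow_zero, mul_one]
  have hZgen : ∀ y ∈ center G, ∃ l k : ℤ, y = f ^ l * z ^ k := fun y hy => by
    obtain ⟨i, l, rfl⟩ := h.center_gen hy
    obtain ⟨k, hk⟩ := hWz (⁅x, e⁆ ^ i) (zpow_mem (mem_zpowers _) i)
    exact ⟨l, k, by rw [hk, ((hzcen (f ^ l)).zpow_right k).symm.eq]⟩
  have hcgZ : ∀ y ∈ center G, c g y = y := fun y hy => by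
    obtain ⟨l, k, rfl⟩ := hZgen y hy
    rw [map_mul, map_zpow, map_zpow, hgf, hcw g z hzW]
  -- `g` centralizes `x₁` modulo the derived subgroup
  have hgx : x1⁻¹ * c g x1 ∈ zpowers ⁅x, e⁆ := by
    set φ := QuotientGroup.mk' (zpowers ⁅x, e⁆) with hφ
    have hφc : ∀ γ : MulAut G, ∀ {y y' : G}, φ y = φ y' → φ (γ y) = φ (γ y') := fun γ {y y'} hyy => by
      refine QuotientGroup.eq.2 ?_
      rw [← map_inv, ← map_mul]
      exact h.w_apply γ (QuotientGroup.eq.1 hyy)
    have hφcomm : ∀ u t : G, Commute (φ u) (φ t) := fun u t => by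
      rw [commute_iff_eq, ← commutatorElement_eq_one_iff_mul_comm, ← map_commutatorElement]
      exact (QuotientGroup.eq_one_iff _).2 (h.comm_mem u t)
    have hφz : φ z = 1 := (QuotientGroup.eq_one_iff _).2 hzW
    have hφf : φ (γ f) = φ f := (QuotientGroup.eq.2 hγf).symm
    have hcen : ∀ y ∈ center G, ∃ k : ℤ, φ y = φ f ^ k := fun y hy => by
      obtain ⟨l, k, rfl⟩ := hZgen y hy
      exact ⟨l, by rw [map_mul, map_zpow, map_zpow, hφz, one_zpow, mul_one]⟩
    obtain ⟨jg, hjg⟩ := hcen _ (hDfix g x1 hx1D')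
    obtain ⟨t2, ht2⟩ := hcen z1 hz1c
    have hcgx : φ (c g x1) = φ x1 * φ f ^ jg := by rw [← hjg, ← map_mul, mul_inv_cancel_left]
    have hcgf' : φ (c g f) = φ f := by rw [hgf]
    have hγx : φ (γ x1) = φ x1 ^ (b * b) * φ f ^ t2 := by rw [hγx1', map_mul, map_zpow, ht2]
    have hiter : ∀ i : ℕ, φ (c (g ^ i) (γ x1)) = φ x1 ^ (b * b) * φ f ^ (t2 + jg * (b * b) * i) := by
      intro i
      induction i with
      | zero => simp [hγx]
      | succ i ih =>
        rw [pow_succ', map_mul, MulAut.mul_apply, hφc (c g) (y' := x1 ^ (b * b) * f ^ (t2 + jg * (b * b) * i))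
          (by rw [ih, map_mul, map_zpow, map_zpow]), map_mul, map_zpow, map_zpow, map_mul, map_zpow, map_zpow,
          hcgx, hcgf', ((hφcomm x1 f).zpow_right jg).mul_zpow, mul_assoc, ← zpow_mul, ← zpow_add]
        congr 2; push_cast; ring
    have hconjφ : ∀ u t : G, φ (u * t * u⁻¹) = φ t := fun u t => by
      rw [map_mul, map_mul, map_inv, (hφcomm u t).eq, mul_inv_cancel_right]
    have h1 := congrArg φ (hcomm g x1)
    rw [hφc γ (y' := x1 * f ^ jg) (by rw [hcgx, map_mul, map_zpow]), map_mul, map_zpow, map_mul, map_zpow,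
      hφf, hs, map_mul c, MulAut.mul_apply, hO.c_self, hφc (c (g ^ s)) (hconjφ p0 (γ x1)), hiter s, hγx,
      mul_assoc, ← zpow_add] at h1
    have h2 := mul_left_cancel h1
    have h3 : f ^ (jg * (b * b) * s - jg) ∈ zpowers ⁅x, e⁆ := by
      refine (QuotientGroup.eq_one_iff _).1 ?_
      show φ (f ^ (jg * (b * b) * s - jg)) = 1
      rw [map_zpow, show jg * (b * b) * (s : ℤ) - jg = (t2 + jg * (b * b) * s) - (t2 + jg) by ring,
        zpow_sub, h2, mul_inv_cancel]
    have hj0 : (jg : ZMod p) = 0 := by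
      have h4 := h.cast_mem h.f_notMem h3
      push_cast at h4
      rw [hs3] at h4
      exact (mul_eq_zero.1 (show (jg : ZMod p) * ((b : ZMod p) ^ 5 - 1) = 0 by
        linear_combination h4)).resolve_right (sub_ne_zero.2 hb5)
    refine QuotientGroup.eq.1 ?_
    show φ x1 = φ (c g x1)
    rw [hcgx, zpow_congr (show φ f ^ p = 1 by rw [← map_pow, h.exp, map_one]) (r := jg) (s := 0)
      (by simpa using hj0), zpow_zero, mul_one]
  -- adjust `g` to centralize `x₁`
  obtain ⟨l, hl⟩ := hWz _ hgx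
  obtain ⟨g', hg'⟩ : ∃ g', g' = g * ι (e ^ l) := ⟨_, rfl⟩
  have hg'range : g' ∉ ι.range := fun h0' => hg (by
    have := mul_mem h0' (inv_mem (show ι (e ^ l) ∈ ι.range from ⟨_, rfl⟩))
    rwa [hg', mul_inv_cancel_right] at this)
  have hg'e : c g' e = x1 * e := by
    rw [hg', map_mul, MulAut.mul_apply, hO.c_self, show e ^ l * e * (e ^ l)⁻¹ = e by group, hge]
  have hg'x : c g' x1 = x1 := by
    rw [hg', map_mul, MulAut.mul_apply, hO.c_self]
    have h2 : ⁅e ^ l, x1⁆ = z ^ (-l) := by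
      show commHom x1 (fun u => h.cc u _) (e ^ l) = _
      rw [map_zpow]
      show ⁅e, x1⁆ ^ l = _
      rw [← commutatorElement_inv, ← hz, inv_zpow, zpow_neg]
    rw [show e ^ l * x1 * (e ^ l)⁻¹ = ⁅e ^ l, x1⁆ * x1 by simp only [commutatorElement_def]; group, h2,
      map_mul, map_zpow, hcw g z hzW, show c g x1 = x1 * z ^ l by rw [← hl, mul_inv_cancel_left],
      ← mul_assoc, ((hzcen x1).zpow_right (-l)).symm.eq, mul_assoc, ← zpow_add, neg_add_cancel, zpow_zero,
      mul_one]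
  have hg'Z : ∀ y ∈ center G, c g' y = y := fun y hy => by
    rw [hg', map_mul, MulAut.mul_apply, hO.c_self, hconjc _ hy, hcgZ y hy]
  have hfixg : ∀ {y : G}, c g' y = y → Commute g' (ι y) := fun {y} hy => by
    rw [commute_iff_eq, ← mul_inv_eq_iff_eq_mul, ← hO.spec, hy]
  have hgen : ∀ r : R, ∃ (i : ℤ) (y : G), r = g' ^ i * ι y := fun r => by
    obtain ⟨i, hi⟩ := hidx r
    have h1 : (g' ^ i)⁻¹ * r ∈ ι.range := by
      rw [← QuotientGroup.eq, QuotientGroup.mk_zpow, hg', QuotientGroup.mk_mul, hrange, mul_one,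
        ← QuotientGroup.mk_zpow]
      exact QuotientGroup.eq.2 hi
    obtain ⟨y, hy⟩ := h1
    exact ⟨i, y, by rw [hy, mul_inv_cancel_left]⟩
  have hcentral : ∀ y ∈ center G, ι y ∈ center R := fun y hy => mem_center_iff.2 fun r => by
    obtain ⟨i, t, rfl⟩ := hgen r
    have h1 : Commute (ι t) (ι y) := by
      rw [commute_iff_eq, ← map_mul, ← map_mul, mem_center_iff.1 hy t]
    exact (((hfixg (hg'Z y hy)).zpow_left i).mul_left h1).eq
  -- the derived subgroup
  haveI hD'n : (D.map ι).Normal := hO.map_normal hDinv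
  have hder : commutator R ≤ D.map ι := by
    refine commutator_le_of_generators (S := insert g' (Set.range ι)) (eq_top_iff.2 fun r _ => ?_) ?_
    · obtain ⟨i, y, rfl⟩ := hgen r
      exact mul_mem (zpow_mem (subset_closure (Set.mem_insert _ _)) i)
        (subset_closure (Set.mem_insert_of_mem _ ⟨y, rfl⟩))
    · have key : ∀ y, ⁅g', ι y⁆ ∈ D.map ι := fun y => by
        rw [commutatorElement_def, ← hO.spec, ← map_inv, ← map_mul]
        refine mem_map_of_mem ι ?_
        have h1 := hDnormal.conj_mem _ (hDtop g' y) y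
        rwa [show y * (y⁻¹ * c g' y) * y⁻¹ = c g' y * y⁻¹ by group] at h1
      rintro u (rfl | ⟨y, rfl⟩) t (rfl | ⟨y', rfl⟩)
      · rw [commutatorElement_self]; exact one_mem _
      · exact key y'
      · rw [← commutatorElement_inv]; exact inv_mem (key y)
      · rw [← map_commutatorElement]
        exact mem_map_of_mem ι (hZD (h.cc _ _))
  have hexpι : ∀ u : G, ι u ^ p = 1 := fun u => by rw [← map_pow, h.exp, map_one]
  have hexpD : ∀ u ∈ commutator R, u ^ p = 1 := fun u hu => by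
    obtain ⟨d, -, rfl⟩ := hder hu
    exact hexpι d
  have hcl : ⁅⁅commutator R, (⊤ : Subgroup R)⁆, (⊤ : Subgroup R)⁆ = ⊥ := by
    refine eq_bot_iff.2 (commutator_le.2 fun u hu t _ => ?_)
    rw [mem_bot, commutatorElement_eq_one_iff_mul_comm]
    refine (mem_center_iff.1 ((commutator_le.2 fun a ha q _ => ?_ :
      ⁅commutator R, (⊤ : Subgroup R)⁆ ≤ center R) hu) t).symm
    obtain ⟨d, hd, rfl⟩ := hder ha
    rw [commutatorElement_def, show ι d * q * (ι d)⁻¹ * q⁻¹ = ι d * ι (c q d⁻¹) by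
      rw [hO.spec, map_inv]; group, ← map_mul]
    refine hcentral _ ?_
    have hc1 := hDfix q d⁻¹ (inv_mem hd)
    rwa [inv_inv] at hc1
  -- the `p`-th power of `g'`
  have hg'p : g' ^ p ∈ ι.range := by
    rw [← QuotientGroup.eq_one_iff, QuotientGroup.mk_pow, hg', QuotientGroup.mk_mul, hrange, mul_one,
      ← QuotientGroup.mk_pow, QuotientGroup.eq_one_iff]
    exact hgp
  obtain ⟨y, hy⟩ := hg'p
  have hyfix : c g' y = y := hO.inj (by rw [hO.spec, hy, ← pow_succ', pow_succ, mul_inv_cancel_right])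
  have hye : y * e * y⁻¹ = e := by
    have hiter : ∀ i : ℕ, c (g' ^ i) e = x1 ^ i * e := by
      intro i
      induction i with
      | zero => simp
      | succ i ih =>
        rw [pow_succ', map_mul, MulAut.mul_apply, ih, map_mul, map_pow, hg'x, hg'e, ← mul_assoc, ← pow_succ]
    rw [← hO.c_self, hy, hiter, h.exp, one_mul]
  have hyZ : y ∈ center G := by
    obtain ⟨A, r, hr, hyr⟩ := h.decomp y
    have hA0 : (A : ZMod p) = 0 := by
      have h1 := h.comm_e (A := A) hr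
      rw [← hyr, commutatorElement_def, hye, mul_inv_cancel] at h1
      exact h.cast_zero h.wne h1.symm
    rw [h.congr x (r := A) (s := 0) (by simpa using hA0), zpow_zero, one_mul] at hyr
    subst hyr
    obtain ⟨k, hk⟩ := h.gen_center hr
    have hπy : π y = π e ^ k := by rw [← map_zpow]; exact (QuotientGroup.eq.2 hk).symm
    have h1 := congrArg π hyfix
    rw [hπc (c g') (y' := e ^ k) (by rw [map_zpow π]; exact hπy), map_zpow, map_zpow, hg'e, map_mul,
      (hπcomm x1 e).mul_zpow, hπy] at h1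
    rw [h.congr e (r := k) (s := 0) (by simpa using hπind (mul_eq_right.1 h1)), zpow_zero, inv_one, one_mul] at hk
    exact hk
  obtain ⟨p1, hs1⟩ : ∃ p1 : G, δ g' = g' ^ s * ι p1 := by
    have h1 : (g' ^ s)⁻¹ * δ g' ∈ ι.range := by
      rw [← QuotientGroup.eq, QuotientGroup.mk_pow, hg', map_mul, QuotientGroup.mk_mul, QuotientGroup.mk_mul,
        hs, QuotientGroup.mk_mul, hδ, hrange, hrange, hrange, mul_one, mul_one, mul_one, QuotientGroup.mk_pow]
    obtain ⟨p1, hp1⟩ := h1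
    exact ⟨p1, by rw [hp1, mul_inv_cancel_left]⟩
  have hγy : γ y = y ^ s := hO.inj (by
    rw [← hδ, hy, map_pow, hs1, mul_pow_class_three hp5 hcl hexpD, hexpι, mul_one, map_pow, hy, ← pow_mul,
      ← pow_mul, mul_comm])
  obtain ⟨ny, my, hym⟩ := hZgen y hyZ
  have h5 := hγy
  rw [hym, map_mul, map_zpow, map_zpow, hγz, Commute.mul_pow ((hzcen (f ^ ny)).zpow_right my),
    ← zpow_natCast (f ^ ny), ← zpow_natCast (z ^ my), ← zpow_mul, ← zpow_mul, ← zpow_mul] at h5
  have hny0 : (ny : ZMod p) = 0 := by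
    have e1 : (γ f) ^ ny = f ^ ny * (f⁻¹ * γ f) ^ ny := by
      rw [← Commute.mul_zpow (mem_center_iff.1 (h.w_le_center hγf) f), mul_inv_cancel_left]
    have h3 : f ^ (ny * (s : ℤ) - ny) ∈ zpowers ⁅x, e⁆ := by
      have e2 : f ^ (ny * (s : ℤ) - ny) = (f⁻¹ * γ f) ^ ny * z ^ (b * my) * (z ^ (my * (s : ℤ)))⁻¹ := by
        rw [e1] at h5
        rw [sub_eq_add_neg, add_comm, zpow_add, zpow_neg]
        calc (f ^ ny)⁻¹ * f ^ (ny * (s : ℤ))
            = (f ^ ny)⁻¹ * (f ^ (ny * (s : ℤ)) * z ^ (my * (s : ℤ))) * (z ^ (my * (s : ℤ)))⁻¹ := by group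
          _ = _ := by rw [← h5]; group
      rw [e2]
      exact mul_mem (mul_mem (zpow_mem hγf _) (zpow_mem hzW _)) (inv_mem (zpow_mem hzW _))
    have h4 := h.cast_mem h.f_notMem h3
    push_cast at h4
    rw [hs3] at h4
    exact (mul_eq_zero.1 (show (ny : ZMod p) * ((b : ZMod p) ^ 3 - 1) = 0 by
      linear_combination h4)).resolve_right (sub_ne_zero.2 hb3)
  have hnys : ((ny * (s : ℤ) : ℤ) : ZMod p) = 0 := by push_cast; rw [hny0, zero_mul]
  rw [h.congr (γ f) (r := ny) (s := 0) (by simpa using hny0), h.congr f (r := ny * s) (s := 0)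
    (by simpa using hnys), zpow_zero, zpow_zero, one_mul, one_mul] at h5
  have hmy0 : (my : ZMod p) = 0 := by
    have h3 := h.cast_zero hz1 (k := b * my - my * s) (by rw [zpow_sub, h5, mul_inv_cancel])
    push_cast at h3
    rw [hs3] at h3
    have : (my : ZMod p) * ((b : ZMod p) * (1 - b ^ 2)) = 0 := by linear_combination h3
    exact (mul_eq_zero.1 this).resolve_right (mul_ne_zero hb0 (sub_ne_zero.2 (Ne.symm hb2)))
  rw [h.congr f (r := ny) (s := 0) (by simpa using hny0), h.congr z (r := my) (s := 0) (by simpa using hmy0),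
    zpow_zero, zpow_zero, one_mul] at hym
  have hgp1 : g' ^ p = 1 := by rw [← hy, hym, map_one]
  -- four independent elements
  refine false_of_four_elements hO.pgroup hO.rank (a := ι z) (b := ι f) (c := ι x1) (d := g')
    (fun h1 => hz1 (hO.inj (h1.trans (map_one ι).symm))) (fun h1 => h.f_notMem ?_)
    (fun h1 => hx1E' (h.center_le ?_)) (fun h1 => hg'range ?_) ?_ ?_
  · rw [← MonoidHom.map_zpowers, mem_map_iff_mem hO.inj] at h1
    exact zpowers_le.2 hzW h1
  · rw [← mem_map_iff_mem hO.inj]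
    refine (closure_le _).2 ?_ h1
    rintro _ (rfl | rfl)
    · exact mem_map_of_mem ι (h.w_le_center hzW)
    · exact mem_map_of_mem ι h.f_center
  · refine (closure_le _).2 ?_ h1
    rintro _ (rfl | rfl | rfl) <;> exact ⟨_, rfl⟩
  · rintro u (rfl | rfl | rfl | rfl)
    · exact hexpι z
    · exact hexpι f
    · exact hexpι x1
    · exact hgp1
  · have hx : Commute g' (ι x1) := hfixg hg'x
    have hzc' := hcentral z (h.w_le_center hzW)
    have hfc' := hcentral f h.f_center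
    rintro u (rfl | rfl | rfl | rfl) t (rfl | rfl | rfl | rfl)
    all_goals first
      | rfl
      | exact (mem_center_iff.1 hzc' _).symm
      | exact mem_center_iff.1 hzc' _
      | exact (mem_center_iff.1 hfc' _).symm
      | exact mem_center_iff.1 hfc' _
      | exact hx.eq
      | exact hx.eq.symm

end CfsgLib.Fusion.RankThree
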