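import Cfsg.Agent.Lib.Fusion.System.RankThree.HeisData

/-!
# Eigenlines in the central quotient

A torus element and a transvection generate an element with a given eigenline modulo the centre.
-/

set_option autoImplicit false
set_option linter.style.haveILetI false
set_option linter.unusedSectionVars false

open Subgroup
open scoped commutatorElement

namespace CfsgLib.Fusion.RankThree

open CfsgLib.Fusion.LineTorus (zpow_congr comm_fix)

universe u

variable {G : Type u} [Group G] [Finite G] {p : ℕ} [Fact p.Prime] {E : Subgroup G} {x e f : G}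
  (h : HData p E x e f)
include h

/-- The commutation modulo the centre. -/
theorem HData.commute_mk (u t : G) : Commute (u : G ⧸ center G) (t : G ⧸ center G) := by
  show QuotientGroup.mk' (center G) u * QuotientGroup.mk' (center G) t = _
  refine commutatorElement_eq_one_iff_mul_comm.1 ?_
  rw [← map_commutatorElement]
  exact (QuotientGroup.eq_one_iff _).2 (h.cc u t)

theorem HData.mk_congr (y : G) {r s : ℤ} (e' : (r : ZMod p) = s) :
    (y : G ⧸ center G) ^ r = (y : G ⧸ center G) ^ s := by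
  rw [← QuotientGroup.mk_zpow, ← QuotientGroup.mk_zpow, h.congr y e']

/-- An element with a given eigenline modulo the centre. -/
theorem HData.exists_eigen {Γ : Subgroup (MulAut G)} {β : MulAut G} (hβ : β ∈ Γ) {a b : ℤ}
    (hab : ((a * b : ℤ) : ZMod p) = 1) (hb3 : (b : ZMod p) ^ 3 ≠ 1)
    (hβx : (x ^ (b * b))⁻¹ * β x ∈ E) (hβe : β e = e ^ a) (hβw : β ⁅x, e⁆ = ⁅x, e⁆ ^ b) (hβf : β f = f)
    {u : MulAut G} (hu : u ∈ Γ) {x1 : G} (hx1 : x1 ∉ E) (hue : u e = x1 * e)
    (hux : x1⁻¹ * u x1 ∈ center G) :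
    ∃ γ ∈ Γ, (x1 ^ (b * b))⁻¹ * γ x1 ∈ center G ∧ γ ⁅x, e⁆ = ⁅x, e⁆ ^ b ∧
      f⁻¹ * γ f ∈ zpowers ⁅x, e⁆ := by
  have hab' : (a : ZMod p) * (b : ZMod p) = 1 := by push_cast at hab; exact hab
  have ha0 : (a : ZMod p) ≠ 0 := fun e0 => by rw [e0, zero_mul] at hab'; exact zero_ne_one hab'
  set π := QuotientGroup.mk' (center G) with hπ
  have hπc : ∀ γ : MulAut G, ∀ {y y' : G}, π y = π y' → π (γ y) = π (γ y') := fun γ {y y'} hyy => by
    refine QuotientGroup.eq.2 ?_
    rw [← map_inv, ← map_mul]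
    exact characteristic_iff_map_le.1 (inferInstance : (center G).Characteristic) γ
      ⟨_, QuotientGroup.eq.1 hyy, rfl⟩
  have hcomm : ∀ u t : G, Commute (π u) (π t) := h.commute_mk
  have hcg : ∀ (y : G) {r s : ℤ}, (r : ZMod p) = s → π y ^ r = π y ^ s := fun y {r s} => h.mk_congr y
  obtain ⟨m, hm⟩ := h.gen_center hβx
  have hm' : π (β x) = π x ^ (b * b) * π e ^ m := by
    rw [← map_zpow, ← map_zpow, show π (e ^ m) = π ((x ^ (b * b))⁻¹ * β x) from QuotientGroup.eq.2 hm,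
      ← map_mul, mul_inv_cancel_left]
  have hne : (b : ZMod p) * b - a ≠ 0 := fun e0 => hb3 (by linear_combination (b : ZMod p) * e0 + hab')
  obtain ⟨j, hj⟩ : ∃ j : ℤ, (j : ZMod p) = (m : ZMod p) / ((b : ZMod p) * b - a) :=
    ⟨((m : ZMod p) / ((b : ZMod p) * b - a)).val, by push_cast; rw [ZMod.natCast_zmod_val]⟩
  obtain ⟨x0, hx0⟩ : ∃ x0, x0 = x * e ^ j := ⟨_, rfl⟩
  have hx0E : x0 ∉ E := fun h0 => h.xmem (by
    have := mul_mem h0 (inv_mem (zpow_mem h.emem j)); rwa [hx0, mul_inv_cancel_right] at this)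
  -- coordinates
  let cd : ℤ → ℤ → G ⧸ center G := fun A B => π x0 ^ A * π e ^ B
  have cd_congr : ∀ {A A' B B' : ℤ}, (A : ZMod p) = A' → (B : ZMod p) = B' → cd A B = cd A' B' :=
    fun {A A' B B'} eA eB => by show _ * _ = _ * _; rw [hcg x0 eA, hcg e eB]
  have cd_mul : ∀ A A' B B' : ℤ, cd A B * cd A' B' = cd (A + A') (B + B') := fun A A' B B' => by
    show _ * _ * (_ * _) = _ * _
    rw [zpow_add, zpow_add, mul_assoc, ← mul_assoc (π e ^ B),
      ((hcomm e x0).zpow_zpow B A').eq, mul_assoc, ← mul_assoc]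
  have cd_zpow : ∀ A B k : ℤ, cd A B ^ k = cd (A * k) (B * k) := fun A B k => by
    show (_ * _) ^ k = _ * _
    rw [((hcomm x0 e).zpow_zpow A B).mul_zpow, ← zpow_mul, ← zpow_mul]
  have lin : ∀ (γ : MulAut G) {y : G} {r s r' s' A B : ℤ}, π (γ x0) = cd r s → π (γ e) = cd r' s' →
      π y = cd A B → π (γ y) = cd (r * A + r' * B) (s * A + s' * B) := by
    intro γ y r s r' s' A B h1 h2 hy
    rw [hπc γ (y' := x0 ^ A * e ^ B) (by rw [map_mul π, map_zpow π, map_zpow π]; exact hy), map_mul,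
      map_zpow, map_zpow, map_mul, map_zpow, map_zpow, h1, h2, cd_zpow, cd_zpow, cd_mul]
  have cd_e : π e = cd 0 1 := by show _ = _ * _; rw [zpow_zero, zpow_one, one_mul]
  have cd_x0 : π x0 = cd 1 0 := by show _ = _ * _; rw [zpow_zero, zpow_one, mul_one]
  have hβx0 : π (β x0) = cd (b * b) 0 := by
    show _ = _ * _
    rw [hx0, map_mul, map_mul, map_zpow, map_zpow, hm', hβe, map_zpow, map_mul, map_zpow,
      ((hcomm x e).zpow_right j).mul_zpow, zpow_zero, mul_one, mul_assoc, ← zpow_mul, ← zpow_mul, ← zpow_add]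
    congr 1
    refine hcg e ?_
    push_cast
    rw [hj, div_eq_mul_inv]
    linear_combination -(m : ZMod p) * mul_inv_cancel₀ hne
  have hβe' : π (β e) = cd 0 a := by show _ = _ * _; rw [hβe, map_zpow, zpow_zero, one_mul]
  obtain ⟨A, B, hAB⟩ : ∃ A B : ℤ, π x1 = cd A B := by
    obtain ⟨A, r, hr, hx1r⟩ := h.decomp x1
    obtain ⟨k, hk⟩ := h.gen_center hr
    refine ⟨A, k - j * A, ?_⟩
    show _ = _ * _
    rw [hx0, map_mul, map_zpow, ((hcomm x e).zpow_right j).mul_zpow, mul_assoc, ← zpow_mul, ← zpow_add,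
      add_sub_cancel, hx1r, map_mul, map_zpow, ← map_zpow π e,
      show π (e ^ k) = π r from QuotientGroup.eq.2 hk]
  have hA0 : (A : ZMod p) ≠ 0 := fun hA => hx1 (by
    have h1 : π x1 = π (e ^ B) := by
      rw [hAB, cd_congr (A' := 0) (B' := B) (by simpa using hA) rfl, map_zpow]
      show _ * _ = _
      rw [zpow_zero, one_mul]
    have := mul_mem (zpow_mem h.emem B) (h.center_le (QuotientGroup.eq.1 h1.symm))
    rwa [mul_inv_cancel_left] at this)
  obtain ⟨A', hA'⟩ : ∃ A' : ℤ, (A' : ZMod p) = (A : ZMod p)⁻¹ :=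
    ⟨((A : ZMod p)⁻¹).val, by push_cast; rw [ZMod.natCast_zmod_val]⟩
  have hue' : π (u e) = cd A (B + 1) := by
    rw [hue, map_mul, hAB, cd_e, cd_mul, add_zero]
  have hux' : π (u x1) = cd A B := by
    rw [← hAB]; exact (QuotientGroup.eq.2 hux).symm
  have hx0x1 : π x0 = π (x1 ^ A' * e ^ (-(B * A'))) := by
    rw [map_mul, map_zpow, map_zpow, hAB, cd_e, cd_zpow, cd_zpow, cd_mul, cd_x0]
    refine cd_congr ?_ ?_ <;> push_cast <;> rw [hA']
    · field_simp; ring
    · ring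
  have hux0 : π (u x0) = cd (1 - B) (-(B * B * A')) := by
    rw [hπc u hx0x1, map_mul, map_zpow, map_zpow, map_mul, map_zpow, map_zpow, hux', hue', cd_zpow, cd_zpow,
      cd_mul]
    refine cd_congr ?_ ?_ <;> push_cast <;> rw [hA']
    · field_simp; ring
    · ring
  obtain ⟨v, hv⟩ : ∃ v, v = β * u * β⁻¹ := ⟨_, rfl⟩
  have hvΓ : v ∈ Γ := hv ▸ Γ.mul_mem (Γ.mul_mem hβ hu) (Γ.inv_mem hβ)
  have hβx1 : π (β x1) = cd (b * b * A) (a * B) := by
    rw [lin β hβx0 hβe' hAB]; congr 1 <;> ring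
  obtain ⟨q, hq⟩ : ∃ q : ℤ, q = -(B * A' * (a * a)) := ⟨_, rfl⟩
  have hvx0 : π (v x0) = π x0 * π (β x1) ^ q := by
    have h1 : π x0 = π ((β x0) ^ (a * a)) := by
      rw [map_zpow, hβx0, cd_zpow, cd_x0]
      refine cd_congr ?_ ?_ <;> push_cast
      · linear_combination -((a : ZMod p) * b + 1) * hab'
      · ring
    have h2 : π (v (β x0)) = cd (b * b * (1 - B)) (a * -(B * B * A')) := by
      rw [hv, MulAut.mul_apply, MulAut.mul_apply, MulAut.inv_apply_self, lin β hβx0 hβe' hux0]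
      congr 1 <;> ring
    rw [hπc v h1, map_zpow, map_zpow, h2, cd_zpow, hβx1, cd_zpow, cd_x0, cd_mul, hq]
    refine cd_congr ?_ ?_
    · push_cast
      rw [hA']
      field_simp
      linear_combination ((a : ZMod p) * b + 1) * hab'
    · push_cast; ring
  have hvx1 : π (v (β x1)) = π (β x1) := by
    rw [hv, MulAut.mul_apply, MulAut.mul_apply, MulAut.inv_apply_self]
    exact hπc β (QuotientGroup.eq.2 hux).symm
  have hvn : ∀ n : ℕ, π ((v ^ n) x0) = π x0 * π (β x1) ^ (q * n) ∧ π ((v ^ n) (β x1)) = π (β x1) := by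
    intro n
    induction n with
    | zero => simp
    | succ n ih =>
      rw [pow_succ', MulAut.mul_apply, MulAut.mul_apply]
      refine ⟨?_, by rw [hπc v ih.2, hvx1]⟩
      rw [hπc v (y' := x0 * (β x1) ^ (q * n)) (by rw [map_mul π, map_zpow π]; exact ih.1), map_mul, map_zpow,
        map_mul, map_zpow, hvx0, hvx1, mul_assoc, ← zpow_add]
      congr 2; push_cast; ring
  obtain ⟨n, hn⟩ : ∃ n : ℕ, (n : ZMod p) = -(((B : ZMod p) * ((a : ZMod p) * a) * ((a : ZMod p) - b * b)))⁻¹ :=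
    ⟨_, ZMod.natCast_zmod_val _⟩
  obtain ⟨t, ht⟩ : ∃ t : ℤ, (t : ZMod p) = (1 + (q : ZMod p) * n * (b * b * A)) * (A : ZMod p)⁻¹ :=
    ⟨((1 + (q : ZMod p) * n * (b * b * A)) * (A : ZMod p)⁻¹).val, by push_cast; rw [ZMod.natCast_zmod_val]⟩
  have hy0t : π ((v ^ n) x0) = π x1 ^ t := by
    rw [(hvn n).1, hβx1, cd_zpow, cd_x0, cd_mul, hAB, cd_zpow]
    refine cd_congr ?_ ?_
    · push_cast
      rw [ht]
      field_simp
    · push_cast
      rw [ht, hq]
      push_cast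
      rw [hA', hn]
      rcases eq_or_ne (B : ZMod p) 0 with hB | hB
      · rw [hB]; ring
      have hne' : (a : ZMod p) - b * b ≠ 0 := fun e0 => hne (by linear_combination -e0)
      field_simp
      linear_combination (B : ZMod p) * mul_inv_cancel₀ hne'
  refine ⟨v ^ n * β * (v ^ n)⁻¹, Γ.mul_mem (Γ.mul_mem (Γ.pow_mem hvΓ n) hβ) (Γ.inv_mem (Γ.pow_mem hvΓ n)),
    ?_, ?_, ?_⟩
  · refine QuotientGroup.eq.1 ?_
    show π (x1 ^ (b * b)) = π _
    have ht0 : (t : ZMod p) ≠ 0 := fun e0 => hx0E (h.center_le (by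
      have h1 : (v ^ n) x0 ∈ center G := (QuotientGroup.eq_one_iff _).1 (show π ((v ^ n) x0) = 1 by
        rw [hy0t, hcg x1 (s := 0) (by simpa using e0), zpow_zero])
      have h2 := characteristic_iff_map_le.1 (inferInstance : (center G).Characteristic) (v ^ n)⁻¹ ⟨_, h1, rfl⟩
      rwa [MulEquiv.coe_toMonoidHom, MulAut.inv_apply_self] at h2))
    obtain ⟨t', ht'⟩ : ∃ t' : ℤ, (t' : ZMod p) = (t : ZMod p)⁻¹ :=
      ⟨((t : ZMod p)⁻¹).val, by push_cast; rw [ZMod.natCast_zmod_val]⟩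
    have e1 : π x1 = π (((v ^ n) x0) ^ t') := by
      rw [map_zpow, hy0t, ← zpow_mul, hcg x1 (r := t * t') (s := 1) (by
        push_cast; rw [ht', mul_inv_cancel₀ ht0]), zpow_one]
    have hz : π ((v ^ n) (β x0)) = π ((v ^ n) x0) ^ (b * b) := by
      rw [hπc (v ^ n) (y' := x0 ^ (b * b)) (by rw [hβx0, map_zpow π, cd_x0, cd_zpow]; congr 1 <;> ring),
        map_zpow, map_zpow]
    rw [hπc _ e1, map_zpow, map_zpow, map_zpow, MulAut.mul_apply, MulAut.mul_apply, MulAut.inv_apply_self,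
      hz, e1, map_zpow π, ← zpow_mul, ← zpow_mul, mul_comm]
  · have h1 := comm_fix (h.sec_w Γ) (Γ.pow_mem hvΓ n) hβ (β ⁅x, e⁆) (h.w_apply β (mem_zpowers _))
    rw [mem_bot, inv_mul_eq_one] at h1
    rw [← hβw]
    conv_rhs => rw [h1]
    simp [commutatorElement_def, MulAut.mul_apply]
  · have h1 := comm_fix (h.sec_center Γ) (Γ.pow_mem hvΓ n) hβ f h.f_center
    have h2 : (v ^ n * β * (v ^ n)⁻¹) f = ⁅v ^ n, β⁆ f := by
      simp [commutatorElement_def, MulAut.mul_apply, (MulEquiv.symm_apply_eq β).2 hβf.symm]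
    rw [h2]
    exact h1

end CfsgLib.Fusion.RankThree
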