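import Cfsg.Agent.Lib.Fusion.System.RankThree.Torus
import Cfsg.Agent.Lib.PGroup.NormalRankFour

/-!
# A normal subgroup with an embedded automizer in sectional rank three

If the image of `G` in the automizer of a centric radical normal subgroup `E` is a Sylow subgroup
with an embedded configuration on the Frattini quotient, then `E` has index `p` in `G`.
-/

set_option autoImplicit false
set_option linter.style.haveILetI false
set_option linter.unusedSectionVars false

open Subgroup
open scoped commutatorElement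

namespace CfsgLib.Fusion.RankThree

open CfsgLib.MaxClassEss (frAct frAct_eq_one_iff isPGroup_of_frAct)
open CfsgLib.Fusion.Transvection (dlt dlt_eq_one apply_eq dlt_mul)

universe u

variable {G : Type u} [Group G] [Finite G] {p : ℕ} [Fact p.Prime] {E : Subgroup G} [E.Normal]

/-- The index of `E` is `p`. -/
theorem card_eq_of_embedded (hG : IsPGroup p G) (hr : Cfsg.SectionalPRankLE p 3 G)
    {X : Subgroup (MulAut E)} (hQX : (MulAut.conjNormal (H := E)).range ≤ X)
    (hcore : ∀ Y : Subgroup (MulAut E), Y ≤ X → (∀ α ∈ X, ∀ y ∈ Y, α * y * α⁻¹ ∈ Y) → IsPGroup p Y →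
      Y ≤ Cfsg.Inn E)
    (hcent : ∀ g : G, (∀ e ∈ E, g * e = e * g) → g ∈ E)
    {M : Subgroup (MulAut (E ⧸ frattini E))}
    (hM : CubeAutomizer.Embedded p (X.map frAct) ((MulAut.conjNormal (H := E)).range.map frAct) M) :
    Nat.card G = p * Nat.card E := by
  have hp := (Fact.out : p.Prime)
  have hE : IsPGroup p E := hG.to_subgroup E
  letI := frCommGroup hE
  haveI : Finite (MulAut E) := Finite.of_injective (fun a : MulAut E => (a : E → E)) DFunLike.coe_injective
  haveI : Finite (MulAut (E ⧸ frattini E)) :=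
    Finite.of_injective (fun a : MulAut (E ⧸ frattini E) => (a : E ⧸ frattini E → E ⧸ frattini E))
      DFunLike.coe_injective
  set π := QuotientGroup.mk' (frattini E) with hπ
  set f : G →* MulAut (E ⧸ frattini E) := (frAct (H := E)).comp (MulAut.conjNormal (H := E)) with hf
  have hfapp : ∀ (g : G) (r : E), f g (π r) = π (MulAut.conjNormal g r) := fun _ _ => rfl
  have hcard : Nat.card G = Nat.card f.range * Nat.card E := by
    have hker : f.ker = E := by
      refine le_antisymm (fun g hg => ?_) fun e he => frAct_eq_one_iff.2 fun a => ?_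
      · obtain ⟨c, hc⟩ := hcore (X ⊓ (frAct (H := E)).ker) inf_le_left (fun a ha y hy =>
          ⟨X.mul_mem (X.mul_mem ha hy.1) (X.inv_mem ha), show frAct (a * y * a⁻¹) = 1 by
            rw [map_mul, map_mul, show frAct y = 1 from hy.2, mul_one, map_inv, mul_inv_cancel]⟩)
          (isPGroup_of_frAct hE _ fun σ hσ => hσ.2) ⟨hQX ⟨g, rfl⟩, hg⟩
        have h2 : (c : G)⁻¹ * g ∈ E := hcent _ fun e he => by
          have h3 := congrArg Subtype.val (DFunLike.congr_fun hc ⟨e, he⟩)
          rw [MulAut.conj_apply, MulAut.conjNormal_apply, Subgroup.coe_mul, Subgroup.coe_mul,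
            Subgroup.coe_inv] at h3
          calc (c : G)⁻¹ * g * e = (c : G)⁻¹ * (g * e * g⁻¹) * g := by group
            _ = (c : G)⁻¹ * ((c : G) * e * (c : G)⁻¹) * g := by rw [h3]
            _ = e * ((c : G)⁻¹ * g) := by group
        simpa using mul_mem c.2 h2
      · rw [show MulAut.conjNormal (H := E) e = MulAut.conj (⟨e, he⟩ : E) from
          MulAut.conjNormal_val (h := ⟨e, he⟩), MulAut.conj_apply]
        exact CfsgLib.Coprime.commutator_le_frattini hE (commutator_mem_commutator (mem_top _) (mem_top a))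
    have h1 := Subgroup.card_mul_index f.ker
    rw [Subgroup.index_ker, hker] at h1
    rw [← h1, mul_comm]
  have hrange : f.range = (MulAut.conjNormal (H := E)).range.map frAct := MonoidHom.range_comp _ _
  rw [← hrange] at hM
  suffices hle : Nat.card f.range ≤ p by
    rw [hcard]
    congr 1
    refine le_antisymm hle ?_
    obtain ⟨j, hj⟩ := hM.isP.exists_card_eq
    rw [hj]
    exact Nat.le_self_pow (fun h => hM.ne (eq_bot_of_card_eq _ (by rw [hj, h, pow_zero]))) p
  -- the flag
  have hV3 : Nat.card (E ⧸ frattini E) ≤ p ^ 3 := by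
    let φ : E →* G ⧸ frn E := (QuotientGroup.mk' (frn E)).comp E.subtype
    have hk : φ.ker = frattini E := by
      ext x; simp [φ, MonoidHom.mem_ker, QuotientGroup.eq_one_iff, mem_frn]
    rw [← Nat.card_congr (QuotientGroup.quotientMulEquivOfEq hk).toEquiv,
      Nat.card_congr (QuotientGroup.quotientKerEquivRange φ).toEquiv]
    refine card_le_of_section hr (frn E) _ ?_ ?_
    · rintro _ ⟨a, rfl⟩ _ ⟨b, rfl⟩
      rw [← map_mul, ← map_mul]
      refine QuotientGroup.eq.2 ?_
      show (((a * b)⁻¹ * (b * a) : E) : G) ∈ frn E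
      refine mem_frn.2 ?_
      rw [show (a * b)⁻¹ * (b * a) = ⁅b⁻¹, a⁻¹⁆ by simp only [commutatorElement_def]; group]
      exact CfsgLib.Coprime.commutator_le_frattini hE (commutator_mem_commutator (mem_top _) (mem_top _))
    · rintro _ ⟨a, rfl⟩
      rw [← map_pow, show φ (a ^ p) = 1 from MonoidHom.mem_ker.1 (hk.ge (CfsgLib.Coprime.pow_mem_frattini hE a))]
  haveI hNn : (frn E).Normal := inferInstance
  set N0 := frn E with hN0
  set ρ := QuotientGroup.mk' N0 with hρ
  haveI : (E.map ρ).Normal := (inferInstance : E.Normal).map ρ (QuotientGroup.mk'_surjective _)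
  obtain ⟨n, hn⟩ := IsPGroup.iff_card.1 (hE.to_quotient (frattini E))
  have hn3 : n ≤ 3 := (Nat.pow_le_pow_iff_right hp.one_lt).1 (hn ▸ hV3)
  have hEc : Nat.card (E.map ρ) = p ^ n := by
    rw [← hn, ← Subgroup.relIndex_ker, QuotientGroup.ker_mk']
    show (N0.subgroupOf E).index = _
    rw [show N0.subgroupOf E = frattini E by ext r; rw [mem_subgroupOf]; exact mem_frn]
    rfl
  have hflag : ∀ k, k ≤ n → ∃ T : Subgroup G, T.Normal ∧ T ≤ E ∧ Nat.card T = p ^ k * Nat.card N0 ∧
      N0 ≤ T := fun k hk => by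
    obtain ⟨T, hTn, hTE, hTc⟩ := CfsgLib.PGroup.RankFour.exists_normal_card (hG.to_quotient N0)
      (A := E.map ρ) k (hEc ▸ Nat.pow_le_pow_right hp.pos hk)
    have hle : N0 ≤ T.comap ρ := fun x hx => mem_comap.2 (by
      rw [show ρ x = 1 from (QuotientGroup.eq_one_iff x).2 hx]; exact one_mem T)
    refine ⟨T.comap ρ, hTn.comap ρ, fun x hx => ?_, ?_, hle⟩
    · obtain ⟨y, hy, hyx⟩ := hTE hx
      have := mul_mem hy (frn_le E (QuotientGroup.eq.1 hyx))
      rwa [mul_inv_cancel_left] at this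
    · have hm : (T.comap ρ).map ρ = T := map_comap_eq_self_of_surjective (QuotientGroup.mk'_surjective _) T
      have e1 := Subgroup.relIndex_mul_relIndex ⊥ N0 (T.comap ρ) bot_le hle
      rw [relIndex_bot_left, relIndex_bot_left] at e1
      rw [← e1, mul_comm, ← hTc]
      congr 1
      conv_rhs => rw [← hm, ← Subgroup.relIndex_ker, QuotientGroup.ker_mk']
  have hdc : ∀ {T : Subgroup G} {k : ℕ}, T ≤ E → N0 ≤ T → Nat.card T = p ^ k * Nat.card N0 →
      Nat.card ((T.subgroupOf E).map π) = p ^ k := by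
    intro T k hTE hNT hc
    have e1 := Subgroup.relIndex_mul_relIndex ⊥ (frattini E) (T.subgroupOf E) bot_le
      (fun r hr => mem_subgroupOf.2 (hNT (mem_frn.2 hr)))
    rw [relIndex_bot_left, relIndex_bot_left, Nat.card_congr (subgroupOfEquivOfLe hTE).toEquiv, hc,
      show Nat.card N0 = Nat.card (frattini E) from card_map_of_injective E.subtype_injective,
      mul_comm (p ^ k)] at e1
    rw [← Subgroup.relIndex_ker, QuotientGroup.ker_mk']
    exact Nat.eq_of_mul_eq_mul_left Nat.card_pos e1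
  have hstep : ∀ {U V : Subgroup G} {k : ℕ}, U.Normal → V.Normal → U ≤ V →
      Nat.card U = p ^ k * Nat.card N0 → Nat.card V = p ^ (k + 1) * Nat.card N0 →
      ∀ q ∈ f.range, ∀ v ∈ (V.subgroupOf E).map π, dlt q v ∈ (U.subgroupOf E).map π := by
    rintro U V k hUn hVn hUV hcU hcV _ ⟨g, rfl⟩ _ ⟨r, hr, rfl⟩
    have hrel : U.relIndex V = p := by
      have e := relIndex_mul_relIndex ⊥ U V bot_le hUV
      rw [relIndex_bot_left, relIndex_bot_left, hcV, pow_succ, mul_right_comm, ← hcU] at e
      exact Nat.eq_of_mul_eq_mul_left Nat.card_pos e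
    refine ⟨r⁻¹ * MulAut.conjNormal g r, ?_, ?_⟩
    · show ((r⁻¹ * MulAut.conjNormal g r : E) : G) ∈ U
      rw [Subgroup.coe_mul, Subgroup.coe_inv, MulAut.conjNormal_apply]
      exact CfsgLib.PGroup.RankFour.central_step hG hUV hrel g hr
    · show π (r⁻¹ * MulAut.conjNormal g r) = (π r)⁻¹ * f g (π r)
      rw [map_mul, map_inv, hfapp]
  have hfull : ∀ {T : Subgroup G}, T ≤ E → N0 ≤ T → Nat.card T = p ^ n * Nat.card N0 →
      ∀ v, v ∈ (T.subgroupOf E).map π := fun {T} hTE hNT hc v =>
    (eq_of_le_of_card_ge le_top (by rw [card_top, hdc hTE hNT hc, hn]) :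
      (T.subgroupOf E).map π = ⊤).ge (mem_top v)
  have hN0c : Nat.card N0 = p ^ 0 * Nat.card N0 := by rw [pow_zero, one_mul]
  have h0 : ∀ {v}, v ∈ (N0.subgroupOf E).map π → v = 1 := by
    rintro _ ⟨r, hr, rfl⟩
    exact (QuotientGroup.eq_one_iff r).2 (mem_frn.1 hr)
  have hbot : ∀ q ∈ f.range, (∀ v, dlt q v = 1) → q = 1 := fun q _ hq =>
    MulEquiv.ext fun v => dlt_eq_one.1 (hq v)
  obtain hn0 | hn1 | hn2 | hn3' : n = 0 ∨ n = 1 ∨ n = 2 ∨ n = 3 := by omega
  · exfalso
    refine hM.ne ((eq_bot_iff_forall _).2 fun q hq => hbot q hq fun v => ?_)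
    have h1 := hfull (frn_le E) le_rfl (hn0 ▸ hN0c) v
    rw [h0 h1, map_one]
  · obtain ⟨T, hTn, hTE, hTc, hNT⟩ := hflag 1 hn1.ge
    exfalso
    refine hM.ne ((eq_bot_iff_forall _).2 fun q hq => hbot q hq fun v => h0 ?_)
    exact hstep hNn hTn hNT hN0c hTc q hq v (hfull hTE hNT (hn1 ▸ hTc) v)
  · obtain ⟨T₁, hT₁n, hT₁E, hT₁c, hNT₁⟩ := hflag 1 (by omega)
    obtain ⟨T₂, hT₂n, hT₂E, hT₂c, hNT₂⟩ := hflag 2 (by omega)
    set l := (T₁.subgroupOf E).map π with hl
    haveI : T₁.Normal := hT₁n
    have hfix : ∀ q ∈ f.range, ∀ v ∈ l, q v = v := fun q hq v hv =>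
      dlt_eq_one.1 (h0 (hstep hNn hT₁n hNT₁ hN0c hT₁c q hq v hv))
    -- a basis element outside the line
    obtain ⟨y, hy⟩ : ∃ y, y ∉ l := by
      by_contra hall
      push Not at hall
      have := hdc hT₁E hNT₁ hT₁c
      rw [← hl, show l = ⊤ from eq_top_iff.2 fun v _ => hall v, card_top, hn, hn2] at this
      exact absurd ((Nat.pow_right_injective hp.two_le) this) (by norm_num)
    have htop : l ⊔ zpowers y = ⊤ := by
      refine eq_of_le_of_card_ge le_top ?_
      rw [card_top, hn, hn2, pow_two]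
      refine le_trans (le_of_eq ?_) (CfsgLib.MaxClassCube.mul_card_le (hE.to_quotient _)
        (lt_of_le_of_ne le_sup_left fun e' => hy (e'.ge (mem_sup_right (mem_zpowers y)))))
      rw [hdc hT₁E hNT₁ hT₁c, pow_one]
    have hline : ∀ q ∈ f.range, dlt q y ∈ l := fun q hq => by
      refine hstep (U := T₁) (V := T₁ ⊔ T₂) (k := 1) hT₁n inferInstance le_sup_left hT₁c ?_ q hq y ?_
      · have hEc' : Nat.card E = p ^ 2 * Nat.card N0 := by
          rw [card_eq_card_quotient_mul_card_subgroup (frattini E), hn, hn2,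
            show Nat.card N0 = Nat.card (frattini E) from card_map_of_injective E.subtype_injective]
        refine le_antisymm ?_ (hT₂c ▸ Subgroup.card_le_of_le le_sup_right)
        rw [← hEc']
        exact Subgroup.card_le_of_le (sup_le hT₁E hT₂E)
      · exact map_mono (fun r hr => mem_subgroupOf.2 (mem_sup_right (mem_subgroupOf.1 hr))) (hfull hT₂E hNT₂ (hn2 ▸ hT₂c) y)
    let ψ : f.range → l := fun q => ⟨dlt (q : MulAut _) y, hline q q.2⟩
    have hψ : Function.Injective ψ := fun a b hab => by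
      refine Subtype.ext (MulEquiv.ext fun v => ?_)
      have hy' : (a : MulAut _) y = (b : MulAut _) y := by
        rw [apply_eq (a : MulAut _) y, apply_eq (b : MulAut _) y]
        exact congrArg (fun z : l => y * (z : E ⧸ frattini E)) hab
      obtain ⟨u, hu, w, hw, rfl⟩ := mem_sup.1 (htop.ge (mem_top v))
      obtain ⟨i, rfl⟩ := mem_zpowers_iff.1 hw
      rw [map_mul, map_mul, map_zpow, map_zpow, hy', hfix a a.2 u hu, hfix b b.2 u hu]
    refine (Nat.card_le_card_of_injective ψ hψ).trans_eq ?_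
    rw [hdc hT₁E hNT₁ hT₁c, pow_one]
  · obtain ⟨T₂, hT₂n, hT₂E, hT₂c, hNT₂⟩ := hflag 2 (by omega)
    obtain ⟨T₃, hT₃n, hT₃E, hT₃c, hNT₃⟩ := hflag 3 (by omega)
    -- a line inside the plane
    haveI : T₂.Normal := hT₂n
    haveI : (T₂.map ρ).Normal := hT₂n.map ρ (QuotientGroup.mk'_surjective _)
    obtain ⟨L, hLn, hLle, hLc⟩ := CfsgLib.PGroup.RankFour.exists_normal_card (hG.to_quotient N0)
      (A := T₂.map ρ) 1 (by
        rw [← Subgroup.relIndex_ker, QuotientGroup.ker_mk']
        have e1 := Subgroup.relIndex_mul_relIndex ⊥ N0 T₂ bot_le hNT₂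
        rw [relIndex_bot_left, relIndex_bot_left, hT₂c, mul_comm (p ^ 2)] at e1
        rw [Nat.eq_of_mul_eq_mul_left Nat.card_pos e1]
        exact Nat.pow_le_pow_right hp.pos (by norm_num))
    have hNL : N0 ≤ L.comap ρ := fun x hx => mem_comap.2 (by
      rw [show ρ x = 1 from (QuotientGroup.eq_one_iff x).2 hx]; exact one_mem L)
    have hL2 : L.comap ρ ≤ T₂ := fun x hx => by
      obtain ⟨u, hu, hux⟩ := hLle hx
      have := mul_mem hu (hNT₂ (QuotientGroup.eq.1 hux))
      rwa [mul_inv_cancel_left] at this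
    have hLcard : Nat.card (L.comap ρ : Subgroup G) = p ^ 1 * Nat.card N0 := by
      have e1 := Subgroup.relIndex_mul_relIndex ⊥ N0 (L.comap ρ) bot_le hNL
      rw [relIndex_bot_left, relIndex_bot_left] at e1
      rw [← e1, mul_comm, ← hLc]
      congr 1
      conv_rhs => rw [← map_comap_eq_self_of_surjective (QuotientGroup.mk'_surjective N0) L,
        ← Subgroup.relIndex_ker, QuotientGroup.ker_mk']
    haveI : (L.comap ρ).Normal := hLn.comap ρ
    set T₃' := T₂ ⊔ T₃
    have hT₃'c : Nat.card T₃' = p ^ 3 * Nat.card N0 := by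
      refine le_antisymm ?_ (hT₃c ▸ Subgroup.card_le_of_le le_sup_right)
      refine (Subgroup.card_le_of_le (sup_le hT₂E hT₃E : T₃' ≤ E)).trans ?_
      rw [card_eq_card_quotient_mul_card_subgroup (frattini E), hn, hn3',
        show Nat.card N0 = Nat.card (frattini E) from card_map_of_injective E.subtype_injective]
    refine CubeAutomizer.card_le hM (hn.trans (by rw [hn3'])) (l := ((L.comap ρ).subgroupOf E).map π)
      (H := (T₂.subgroupOf E).map π) (map_mono fun r hr => hL2 hr) ?_ (hdc hT₂E hNT₂ hT₂c) ?_ ?_ ?_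
    · rw [hdc (hL2.trans hT₂E) hNL hLcard, pow_one]
    · exact fun q hq v hv => h0 (hstep hNn inferInstance hNL hN0c hLcard q hq v hv)
    · exact hstep inferInstance hT₂n hL2 hLcard hT₂c
    · exact fun q hq v => hstep hT₂n inferInstance le_sup_left hT₂c hT₃'c q hq v
        (map_mono (fun r hr => mem_subgroupOf.2 (mem_sup_right (mem_subgroupOf.1 hr))) (hfull hT₃E hNT₃ (hn3' ▸ hT₃c) v))

end CfsgLib.Fusion.RankThree
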