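import Cfsg.Agent.Lib.Fusion.System.RankThree.Transvection
import Cfsg.Agent.Lib.Fusion.System.LineTorus

/-!
# A single Jordan block on the Frattini quotient

If no element outside `E` is a transvection on the Frattini quotient of `E`, the series of
commutators with `G` has three steps of order `p`.
-/

set_option autoImplicit false
set_option linter.style.haveILetI false
set_option linter.unusedSectionVars false

open Subgroup
open scoped commutatorElement

namespace CfsgLib.Fusion.RankThree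

open CfsgLib.MaxClassEss (frAct frAct_eq_one_iff isPGroup_of_frAct)
open CfsgLib.Fusion.Transvection (dlt stab mem_stab)

universe u

variable {G : Type u} [Group G] [Finite G] {p : ℕ} [Fact p.Prime]

/-- A subgroup of index `p` in `B` and one element outside it generate `B`. -/
theorem exists_zpow_inv_mul_mem (hG : IsPGroup p G) {A B : Subgroup G} [A.Normal] (hAB : A ≤ B)
    (hc : Nat.card B = p * Nat.card A) {b : G} (hb : b ∈ B) (hbA : b ∉ A) {y : G} (hy : y ∈ B) :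
    ∃ k : ℤ, (b ^ k)⁻¹ * y ∈ A := by
  have heq : zpowers b ⊔ A = B := eq_of_le_of_card_ge (sup_le (zpowers_le.2 hb) hAB) (by
    rw [hc]
    exact CfsgLib.MaxClassCube.mul_card_le hG (lt_of_le_of_ne le_sup_right fun e' =>
      hbA (e'.ge (mem_sup_left (mem_zpowers b)))))
  obtain ⟨u, hu, z, hz, rfl⟩ := mem_sup_of_normal_right.1 (heq.ge hy)
  obtain ⟨k, rfl⟩ := mem_zpowers_iff.1 hu
  exact ⟨k, by rwa [inv_mul_cancel_left]⟩

/-- `L` is invariant under `X`. -/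
def InvE {E : Subgroup G} (X : Subgroup (MulAut E)) (L : Subgroup G) : Prop :=
  ∀ α ∈ X, ∀ r : E, (r : G) ∈ L → (α r : G) ∈ L

/-- The data of a Jordan block. -/
structure JData (p : ℕ) (E : Subgroup G) (x e : G) (H W : Subgroup G) : Prop where
  xmem : x ∉ E
  emem : e ∈ E
  Hn : H.Normal
  Wn : W.Normal
  nW : frn E ≤ W
  WH : W ≤ H
  HE : H ≤ E
  eH : e ∉ H
  w1 : ⁅x, e⁆ ∈ H
  w1W : ⁅x, e⁆ ∉ W
  w2 : ⁅x, ⁅x, e⁆⁆ ∈ W
  w2N : ⁅x, ⁅x, e⁆⁆ ∉ frn E
  cE : Nat.card E = p * Nat.card H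
  cH : Nat.card H = p * Nat.card W
  cW : Nat.card W = p * Nat.card (frn E)
  commE : ∀ r ∈ E, ∀ g, ⁅r, g⁆ ∈ H
  commH : ∀ r ∈ H, ∀ g, ⁅r, g⁆ ∈ W
  commW : ∀ r ∈ W, ∀ g, ⁅r, g⁆ ∈ frn E
  geH : H ≤ frn E ⊔ ⁅E, (⊤ : Subgroup G)⁆
  geW : W ≤ frn E ⊔ ⁅H, (⊤ : Subgroup G)⁆

variable {E : Subgroup G} [E.Normal] {X : Subgroup (MulAut E)} {Γ : Subgroup (MulAut G)}
  (h : Top p E X Γ)
include h

theorem Top.exists_jdata {x : G} (hx : x ∉ E) (hnt : ¬ ∀ e ∈ E, ⁅x, ⁅x, e⁆⁆ ∈ frn E) :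
    ∃ e H W, JData p E x e H W ∧ Nat.card E = p ^ 3 * Nat.card (frn E) := by
  push Not at hnt
  obtain ⟨e, he, he2⟩ := hnt
  have hG := h.pgroup
  set N := frn E with hN
  set H := N ⊔ ⁅E, (⊤ : Subgroup G)⁆ with hH
  set W := N ⊔ ⁅H, (⊤ : Subgroup G)⁆ with hW
  set N3 := N ⊔ ⁅W, (⊤ : Subgroup G)⁆ with hN3
  have hHE : H ≤ E := sup_le (frn_le E) (commutator_le_left E ⊤)
  have hWH : W ≤ H := sup_le le_sup_left (commutator_le_left H ⊤)
  have hN3W : N3 ≤ W := sup_le le_sup_left (commutator_le_left W ⊤)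
  have hcomm : ∀ {A : Subgroup G} {a : G}, a ∈ A → ∀ g, ⁅g, a⁆ ∈ N ⊔ ⁅A, (⊤ : Subgroup G)⁆ :=
    fun {A a} ha g => by
      rw [← commutatorElement_inv]
      exact inv_mem (mem_sup_right (commutator_mem_commutator ha (mem_top g)))
  have hw1 : ⁅x, e⁆ ∈ H := hcomm he x
  have hw2 : ⁅x, ⁅x, e⁆⁆ ∈ W := hcomm hw1 x
  have hHne : H ≠ E := fun e' =>
    he2 (by
      have := le_of_le_sup_commutator hG (e'.ge : E ≤ H)
      exact this (commutatorElement_def x ⁅x, e⁆ ▸ mul_mem ((inferInstance : E.Normal).conj_mem _ (hHE hw1) x)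
        (inv_mem (hHE hw1))))
  have hWne : W ≠ H := fun e' => by
    have h1 := le_of_le_sup_commutator hG (e'.ge : H ≤ W)
    exact he2 (h1 (hWH hw2))
  have hN3ne : N3 ≠ W := fun e' => by
    have h1 := le_of_le_sup_commutator hG (e'.ge : W ≤ N3)
    exact he2 (h1 hw2)
  have m1 := CfsgLib.MaxClassCube.mul_card_le hG (lt_of_le_of_ne hHE hHne)
  have m2 := CfsgLib.MaxClassCube.mul_card_le hG (lt_of_le_of_ne hWH hWne)
  have m3 := CfsgLib.MaxClassCube.mul_card_le hG (lt_of_le_of_ne hN3W hN3ne)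
  have m4 := h.card_frn_le
  rw [← hN] at m4
  have hp := (Fact.out : p.Prime)
  have hN3eq : N3 = N := by
    by_contra hne
    have m5 := CfsgLib.MaxClassCube.mul_card_le hG (lt_of_le_of_ne (le_sup_left : N ≤ N3) (Ne.symm hne))
    have : p ^ 4 * Nat.card N ≤ p ^ 3 * Nat.card N := calc
      p ^ 4 * Nat.card N = p * (p * (p * (p * Nat.card N))) := by ring
      _ ≤ p * (p * (p * Nat.card N3)) := by gcongr
      _ ≤ p * (p * Nat.card W) := by gcongr
      _ ≤ p * Nat.card H := by gcongr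
      _ ≤ Nat.card E := m1
      _ ≤ _ := m4
    exact absurd ((Nat.pow_le_pow_iff_right hp.one_lt).1 (Nat.le_of_mul_le_mul_right this Nat.card_pos))
      (by norm_num)
  rw [hN3eq] at m3
  have e1 : Nat.card E = p ^ 3 * Nat.card N := le_antisymm m4 (calc
    p ^ 3 * Nat.card N = p * (p * (p * Nat.card N)) := by ring
    _ ≤ p * (p * Nat.card W) := by gcongr
    _ ≤ p * Nat.card H := by gcongr
    _ ≤ _ := m1)
  have e2 : Nat.card W = p * Nat.card N := by
    refine le_antisymm (Nat.le_of_mul_le_mul_left (?_ : p * p * _ ≤ p * p * _) (Nat.mul_pos hp.pos hp.pos)) m3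
    calc p * p * Nat.card W = p * (p * Nat.card W) := mul_assoc _ _ _
      _ ≤ p * Nat.card H := Nat.mul_le_mul_left p m2
      _ ≤ Nat.card E := m1
      _ = _ := by rw [e1]; ring
  have e3 : Nat.card H = p * Nat.card W := by
    refine le_antisymm (Nat.le_of_mul_le_mul_left (?_ : p * _ ≤ p * _) hp.pos) m2
    refine m1.trans (le_of_eq ?_)
    rw [e1, e2]; ring
  refine ⟨e, H, W, ⟨hx, he, inferInstance, inferInstance, le_sup_left, hWH, hHE, fun heH => ?_, hw1,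
    fun hw => he2 ?_, hw2, he2, ?_, e3, e2, fun r hr g => mem_sup_right (commutator_mem_commutator hr (mem_top g)),
    fun r hr g => mem_sup_right (commutator_mem_commutator hr (mem_top g)), fun r hr g => ?_, le_rfl, le_rfl⟩, e1⟩
  · exact he2 (hN3eq.le (hcomm (hcomm heH x : ⁅x, e⁆ ∈ W) x))
  · exact hN3eq.le (hcomm hw x)
  · rw [e1, e3, e2]; ring
  · exact hN3eq.le (mem_sup_right (commutator_mem_commutator hr (mem_top g)))

/-- An automorphism in `X` stabilizing a series through the Frattini subgroup is trivial modulo it. -/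
theorem Top.stab_trivial {A B : Subgroup E} (hAB : A ≤ B)
    (iA : ∀ α ∈ X, ∀ r ∈ A, α r ∈ A) (iB : ∀ α ∈ X, ∀ r ∈ B, α r ∈ B) {α : MulAut E} (hα : α ∈ X)
    (h1 : ∀ r, r⁻¹ * α r ∈ B) (h2 : ∀ r ∈ B, r⁻¹ * α r ∈ A) (h3 : ∀ r ∈ A, r⁻¹ * α r ∈ frattini E) :
    frAct α = 1 := by
  letI := frCommGroup h.isPE
  haveI : Finite (MulAut E) := Finite.of_injective (fun a : MulAut E => (a : E → E)) DFunLike.coe_injective
  set π := QuotientGroup.mk' (frattini E) with hπ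
  have hd : ∀ (a : MulAut E) (r : E), dlt (frAct a) (π r) = π (r⁻¹ * a r) := fun a r => by
    show (π r)⁻¹ * π (a r) = _
    rw [map_mul, map_inv]
  set S := stab (A.map π) (B.map π) (map_mono hAB) with hS
  have hmemS : ∀ {a : MulAut E}, (∀ r, r⁻¹ * a r ∈ B) → (∀ r ∈ B, r⁻¹ * a r ∈ A) →
      (∀ r ∈ A, r⁻¹ * a r ∈ frattini E) → frAct a ∈ S := by
    intro a a1 a2 a3
    refine mem_stab.2 ⟨?_, ?_, ?_⟩
    · rintro _ ⟨r, hr, rfl⟩
      rw [hd]
      exact (QuotientGroup.eq_one_iff _).2 (a3 r hr)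
    · rintro _ ⟨r, hr, rfl⟩
      rw [hd]
      exact mem_map_of_mem π (a2 r hr)
    · intro r
      obtain ⟨r, rfl⟩ := QuotientGroup.mk'_surjective _ r
      rw [hd]
      exact mem_map_of_mem π (a1 r)
  set Y := X ⊓ S.comap frAct with hY
  have hYp : IsPGroup p Y := by
    refine IsPGroup.to_le ?_ (inf_le_right : Y ≤ S.comap frAct)
    exact IsPGroup.comap_of_ker_isPGroup (Transvection.isPGroup_stab (h.isPE.to_quotient _) _ _ _) _
      (isPGroup_of_frAct h.isPE _ fun σ hσ => hσ)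
  have hYn : ∀ a ∈ X, ∀ y ∈ Y, a * y * a⁻¹ ∈ Y := by
    intro a ha y hy
    refine ⟨X.mul_mem (X.mul_mem ha hy.1) (X.inv_mem ha), ?_⟩
    have hy2 : frAct y ∈ S := hy.2
    rw [hS, mem_stab] at hy2
    obtain ⟨y1, y2, y3⟩ := hy2
    show frAct (a * y * a⁻¹) ∈ S
    have hinvπ : ∀ {C : Subgroup E}, (∀ α ∈ X, ∀ r ∈ C, α r ∈ C) → ∀ {b : MulAut E}, b ∈ X →
        ∀ m ∈ C.map π, frAct b m ∈ C.map π := by
      rintro C hC b hb _ ⟨r, hr, rfl⟩
      exact ⟨b r, hC b hb r hr, rfl⟩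
    rw [map_mul, map_mul, map_inv, hS, mem_stab]
    refine ⟨fun m hm => ?_, fun m hm => ?_, fun m => ?_⟩ <;> rw [Transvection.dlt_conj, ← map_inv]
    · rw [y1 _ (hinvπ iA (X.inv_mem ha) m hm), map_one]
    · exact hinvπ iA ha _ (y2 _ (hinvπ iB (X.inv_mem ha) m hm))
    · exact hinvπ iB ha _ (y3 _)
  exact h.frAct_inn (h.core Y inf_le_left hYn hYp ⟨hα, hmemS h1 h2 h3⟩)

end CfsgLib.Fusion.RankThree
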