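import Cfsg.Agent.Lib.Fusion.System.RankThree.JIrreducible
import Cfsg.Agent.Lib.Fusion.ZJElementary

/-!
# A Jordan block makes `E` powerful

The Frattini subgroup of `E` consists of `p`-th powers modulo its own Frattini subgroup, and the
`p`-th power map is trivial or injective there.
-/

set_option autoImplicit false
set_option linter.style.haveILetI false
set_option linter.unusedSectionVars false

open Subgroup
open scoped commutatorElement

namespace CfsgLib.Fusion.RankThree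

universe u

variable {G : Type u} [Group G] [Finite G] {p : ℕ} [Fact p.Prime]

theorem comm_mem_frn (hG : IsPGroup p G) {A : Subgroup G} {a b : G} (ha : a ∈ A) (hb : b ∈ A) :
    ⁅a, b⁆ ∈ frn A :=
  ⟨⁅(⟨a, ha⟩ : A), ⟨b, hb⟩⁆, CfsgLib.Coprime.commutator_le_frattini (hG.to_subgroup A)
    (commutator_mem_commutator (mem_top _) (mem_top _)), rfl⟩

theorem pow_mem_frn (hG : IsPGroup p G) {A : Subgroup G} {a : G} (ha : a ∈ A) : a ^ p ∈ frn A :=
  ⟨(⟨a, ha⟩ : A) ^ p, CfsgLib.Coprime.pow_mem_frattini (hG.to_subgroup A) _, rfl⟩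

theorem frn_le_of {A B : Subgroup G} (hp : ∀ a ∈ A, a ^ p ∈ B) (hc : ∀ a ∈ A, ∀ b ∈ A, ⁅a, b⁆ ∈ B) :
    frn A ≤ B := by
  rintro _ ⟨r, hr, rfl⟩
  have h : frattini A ≤ B.subgroupOf A := by
    refine CfsgLib.FrattiniLe.frattini_le_of_pow_of_commutator (p := p) (fun a => hp a a.2) ?_
    rw [commutator_def, commutator_le]
    intro a _ b _
    show ((⁅a, b⁆ : A) : G) ∈ B
    rw [← Subgroup.coe_subtype, map_commutatorElement]
    exact hc _ a.2 _ b.2
  exact h hr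

theorem frn_mono (hG : IsPGroup p G) {A B : Subgroup G} (hAB : A ≤ B) : frn A ≤ frn B :=
  frn_le_of (fun _ ha => pow_mem_frn hG (hAB ha)) fun _ ha _ hb => comm_mem_frn hG (hAB ha) (hAB hb)

theorem apply_mem_frn (hG : IsPGroup p G) {A : Subgroup G} (γ : MulAut G) (hA : ∀ a ∈ A, γ a ∈ A) {a : G}
    (ha : a ∈ frn A) : γ a ∈ frn A := by
  have h : frn A ≤ (frn A).comap γ.toMonoidHom := frn_le_of (fun a ha => by
    show γ (a ^ p) ∈ frn A
    rw [map_pow]; exact pow_mem_frn hG (hA a ha)) fun a ha b hb => by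
    show γ ⁅a, b⁆ ∈ frn A
    rw [map_commutatorElement]; exact comm_mem_frn hG (hA a ha) (hA b hb)
  exact h ha

variable {E : Subgroup G} [E.Normal] {X : Subgroup (MulAut E)} {Γ : Subgroup (MulAut G)}
  {x e : G} {H W : Subgroup G}

/-- A subgroup invariant under one automorphism, from its generators. -/
theorem invE_of_le {L : Subgroup G} (hL : L ≤ E)
    (h : ∀ α ∈ X, L ≤ ((L.subgroupOf E).comap α.toMonoidHom).map E.subtype) : InvE X L := by
  intro α hα r hr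
  obtain ⟨s, hs, hsr⟩ := h α hα hr
  rw [← (Subtype.ext hsr : s = r)]
  exact hs

theorem Top.invE_frn (h : Top p E X Γ) : InvE X (frn E) := fun α _ r hr =>
  mem_frn.2 (CfsgLib.MaxClassEss.mem_frattini_iff_apply.2 (mem_frn.1 hr))

theorem Top.invE_frn_frn (h : Top p E X Γ) : InvE X (frn (frn E)) := by
  refine invE_of_le ((frn_le _).trans (frn_le E)) fun α hα => frn_le_of (p := p) (fun a ha => ?_) fun a ha b hb => ?_
  · have ha' : (α ⟨a, frn_le E ha⟩ : G) ∈ frn E := h.invE_frn α hα ⟨a, frn_le E ha⟩ ha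
    refine ⟨⟨a, frn_le E ha⟩ ^ p, ?_, rfl⟩
    show ((α (⟨a, frn_le E ha⟩ ^ p) : E) : G) ∈ frn (frn E)
    rw [map_pow, Subgroup.coe_pow]
    exact pow_mem_frn h.pgroup ha'
  · have ha' : (α ⟨a, frn_le E ha⟩ : G) ∈ frn E := h.invE_frn α hα ⟨a, frn_le E ha⟩ ha
    have hb' : (α ⟨b, frn_le E hb⟩ : G) ∈ frn E := h.invE_frn α hα ⟨b, frn_le E hb⟩ hb
    refine ⟨⁅(⟨a, frn_le E ha⟩ : E), ⟨b, frn_le E hb⟩⁆, ?_, map_commutatorElement E.subtype _ _⟩
    show E.subtype (α ⁅(⟨a, frn_le E ha⟩ : E), ⟨b, frn_le E hb⟩⁆) ∈ frn (frn E)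
    rw [map_commutatorElement, map_commutatorElement]
    exact comm_mem_frn h.pgroup ha' hb'

/-- The commutator with `x` as a homomorphism on `E`. -/
def JData.dltHom (h : Top p E X Γ) (hJ : JData p E x e H W) : E →* G ⧸ frn E :=
  MonoidHom.mk' (fun r => QuotientGroup.mk' (frn E) ⁅x, (r : G)⁆) fun a b => hJ.dlt_mul h a.2 b.2

/-- Elements of `E` fixed by `x` modulo the Frattini subgroup lie in `W`. -/
theorem JData.mem_W (h : Top p E X Γ) (hJ : JData p E x e H W) {r : G} (hr : r ∈ E)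
    (hx : ⁅x, r⁆ ∈ frn E) : r ∈ W := by
  haveI := hJ.Hn
  haveI := hJ.Wn
  have hflip : ∀ {A : Subgroup G} {a : G}, ⁅a, x⁆ ∈ A → ⁅x, a⁆ ∈ A := fun {A a} ha => by
    rw [← commutatorElement_inv]; exact inv_mem ha
  -- one step of the series
  have step : ∀ {U D : Subgroup G} {b : G}, D.Normal → D ≤ U → Nat.card U = p * Nat.card D → U ≤ E →
      ∀ (hb : b ∈ U) {C : Subgroup G}, C.Normal → frn E ≤ C → b ∉ D → ⁅x, b⁆ ∉ C →
      ⁅x, b⁆ ^ p ∈ C → (∀ y ∈ D, ⁅x, y⁆ ∈ C) → ∀ {r : G}, r ∈ U → ⁅x, r⁆ ∈ C → r ∈ D := by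
    intro U D b hDn hDU hc hUE hb C hCn hNC hbD hbC hbp hDC r hrU hrC
    obtain ⟨k, hk⟩ := exists_zpow_inv_mul_mem h.pgroup hDU hc hb hbD hrU
    have hk0 : (k : ZMod p) = 0 := by
      by_contra h0
      refine hbC (mem_of_zpow_mem hbp ?_ h0)
      have e1 : hJ.dltHom h ⟨r, hUE hrU⟩ = hJ.dltHom h ⟨b, hUE hb⟩ ^ k * hJ.dltHom h ⟨_, hUE (hDU hk)⟩ := by
        rw [← map_zpow, ← map_mul]
        congr 1
        exact Subtype.ext (by push_cast; group)
      change QuotientGroup.mk' (frn E) ⁅x, r⁆ =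
        QuotientGroup.mk' (frn E) ⁅x, b⁆ ^ k * QuotientGroup.mk' (frn E) ⁅x, (b ^ k)⁻¹ * r⁆ at e1
      rw [← map_zpow, ← map_mul] at e1
      have h2 := mul_mem hrC (hNC (QuotientGroup.eq.1 e1))
      rw [mul_inv_cancel_left] at h2
      have h3 := mul_mem h2 (inv_mem (hDC _ hk))
      rwa [mul_inv_cancel_right] at h3
    obtain ⟨m, rfl⟩ := (ZMod.intCast_zmod_eq_zero_iff_dvd _ _).1 hk0
    have hbpD : b ^ p ∈ D := by
      haveI := hDn
      have hidx : (D.subgroupOf U).index = p := by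
        have e1 := (D.subgroupOf U).card_mul_index
        rw [Nat.card_congr (subgroupOfEquivOfLe hDU).toEquiv, hc, mul_comm p] at e1
        exact Nat.eq_of_mul_eq_mul_left Nat.card_pos e1
      have h1 := Subgroup.pow_index_mem (D.subgroupOf U) (⟨b, hb⟩ : U)
      rwa [hidx] at h1
    rw [zpow_mul, zpow_natCast] at hk
    have := mul_mem (zpow_mem hbpD m) hk
    rwa [mul_inv_cancel_left] at this
  have hrH : r ∈ H := step hJ.Hn hJ.HE hJ.cE le_rfl hJ.emem hJ.Wn hJ.nW hJ.eH hJ.w1W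
    (hJ.nW (h.pow_frn (hJ.HE hJ.w1))) (fun y hy => hflip (hJ.commH y hy x)) hr (hJ.nW hx)
  exact step hJ.Wn hJ.WH hJ.cH hJ.HE hJ.w1 inferInstance le_rfl hJ.w1W hJ.w2N
    (h.pow_frn (hJ.HE (hJ.WH hJ.w2))) (fun y hy => hflip (hJ.commW y hy x)) hrH hx

end CfsgLib.Fusion.RankThree
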