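import Cfsg.Agent.Lib.Fusion.System.RankThree.JPowerful

/-!
# The powers of a powerful Jordan block subgroup

No invariant subgroup of the Frattini subgroup of `E` contains the `p`-th powers of `E` and the
Frattini subgroup of the Frattini subgroup, except the Frattini subgroup itself.
-/

set_option autoImplicit false
set_option linter.style.haveILetI false
set_option linter.unusedSectionVars false

open Subgroup
open scoped commutatorElement

namespace CfsgLib.Fusion.RankThree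

universe u

variable {G : Type u} [Group G] [Finite G] {p : ℕ} [Fact p.Prime]
  {E : Subgroup G} [E.Normal] {X : Subgroup (MulAut E)} {Γ : Subgroup (MulAut G)}
  {x e : G} {H W : Subgroup G}

/-- The subgroup generated by the `p`-th powers of `A`. -/
def epow (p : ℕ) (A : Subgroup G) : Subgroup G := closure (Set.range fun r : A => (r : G) ^ p)

theorem epow_le (A : Subgroup G) : epow p A ≤ A := (closure_le _).2 (by
  rintro _ ⟨r, rfl⟩; exact pow_mem r.2 p)

theorem pow_mem_epow {A : Subgroup G} {a : G} (ha : a ∈ A) : a ^ p ∈ epow p A :=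
  subset_closure ⟨⟨a, ha⟩, rfl⟩

theorem Top.invE_epow (h : Top p E X Γ) : InvE X (epow p E) := by
  refine invE_of_le (epow_le E) fun α _ => (closure_le _).2 ?_
  rintro _ ⟨r, rfl⟩
  refine ⟨r ^ p, ?_, Subgroup.coe_pow _ _ _⟩
  show ((α (r ^ p) : E) : G) ∈ epow p E
  rw [map_pow, Subgroup.coe_pow]
  exact pow_mem_epow (α r).2

/-- A quotient of `G` in which `E` has exponent `p` and central Frattini subgroup is trivial on it. -/
theorem JData.eq_of_central (h : Top p E X Γ) (hJ : JData p E x e H W) {R : Subgroup G} [R.Normal]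
    (hiR : InvE X R) (hRN : R ≤ frn E) (hN2 : frn (frn E) ≤ R) (hpow : ∀ r ∈ E, r ^ p ∈ R)
    (hcen : ∀ n ∈ frn E, ∀ r ∈ E, ⁅n, r⁆ ∈ R) : R = frn E := by
  have hp := (Fact.out : p.Prime)
  have hG := h.pgroup
  haveI := hJ.Hn
  haveI := hJ.Wn
  refine le_antisymm hRN (frn_le_of hpow ?_)
  obtain ⟨w1, hw1⟩ : ∃ w1, w1 = ⁅x, e⁆ := ⟨_, rfl⟩
  obtain ⟨w2, hw2⟩ : ∃ w2, w2 = ⁅x, w1⁆ := ⟨_, rfl⟩
  have hw1H : w1 ∈ H := hw1 ▸ hJ.w1
  have hw2W : w2 ∈ W := by rw [hw2, hw1]; exact hJ.w2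
  have hw1E : w1 ∈ E := hJ.HE hw1H
  have hw2E : w2 ∈ E := hJ.HE (hJ.WH hw2W)
  have hw1W : w1 ∉ W := hw1 ▸ hJ.w1W
  have hw2N : w2 ∉ frn E := by rw [hw2, hw1]; exact hJ.w2N
  obtain ⟨n, hnN, hn⟩ : ∃ n ∈ frn E, x * w2 * x⁻¹ = n * w2 :=
    ⟨⁅x, w2⁆, by rw [← commutatorElement_inv]; exact inv_mem (hJ.commW w2 hw2W x),
      by rw [commutatorElement_def, inv_mul_cancel_right]⟩
  have hT1 : x * e * x⁻¹ = w1 * e := by rw [hw1, commutatorElement_def, inv_mul_cancel_right]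
  have hT2 : x * w1 * x⁻¹ = w2 * w1 := by rw [hw2, commutatorElement_def, inv_mul_cancel_right]
  set σ := QuotientGroup.mk' R with hσ
  have hσ1 : ∀ {a : G}, a ∈ R → σ a = 1 := fun ha => (QuotientGroup.eq_one_iff _).2 ha
  have hcN : ∀ {n a : G}, n ∈ frn E → a ∈ E → Commute (σ n) (σ a) := fun hn ha => by
    rw [commute_iff_eq, ← commutatorElement_eq_one_iff_mul_comm, ← map_commutatorElement]
    exact hσ1 (hcen _ hn _ ha)
  have hcc : ∀ {a b c : G}, a ∈ E → b ∈ E → c ∈ E → Commute (σ ⁅a, b⁆) (σ c) :=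
    fun ha hb hc => hcN (h.comm_frn ha hb) hc
  have hmulL : ∀ {a b c : G}, a ∈ E → b ∈ E → c ∈ E → σ ⁅a * b, c⁆ = σ ⁅a, c⁆ * σ ⁅b, c⁆ := by
    intro a b c ha hb hc
    rw [show ⁅a * b, c⁆ = a * ⁅b, c⁆ * a⁻¹ * ⁅a, c⁆ by simp only [commutatorElement_def]; group, map_mul,
      map_mul, map_mul, map_inv, ← (hcc hb hc ha).eq, mul_inv_cancel_right, (hcc hb hc ?_).eq]
    exact frn_le E (h.comm_frn ha hc)
  have hmulR : ∀ {a b c : G}, a ∈ E → b ∈ E → c ∈ E → σ ⁅a, b * c⁆ = σ ⁅a, b⁆ * σ ⁅a, c⁆ := by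
    intro a b c ha hb hc
    rw [show ⁅a, b * c⁆ = ⁅a, b⁆ * (b * ⁅a, c⁆ * b⁻¹) by simp only [commutatorElement_def]; group, map_mul,
      map_mul, map_mul, map_inv, ← (hcc ha hc hb).eq, mul_inv_cancel_right]
  have hn1 : ∀ {n a : G}, n ∈ frn E → a ∈ E → σ ⁅n, a⁆ = 1 ∧ σ ⁅a, n⁆ = 1 := fun hn ha =>
    ⟨hσ1 (hcen _ hn _ ha), hσ1 (by rw [← commutatorElement_inv]; exact inv_mem (hcen _ hn _ ha))⟩
  have hTc : ∀ a b : G, σ x * σ ⁅a, b⁆ * (σ x)⁻¹ = σ ⁅x * a * x⁻¹, x * b * x⁻¹⁆ := fun a b => by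
    rw [← map_inv, ← map_mul, ← map_mul]
    congr 1
    simp only [commutatorElement_def]; group
  -- the commutator of `w₁` and `w₂`
  have hT12 : σ x * σ ⁅w1, w2⁆ * (σ x)⁻¹ = σ ⁅w1, w2⁆ := by
    rw [hTc, hT2, hn, hmulL hw2E hw1E (mul_mem (frn_le E hnN) hw2E), hmulR hw1E (frn_le E hnN) hw2E,
      hmulR hw2E (frn_le E hnN) hw2E, (hn1 hnN hw1E).2, (hn1 hnN hw2E).2, commutatorElement_self, map_one,
      one_mul, one_mul, one_mul]
  set P := (zpowers (σ ⁅w1, w2⁆)).comap σ with hP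
  have hRP : R ≤ P := fun a ha => by
    show σ a ∈ zpowers (σ ⁅w1, w2⁆)
    rw [hσ1 ha]; exact one_mem _
  have hPN : P ≤ frn E := fun a ha => by
    obtain ⟨k, hk⟩ := mem_zpowers_iff.1 (show σ a ∈ zpowers (σ ⁅w1, w2⁆) from ha)
    rw [← map_zpow] at hk
    have := mul_mem (zpow_mem (h.comm_frn hw1E hw2E) k) (hRN (QuotientGroup.eq.1 hk))
    rwa [mul_inv_cancel_left] at this
  haveI hPn : P.Normal := by
    refine ⟨fun a ha g => ?_⟩
    obtain ⟨k, hk⟩ := mem_zpowers_iff.1 (show σ a ∈ zpowers (σ ⁅w1, w2⁆) from ha)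
    show σ (g * a * g⁻¹) ∈ zpowers _
    obtain ⟨i, r, hr, rfl⟩ := h.decomp hJ.xmem g
    have hfix : Commute (σ x) (σ ⁅w1, w2⁆) := by
      rw [commute_iff_eq, ← mul_inv_eq_iff_eq_mul]; exact hT12
    have hcomm : Commute (σ (x ^ i * r)) (σ ⁅w1, w2⁆) := by
      rw [map_mul, map_zpow]
      exact (hfix.zpow_left i).mul_left (hcc hw1E hw2E hr).symm
    rw [map_mul, map_mul, map_inv, ← hk, (hcomm.zpow_right k).eq, mul_inv_cancel_right]
    exact zpow_mem (mem_zpowers _) k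
  -- sectional rank
  have hbound : Nat.card (frn E) ≤ p * Nat.card P := by
    set ρ := QuotientGroup.mk' P with hρ
    have hgen : ∀ r ∈ H, ∃ j k : ℤ, ∃ m ∈ frn E, r = w1 ^ j * (w2 ^ k * m) := fun r hr => by
      obtain ⟨j, hj⟩ := exists_zpow_inv_mul_mem hG hJ.WH hJ.cH hw1H hw1W hr
      obtain ⟨k, hk⟩ := exists_zpow_inv_mul_mem hG hJ.nW hJ.cW hw2W hw2N hj
      exact ⟨j, k, _, hk, by group⟩
    have hρ1 : ∀ {a b : G}, σ ⁅a, b⁆ ∈ zpowers (σ ⁅w1, w2⁆) → Commute (ρ a) (ρ b) := fun hab => by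
      rw [commute_iff_eq, ← commutatorElement_eq_one_iff_mul_comm, ← map_commutatorElement]
      exact (QuotientGroup.eq_one_iff _).2 hab
    have hw12 : Commute (ρ w1) (ρ w2) := hρ1 (mem_zpowers _)
    have hρN : ∀ {m a : G}, m ∈ frn E → a ∈ E → Commute (ρ m) (ρ a) := fun {m a} hm ha =>
      hρ1 (a := m) (b := a) (by rw [(hn1 hm ha).1]; exact one_mem _)
    have hAc : ∀ a ∈ H.map ρ, ∀ b ∈ H.map ρ, a * b = b * a := by
      rintro _ ⟨a, ha, rfl⟩ _ ⟨b, hb, rfl⟩
      have key : ∀ u : G, Commute (ρ w1) (ρ u) → Commute (ρ w2) (ρ u) → u ∈ E → Commute (ρ a) (ρ u) := by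
        intro u hu1 hu2 huE
        obtain ⟨j, k, m, hm, rfl⟩ := hgen a ha
        rw [map_mul, map_mul, map_zpow, map_zpow]
        exact (hu1.zpow_left j).mul_left ((hu2.zpow_left k).mul_left (hρN hm huE))
      obtain ⟨j, k, m, hm, rfl⟩ := hgen b hb
      have h1 : Commute (ρ a) (ρ w1) := key w1 (Commute.refl _) hw12.symm hw1E
      have h2 : Commute (ρ a) (ρ w2) := key w2 hw12 (Commute.refl _) hw2E
      have h3 : Commute (ρ a) (ρ m) := (hρN hm (hJ.HE ha)).symm
      rw [map_mul, map_mul, map_zpow, map_zpow]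
      exact ((h1.zpow_right j).mul_right ((h2.zpow_right k).mul_right h3)).eq
    have hAe : ∀ a ∈ H.map ρ, a ^ p = 1 := by
      rintro _ ⟨a, ha, rfl⟩
      rw [← map_pow]; exact (QuotientGroup.eq_one_iff _).2 (hRP (hpow a (hJ.HE ha)))
    have h1 := card_le_of_section h.rank P (H.map ρ) hAc hAe
    have h2 : Nat.card H = Nat.card (H.map ρ) * Nat.card P := by
      have e1 := Subgroup.relIndex_mul_relIndex ⊥ P H bot_le ((hPN.trans hJ.nW).trans hJ.WH)
      rw [relIndex_bot_left, relIndex_bot_left] at e1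
      rw [← e1, mul_comm]
      congr 1
      rw [← Subgroup.relIndex_ker]
      congr 1
      exact (QuotientGroup.ker_mk' P).symm
    have h3 : p * p * Nat.card (frn E) ≤ p * p * (p * Nat.card P) := by
      rw [show p * p * Nat.card (frn E) = Nat.card H by rw [hJ.cH, hJ.cW, mul_assoc], h2]
      exact (Nat.mul_le_mul_right _ h1).trans (le_of_eq (by ring))
    exact Nat.le_of_mul_le_mul_left h3 (Nat.mul_pos hp.pos hp.pos)
  have hNP : ∀ m ∈ frn E, ∀ g : G, ⁅g, m⁆ ∈ P := by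
    intro m hm g
    have hle : P ⊔ ⁅frn E, (⊤ : Subgroup G)⁆ ≤ P := by
      have hsub : P ⊔ ⁅frn E, (⊤ : Subgroup G)⁆ ≤ frn E := sup_le hPN (commutator_le_left _ ⊤)
      by_cases he' : P ⊔ ⁅frn E, (⊤ : Subgroup G)⁆ = frn E
      · exact he'.le.trans (le_of_le_sup_commutator hG he'.ge)
      · have h1 := CfsgLib.MaxClassCube.mul_card_le hG (lt_of_le_of_ne hsub he')
        exact (eq_of_le_of_card_ge le_sup_left
          (Nat.le_of_mul_le_mul_left (h1.trans hbound) hp.pos)).ge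
    rw [← commutatorElement_inv]
    exact inv_mem (hle (mem_sup_right (commutator_mem_commutator hm (mem_top g))))
  have h02 : σ ⁅e, w2⁆ ∈ zpowers (σ ⁅w1, w2⁆) := by
    have h1 : σ ⁅x, ⁅e, w1⁆⁆ ∈ zpowers (σ ⁅w1, w2⁆) := hNP _ (h.comm_frn hJ.emem hw1E) x
    rw [commutatorElement_def x, map_mul, map_mul, map_mul, map_inv, map_inv, hTc, hT1, hT2,
      hmulL hw1E hJ.emem (mul_mem hw2E hw1E), hmulR hw1E hw2E hw1E, hmulR hJ.emem hw2E hw1E,
      commutatorElement_self, map_one, mul_one, mul_assoc, mul_inv_cancel_right] at h1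
    have h2 := mul_mem (inv_mem (mem_zpowers (σ ⁅w1, w2⁆))) h1
    rwa [inv_mul_cancel_left] at h2
  have h12 : σ ⁅w1, w2⁆ = 1 := by
    obtain ⟨k, hk⟩ := mem_zpowers_iff.1 h02
    have h1 : σ x * σ ⁅e, w2⁆ * (σ x)⁻¹ = σ ⁅e, w2⁆ := by rw [← hk, ← conj_zpow, hT12]
    rw [hTc, hT1, hn, hmulL hw1E hJ.emem (mul_mem (frn_le E hnN) hw2E),
      hmulR hw1E (frn_le E hnN) hw2E, hmulR hJ.emem (frn_le E hnN) hw2E, (hn1 hnN hw1E).2,
      (hn1 hnN hJ.emem).2, one_mul, one_mul] at h1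
    exact mul_eq_right.1 h1
  rw [h12, zpowers_one_eq_bot, mem_bot] at h02
  -- the centre modulo `R`
  set L := E ⊓ (centralizer (σ '' (E : Set G))).comap σ with hL
  have hLmem : ∀ {a : G}, a ∈ E → (∀ b ∈ E, ⁅a, b⁆ ∈ R) → a ∈ L := fun ha hab => ⟨ha, by
    show σ _ ∈ centralizer _
    refine mem_centralizer_iff.2 ?_
    rintro _ ⟨b, hb, rfl⟩
    refine (commutatorElement_eq_one_iff_mul_comm.1 ?_).symm
    rw [← map_commutatorElement]; exact hσ1 (hab b hb)⟩
  have hLget : ∀ {a : G}, a ∈ L → ∀ b ∈ E, ⁅a, b⁆ ∈ R := fun {a} ha b hb => by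
    refine (QuotientGroup.eq_one_iff _).1 ?_
    show σ ⁅a, b⁆ = 1
    rw [map_commutatorElement, commutatorElement_eq_one_iff_mul_comm]
    exact (mem_centralizer_iff.1 (show σ a ∈ centralizer (σ '' (E : Set G)) from ha.2) _ ⟨b, hb, rfl⟩).symm
  have hiL : InvE X L := fun α hα r hr => hLmem (α r).2 fun b hb => by
    have h1 := hiR α hα ⁅r, α⁻¹ ⟨b, hb⟩⁆ (by
      rw [← Subgroup.coe_subtype, map_commutatorElement]; exact hLget hr _ (α⁻¹ ⟨b, hb⟩).2)
    rw [map_commutatorElement, MulAut.apply_inv_self, ← Subgroup.coe_subtype, map_commutatorElement] at h1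
    exact h1
  have hNL : frn E ≤ L := fun a ha => hLmem (frn_le E ha) (hcen a ha)
  have hw2L : w2 ∈ L := hLmem hw2E fun b hb => by
    obtain ⟨i, hi⟩ := exists_zpow_inv_mul_mem hG hJ.HE hJ.cE hJ.emem hJ.eH hb
    obtain ⟨j, hj⟩ := exists_zpow_inv_mul_mem hG hJ.WH hJ.cH hw1H hw1W hi
    obtain ⟨k, hk⟩ := exists_zpow_inv_mul_mem hG hJ.nW hJ.cW hw2W hw2N hj
    refine (QuotientGroup.eq_one_iff _).1 ?_
    show σ ⁅w2, b⁆ = 1
    have hflip : ∀ {a : G}, σ ⁅a, w2⁆ = 1 → Commute (σ w2) (σ a) := fun {a} ha => by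
      rw [map_commutatorElement, commutatorElement_eq_one_iff_mul_comm] at ha
      exact ha.symm
    have hb' : b = e ^ i * (w1 ^ j * (w2 ^ k * ((w2 ^ k)⁻¹ * ((w1 ^ j)⁻¹ * ((e ^ i)⁻¹ * b))))) := by group
    rw [map_commutatorElement, commutatorElement_eq_one_iff_mul_comm, hb', map_mul, map_mul, map_mul, map_zpow,
      map_zpow, map_zpow]
    exact (((hflip h02).zpow_right i).mul_right (((hflip h12).zpow_right j).mul_right
      (((Commute.refl _).zpow_right k).mul_right (hcN hk hw2E).symm))).eq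
  rcases hJ.inv_eq h hNL inf_le_left hiL with hL' | hL'
  · exact absurd (hL'.le hw2L) hw2N
  · exact fun a ha b hb => hLget (hL'.ge ha) b hb

/-- The Frattini subgroup of `E` is generated by `p`-th powers modulo any such subgroup. -/
theorem JData.eq_of_pow (h : Top p E X Γ) (hJ : JData p E x e H W) {R : Subgroup G} [R.Normal]
    (hiR : InvE X R) (hRN : R ≤ frn E) (hN2 : frn (frn E) ≤ R) (hpow : ∀ r ∈ E, r ^ p ∈ R) :
    R = frn E := by
  set R0 := R ⊔ ⁅frn E, E⁆ with hR0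
  have hR0N : R0 ≤ frn E := sup_le hRN (commutator_le_left _ _)
  have hi0 : InvE X R0 := by
    refine invE_of_le (hR0N.trans (frn_le E)) fun α hα => sup_le (fun a ha => ?_) (commutator_le.2 fun a ha b hb => ?_)
    · exact ⟨⟨a, frn_le E (hRN ha)⟩, mem_sup_left (hiR α hα ⟨a, frn_le E (hRN ha)⟩ ha), rfl⟩
    · refine ⟨⁅(⟨a, frn_le E ha⟩ : E), ⟨b, hb⟩⁆, ?_, map_commutatorElement E.subtype _ _⟩
      show E.subtype (α ⁅(⟨a, frn_le E ha⟩ : E), ⟨b, hb⟩⁆) ∈ R0
      rw [map_commutatorElement, map_commutatorElement]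
      exact mem_sup_right (commutator_mem_commutator (h.invE_frn α hα ⟨a, frn_le E ha⟩ ha) (α ⟨b, hb⟩).2)
  have h0 : R0 = frn E := hJ.eq_of_central h hi0 hR0N (hN2.trans le_sup_left)
    (fun r hr => mem_sup_left (hpow r hr)) fun n hn r hr => mem_sup_right (commutator_mem_commutator hn hr)
  refine le_antisymm hRN (le_of_le_sup_commutator h.pgroup ?_)
  exact h0.ge.trans (sup_le_sup_left (commutator_mono le_rfl le_top) _)

/-- The Frattini subgroup of `E` is the subgroup generated by the `p`-th powers. -/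
theorem JData.frn_le_epow (h : Top p E X Γ) (hJ : JData p E x e H W) : frn E ≤ epow p E := by
  haveI hen : (epow p E).Normal := h.invE_normal (epow_le E) h.invE_epow
  have hR := hJ.eq_of_pow h (R := epow p E ⊔ frn (frn E)) (invE_of_le
    (sup_le (epow_le E) ((frn_le _).trans (frn_le E))) fun α hα => sup_le (fun a ha => ?_) fun a ha => ?_)
    (sup_le ((closure_le _).2 ?_) (frn_le _)) le_sup_right fun r hr => mem_sup_left (pow_mem_epow hr)
  · set N := frn E with hN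
    set D := (epow p E).subgroupOf N with hD
    have hle : epow p E ≤ N := (closure_le _).2 (by rintro _ ⟨r, rfl⟩; exact h.pow_frn r.2)
    have htop : D ⊔ frattini N = ⊤ := by
      refine eq_top_iff.2 fun n _ => ?_
      obtain ⟨a, ha, b, hb, hab⟩ := mem_sup_of_normal_left.1 (hR.ge n.2)
      obtain ⟨b', hb', rfl⟩ := hb
      have : n = ⟨a, hle ha⟩ * b' := Subtype.ext hab.symm
      rw [this]
      exact mul_mem (mem_sup_left ha) (mem_sup_right hb')
    intro n hn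
    exact (frattini_nongenerating htop).ge (mem_top (⟨n, hn⟩ : N))
  · exact ⟨⟨a, epow_le E ha⟩, mem_sup_left (h.invE_epow α hα ⟨a, epow_le E ha⟩ ha), rfl⟩
  · exact ⟨⟨a, frn_le E (frn_le _ ha)⟩,
      mem_sup_right (h.invE_frn_frn α hα ⟨a, frn_le E (frn_le _ ha)⟩ ha), rfl⟩
  · rintro _ ⟨r, rfl⟩
    exact h.pow_frn r.2

/-- The Frattini subgroup of `E` is central in `E` modulo its Frattini subgroup. -/
theorem JData.comm_le_frn_frn (h : Top p E X Γ) (hJ : JData p E x e H W) :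
    ∀ n ∈ frn E, ∀ r ∈ E, ⁅n, r⁆ ∈ frn (frn E) := by
  have hG := h.pgroup
  set R2 := frn (frn E) ⊔ ⁅⁅frn E, E⁆, (⊤ : Subgroup G)⁆ with hR2
  set σ := QuotientGroup.mk' R2 with hσ
  have hσ1 : ∀ {a : G}, a ∈ frn (frn E) → σ a = 1 := fun ha =>
    (QuotientGroup.eq_one_iff _).2 (mem_sup_left ha)
  have hcen : ∀ {u : G}, u ∈ ⁅frn E, E⁆ → ∀ g : G, Commute (σ u) (σ g) := fun {u} hu g => by
    rw [commute_iff_eq, ← commutatorElement_eq_one_iff_mul_comm, ← map_commutatorElement]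
    exact (QuotientGroup.eq_one_iff _).2 (mem_sup_right (commutator_mem_commutator hu (mem_top g)))
  have hkey : ∀ y ∈ E, ∀ z ∈ E, Commute (σ (y ^ p)) (σ z) := by
    intro y hy z hz
    obtain ⟨v, hvN, hv⟩ : ∃ v ∈ frn E, z * y * z⁻¹ = v * y :=
      ⟨⁅z, y⁆, h.comm_frn hz hy, by rw [commutatorElement_def, inv_mul_cancel_right]⟩
    obtain ⟨c, hc⟩ : ∃ c, c = ⁅y, v⁆ := ⟨_, rfl⟩
    have hcm : c ∈ ⁅frn E, E⁆ := by
      rw [hc, ← commutatorElement_inv]; exact inv_mem (commutator_mem_commutator hvN hy)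
    have hswap : σ y * σ v = σ c * (σ v * σ y) := by
      rw [← map_mul, ← map_mul, ← map_mul, hc, commutatorElement_def]; congr 1; group
    have hvp : σ v ^ p = 1 := by rw [← map_pow]; exact hσ1 (pow_mem_frn hG hvN)
    have hconj : σ y * σ v * (σ y)⁻¹ = σ c * σ v := by rw [hswap, mul_assoc, mul_inv_cancel_right]
    have hcp : σ c ^ p = 1 := by
      have h1 := congrArg (· ^ p) hconj
      simp only [conj_pow, hvp, mul_one, mul_inv_cancel, (hcen hcm v).mul_pow] at h1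
      exact h1.symm
    have h2 : σ (z * y * z⁻¹) ^ p = σ y ^ p := by
      rw [hv, map_mul, mul_pow_eq_of_central_commutator Fact.out h.odd hswap (hcen hcm v) (hcen hcm y) hcp,
        hvp, one_mul]
    rw [map_mul, map_mul, map_inv, conj_pow, ← map_pow] at h2
    exact (mul_inv_eq_iff_eq_mul.1 h2).symm
  have hle : ⁅frn E, E⁆ ≤ R2 := by
    refine commutator_le.2 fun n hn r hr => (QuotientGroup.eq_one_iff _).1 ?_
    show σ ⁅n, r⁆ = 1
    rw [map_commutatorElement, commutatorElement_eq_one_iff_mul_comm]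
    have hmem : frn E ≤ (centralizer {σ r}).comap σ := (hJ.frn_le_epow h).trans ((closure_le _).2 (by
      rintro _ ⟨y, rfl⟩
      exact mem_centralizer_singleton_iff.2 (hkey y y.2 r hr).eq))
    exact mem_centralizer_singleton_iff.1 (hmem hn)
  intro n hn r hr
  exact le_of_le_sup_commutator hG hle (commutator_mem_commutator hn hr)

/-- The `p`-th powers of a product of elements of `E`, modulo the second Frattini subgroup. -/
theorem JData.mul_pow (h : Top p E X Γ) (hJ : JData p E x e H W) {a b : G} (ha : a ∈ E) (hb : b ∈ E) :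
    QuotientGroup.mk' (frn (frn E)) ((a * b) ^ p) =
      QuotientGroup.mk' (frn (frn E)) (a ^ p) * QuotientGroup.mk' (frn (frn E)) (b ^ p) := by
  set σ := QuotientGroup.mk' (frn (frn E)) with hσ
  have hc : ∀ y ∈ E, Commute (σ ⁅b, a⁆) (σ y) := fun y hy => by
    rw [commute_iff_eq, ← commutatorElement_eq_one_iff_mul_comm, ← map_commutatorElement]
    exact (QuotientGroup.eq_one_iff _).2 (hJ.comm_le_frn_frn h _ (h.comm_frn hb ha) y hy)
  rw [map_pow, map_pow, map_pow, map_mul]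
  refine mul_pow_eq_of_central_commutator Fact.out h.odd ?_ (hc a ha) (hc b hb) ?_
  · rw [← map_mul, ← map_mul, ← map_mul, commutatorElement_def]; congr 1; group
  · rw [← map_pow]; exact (QuotientGroup.eq_one_iff _).2 (pow_mem_frn h.pgroup (h.comm_frn hb ha))

/-- Either `E` is elementary abelian or an element whose power is trivial modulo the second
Frattini subgroup lies in the Frattini subgroup. -/
theorem JData.dichotomy (h : Top p E X Γ) (hJ : JData p E x e H W) :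
    frn E = ⊥ ∨ ∀ r ∈ E, r ^ p ∈ frn (frn E) → r ∈ frn E := by
  let L : Subgroup G :=
    { carrier := {r | r ∈ E ∧ r ^ p ∈ frn (frn E)}
      one_mem' := ⟨one_mem E, by rw [one_pow]; exact one_mem _⟩
      mul_mem' := fun {a b} ha hb => ⟨mul_mem ha.1 hb.1, by
        refine (QuotientGroup.eq_one_iff _).1 ?_
        show QuotientGroup.mk' (frn (frn E)) ((a * b) ^ p) = 1
        rw [hJ.mul_pow h ha.1 hb.1, show QuotientGroup.mk' (frn (frn E)) (a ^ p) = 1 from
          (QuotientGroup.eq_one_iff _).2 ha.2, one_mul]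
        exact (QuotientGroup.eq_one_iff _).2 hb.2⟩
      inv_mem' := fun {a} ha => ⟨inv_mem ha.1, by rw [inv_pow]; exact inv_mem ha.2⟩ }
  have hLE : L ≤ E := fun r hr => hr.1
  have hiL : InvE X L := fun α hα r hr => ⟨(α r).2, by
    have h1 : ((r ^ p : E) : G) ∈ frn (frn E) := by rw [Subgroup.coe_pow]; exact hr.2
    have h2 := h.invE_frn_frn α hα (r ^ p) h1
    rwa [map_pow, Subgroup.coe_pow] at h2⟩
  rcases hJ.inv_eq h (L := L) (fun a ha => ⟨frn_le E ha, pow_mem_frn h.pgroup ha⟩) hLE hiL with hL | hL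
  · exact Or.inr fun r hr hrp => hL.le ⟨hr, hrp⟩
  · refine Or.inl (eq_bot_iff.2 fun n hn => ?_)
    by_contra hne
    set N := frn E with hN
    have hlt : frn N ≠ N := fun e' => by
      have h1 : frattini N = ⊤ := eq_top_iff.2 fun m _ => mem_frn.1 (e'.ge m.2)
      have h2 := frattini_nongenerating (K := (⊥ : Subgroup N)) (by rw [h1, bot_sup_eq])
      exact hne (mem_bot.2 (congrArg Subtype.val (mem_bot.1 (h2.ge (mem_top (⟨n, hn⟩ : N))))))
    refine hlt (le_antisymm (frn_le _) ((hJ.frn_le_epow h).trans ((closure_le _).2 ?_)))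
    rintro _ ⟨r, rfl⟩
    exact (hL.ge r.2).2

end CfsgLib.Fusion.RankThree
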