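import Cfsg.Agent.Lib.Fusion.System.RankThree.JPowerful

/-!
# The quotient of order `p⁴` of a Jordan block

Modulo the Frattini subgroup of `E` the group has maximal class; its Frattini subgroup is `H`.
-/

set_option autoImplicit false
set_option linter.style.haveILetI false
set_option linter.unusedSectionVars false

open Subgroup
open scoped commutatorElement

namespace CfsgLib.Fusion.RankThree

universe u

variable {G : Type u} [Group G] [Finite G] {p : ℕ} [Fact p.Prime]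
  {E : Subgroup G} [E.Normal] {X : Subgroup (MulAut E)} {Γ : Subgroup (MulAut G)}
  {x e : G} {H W : Subgroup G} (h : Top p E X Γ) (hJ : JData p E x e H W)
include h hJ

theorem JData.derived_le : commutator G ≤ H := by
  haveI := hJ.Hn
  refine commutator_le_of_generators (S := insert x (E : Set G)) (eq_top_iff.2 fun y _ => ?_) ?_
  · obtain ⟨i, r, hr, rfl⟩ := h.decomp hJ.xmem y
    exact mul_mem (zpow_mem (subset_closure (Set.mem_insert _ _)) i)
      (subset_closure (Set.mem_insert_of_mem _ hr))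
  · rintro a (rfl | ha) b (rfl | hb)
    · rw [commutatorElement_self]; exact one_mem _
    · rw [← commutatorElement_inv]; exact inv_mem (hJ.commE b hb a)
    · exact hJ.commE a ha b
    · exact hJ.commE a ha b

theorem JData.pow_x_mem : x ^ p ∈ W := hJ.mem_W h (h.pow_mem x) (by
  rw [commutatorElement_eq_one_iff_mul_comm.2 ((Commute.refl x).pow_right p).eq]; exact one_mem _)

theorem JData.exists_d : ∃ d : ℤ, (⁅x, ⁅x, e⁆⁆ ^ d)⁻¹ * x ^ p ∈ frn E :=
  exists_zpow_inv_mul_mem h.pgroup hJ.nW hJ.cW hJ.w2 hJ.w2N (hJ.pow_x_mem h)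

/-- The `p`-th power modulo the Frattini subgroup of `E`. -/
theorem JData.pow_mk {A : ℤ} {r : G} (hr : r ∈ E) :
    QuotientGroup.mk' (frn E) ((x ^ A * r) ^ p) = QuotientGroup.mk' (frn E) (x ^ p) ^ A := by
  set σ := QuotientGroup.mk' (frn E) with hσ
  have hcomH : ∀ u ∈ commutator (G ⧸ frn E), ∃ a ∈ H, σ a = u := by
    intro u hu
    rw [commutator_def, ← map_top_of_surjective σ (QuotientGroup.mk'_surjective _), ← map_commutator] at hu
    obtain ⟨a, ha, rfl⟩ := hu
    exact ⟨a, hJ.derived_le h (by rwa [commutator_def]), rfl⟩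
  have hcl : ⁅⁅commutator (G ⧸ frn E), (⊤ : Subgroup (G ⧸ frn E))⁆, (⊤ : Subgroup (G ⧸ frn E))⁆ = ⊥ := by
    refine eq_bot_iff.2 (Subgroup.commutator_le.2 fun u hu g _ => ?_)
    have hu' : u ∈ W.map σ := (Subgroup.commutator_le.2 fun a ha b _ => by
      obtain ⟨a, haH, rfl⟩ := hcomH a ha
      obtain ⟨b, rfl⟩ := QuotientGroup.mk'_surjective _ b
      rw [← map_commutatorElement]
      exact mem_map_of_mem σ (hJ.commH a haH b) :
      ⁅commutator (G ⧸ frn E), (⊤ : Subgroup (G ⧸ frn E))⁆ ≤ W.map σ) hu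
    obtain ⟨a, haW, rfl⟩ := hu'
    obtain ⟨g, rfl⟩ := QuotientGroup.mk'_surjective _ g
    rw [← map_commutatorElement, mem_bot]
    exact (QuotientGroup.eq_one_iff _).2 (hJ.commW a haW g)
  rw [map_pow, map_mul, map_zpow, mul_pow_class_three h.five hcl (fun u hu => by
    obtain ⟨a, ha, rfl⟩ := hcomH u hu
    rw [← map_pow]; exact (QuotientGroup.eq_one_iff _).2 (h.pow_frn (hJ.HE ha)))]
  rw [show σ r ^ p = 1 by rw [← map_pow]; exact (QuotientGroup.eq_one_iff _).2 (h.pow_frn hr), mul_one,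
    map_pow, ← zpow_natCast, ← zpow_natCast, ← zpow_mul, ← zpow_mul, mul_comm]

theorem JData.pow_mem_W (y : G) : y ^ p ∈ W := by
  obtain ⟨A, r, hr, rfl⟩ := h.decomp hJ.xmem y
  have h1 := hJ.pow_mk h (A := A) hr
  rw [← map_zpow] at h1
  have := mul_mem (zpow_mem (hJ.pow_x_mem h) A) (hJ.nW (QuotientGroup.eq.1 h1.symm))
  rwa [mul_inv_cancel_left] at this

theorem JData.H_eq : H = frattini G := by
  refine le_antisymm (hJ.geH.trans (sup_le (h.frn_le_frattini) ?_))
    (CfsgLib.FrattiniLe.frattini_le_of_pow_of_commutator (p := p) (fun y => hJ.WH (hJ.pow_mem_W h y))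
      (hJ.derived_le h))
  exact (commutator_mono le_top le_rfl).trans ((commutator_def G).ge.trans
    (CfsgLib.Coprime.commutator_le_frattini h.pgroup))

theorem JData.H_apply (γ : MulAut G) {a : G} (ha : a ∈ H) : γ a ∈ H := by
  rw [hJ.H_eq h] at ha ⊢
  exact CfsgLib.MaxClassEss.mem_frattini_iff_apply.2 ha

/-- The commutator with `⁅x, e⁆` modulo the Frattini subgroup of `E`. -/
theorem JData.comm_w1 {A : ℤ} {r : G} (hr : r ∈ E) :
    QuotientGroup.mk' (frn E) ⁅⁅x, e⁆, x ^ A * r⁆ =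
      QuotientGroup.mk' (frn E) ⁅x, ⁅x, e⁆⁆ ^ (-A) := by
  set σ := QuotientGroup.mk' (frn E) with hσ
  obtain ⟨w1, hw1⟩ : ∃ w1, w1 = ⁅x, e⁆ := ⟨_, rfl⟩
  rw [← hw1]
  have hcen : ∀ g : G, ⁅σ g, σ w1⁆ ∈ center (G ⧸ frn E) := fun g => mem_center_iff.2 fun u => by
    obtain ⟨u, rfl⟩ := QuotientGroup.mk'_surjective _ u
    rw [← map_commutatorElement]
    refine (commutatorElement_eq_one_iff_mul_comm.1 ?_).symm
    rw [← map_commutatorElement]
    refine (QuotientGroup.eq_one_iff _).2 (hJ.commW _ ?_ u)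
    rw [← commutatorElement_inv]
    exact inv_mem (hJ.commH _ (hw1 ▸ hJ.w1) g)
  have hc' : ∀ u : G ⧸ frn E, ⁅u, σ w1⁆ ∈ center (G ⧸ frn E) := fun u => by
    obtain ⟨u, rfl⟩ := QuotientGroup.mk'_surjective _ u; exact hcen u
  have h1 : ⁅σ r, σ w1⁆ = 1 := by
    rw [← map_commutatorElement]
    exact (QuotientGroup.eq_one_iff _).2 (h.comm_frn hr (hw1 ▸ hJ.HE hJ.w1))
  rw [map_commutatorElement, ← commutatorElement_inv, map_mul, map_zpow, map_commutatorElement, zpow_neg]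
  congr 1
  show commHom (σ w1) hc' (σ x ^ A * σ r) = _
  rw [map_mul, map_zpow, show commHom (σ w1) hc' (σ r) = 1 from h1, mul_one]
  rfl

theorem JData.cast_w2 {k : ℤ} (hk : QuotientGroup.mk' (frn E) ⁅x, ⁅x, e⁆⁆ ^ k = 1) : (k : ZMod p) = 0 := by
  by_contra h0
  rw [← map_zpow] at hk
  exact hJ.w2N (mem_of_zpow_mem (h.pow_frn (hJ.HE (hJ.WH hJ.w2))) ((QuotientGroup.eq_one_iff _).1 hk) h0)

theorem JData.mem_E_of_cast {A : ℤ} {r : G} (hr : r ∈ E) (hA : (A : ZMod p) = 0) : x ^ A * r ∈ E := by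
  obtain ⟨m, rfl⟩ := (ZMod.intCast_zmod_eq_zero_iff_dvd _ _).1 hA
  rw [zpow_mul, zpow_natCast]
  exact mul_mem (zpow_mem (h.pow_mem x) m) hr

end CfsgLib.Fusion.RankThree
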