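import Cfsg.Agent.Lib.Fusion.System.RankThree.JPowers
import Cfsg.Agent.Lib.Fusion.System.RankThree.JTop
import Cfsg.Agent.S4209

/-!
# Commutators and powers in a powerful Jordan block

The `p`-th power of `e` is a nontrivial power of `⁅⁅x, e⁆, e⁆` modulo the Frattini subgroup of `H`.
-/

set_option autoImplicit false
set_option linter.style.haveILetI false
set_option linter.unusedSectionVars false

open Subgroup
open scoped commutatorElement

namespace CfsgLib.Fusion.RankThree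

universe u

/-- In class less than `p`, commutators of exponent `p` make the `p`-th power multiplicative. -/
theorem mul_pow_class_lt {Q : Type u} [Group Q] [Finite Q] {p : ℕ} [Fact p.Prime] (hQ : IsPGroup p Q)
    (hcl : (⊤ : Subgroup Q).lowerCentralSeries (p - 1) = ⊥) (hexp : ∀ u ∈ commutator Q, u ^ p = 1)
    (a b : Q) : (a * b) ^ p = a ^ p * b ^ p := by
  obtain ⟨c, hc, hce⟩ := (Cfsg.Agent.S4209.result hQ hcl).2 a b 1
  have hc1 : c ∈ (⊥ : Subgroup Q) := by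
    refine (closure_le _).2 ?_ hc
    rintro _ ⟨u, hu, rfl⟩
    rw [pow_one]
    exact mem_bot.2 (hexp u (by rw [commutator_def]; exact commutator_mono le_top le_top hu))
  rw [pow_one, mem_bot.1 hc1, mul_one] at hce
  exact hce

variable {G : Type u} [Group G] [Finite G] {p : ℕ} [Fact p.Prime]
  {E : Subgroup G} [E.Normal] {X : Subgroup (MulAut E)} {Γ : Subgroup (MulAut G)}
  {x e : G} {H W : Subgroup G}

theorem JData.relation (h : Top p E X Γ) (hJ : JData p E x e H W)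
    (hinj : ∀ r ∈ E, r ^ p ∈ frn (frn E) → r ∈ frn E) {d : ℤ}
    (hd : (⁅x, ⁅x, e⁆⁆ ^ d)⁻¹ * x ^ p ∈ frn E) :
    (d : ZMod p) ≠ 0 ∧ (⁅⁅x, e⁆, e⁆ ^ d)⁻¹ * e ^ p ∈ frn H := by
  have hG := h.pgroup
  haveI := hJ.Hn
  haveI := hJ.Wn
  obtain ⟨w1, hw1⟩ : ∃ w1, w1 = ⁅x, e⁆ := ⟨_, rfl⟩
  obtain ⟨w2, hw2⟩ : ∃ w2, w2 = ⁅x, w1⁆ := ⟨_, rfl⟩
  have hw1H : w1 ∈ H := hw1 ▸ hJ.w1
  have hw2W : w2 ∈ W := by rw [hw2, hw1]; exact hJ.w2
  have hw1E : w1 ∈ E := hJ.HE hw1H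
  have hw2E : w2 ∈ E := hJ.HE (hJ.WH hw2W)
  have hw1W : w1 ∉ W := hw1 ▸ hJ.w1W
  have hw2N : w2 ∉ frn E := by rw [hw2, hw1]; exact hJ.w2N
  have hd' : (w2 ^ d)⁻¹ * x ^ p ∈ frn E := by rw [hw2, hw1]; exact hd
  rw [← hw1]
  have hW2 : ∀ a ∈ W, ∃ k : ℤ, (w2 ^ k)⁻¹ * a ∈ frn E := fun a ha =>
    exists_zpow_inv_mul_mem hG hJ.nW hJ.cW hw2W hw2N ha
  have hxE : ∀ {r : G}, r ∈ E → ⁅x, r⁆ ∈ H := fun {r} hr => by
    rw [← commutatorElement_inv]; exact inv_mem (hJ.commE r hr x)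
  have hxH : ∀ {r : G}, r ∈ H → ⁅x, r⁆ ∈ W := fun {r} hr => by
    rw [← commutatorElement_inv]; exact inv_mem (hJ.commH r hr x)
  -- the quotient
  set σ := QuotientGroup.mk' (frn (frn E)) with hσ
  have hσconj : ∀ r : G, σ x * σ (r ^ p) * (σ x)⁻¹ = σ ((⁅x, r⁆ * r) ^ p) := fun r => by
    rw [← map_inv, ← map_mul, ← map_mul, ← conj_pow, commutatorElement_def, inv_mul_cancel_right]
  have hσW : ∀ a ∈ W, σ (a ^ p) ∈ zpowers (σ (w2 ^ p)) := fun a ha => by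
    obtain ⟨k, hk⟩ := hW2 a ha
    rw [show a = w2 ^ k * ((w2 ^ k)⁻¹ * a) by group, hJ.mul_pow h (zpow_mem hw2E k) (frn_le E hk),
      show σ (((w2 ^ k)⁻¹ * a) ^ p) = 1 from (QuotientGroup.eq_one_iff _).2 (pow_mem_frn hG hk), mul_one,
      show (w2 ^ k) ^ p = (w2 ^ p) ^ k by rw [← zpow_natCast, ← zpow_mul, mul_comm, zpow_mul, zpow_natCast],
      map_zpow]
    exact zpow_mem (mem_zpowers _) k
  set M := (zpowers (σ (w2 ^ p))).comap σ with hM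
  have hM2 : frn (frn E) ≤ M := fun a ha => by
    show σ a ∈ zpowers (σ (w2 ^ p))
    rw [show σ a = 1 from (QuotientGroup.eq_one_iff _).2 ha]; exact one_mem _
  have hfixw2 : Commute (σ x) (σ (w2 ^ p)) := by
    rw [commute_iff_eq, ← mul_inv_eq_iff_eq_mul, hσconj, hJ.mul_pow h (hJ.HE (hxE hw2E)) hw2E,
      show σ (⁅x, w2⁆ ^ p) = 1 from (QuotientGroup.eq_one_iff _).2 (pow_mem_frn hG (by
        rw [← commutatorElement_inv]; exact inv_mem (hJ.commW w2 hw2W x))), one_mul]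
  haveI hMn : M.Normal := by
    refine ⟨fun a ha g => ?_⟩
    obtain ⟨k, hk⟩ := mem_zpowers_iff.1 (show σ a ∈ zpowers (σ (w2 ^ p)) from ha)
    show σ (g * a * g⁻¹) ∈ zpowers (σ (w2 ^ p))
    obtain ⟨i, r, hr, rfl⟩ := h.decomp hJ.xmem g
    have hrc : Commute (σ r) (σ (w2 ^ p)) := by
      symm
      rw [commute_iff_eq, ← commutatorElement_eq_one_iff_mul_comm, ← map_commutatorElement]
      exact (QuotientGroup.eq_one_iff _).2 (hJ.comm_le_frn_frn h _ (h.pow_frn hw2E) r hr)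
    have hcomm : Commute (σ (x ^ i * r)) (σ (w2 ^ p)) := by
      rw [map_mul, map_zpow]
      exact (hfixw2.zpow_left i).mul_left hrc
    rw [map_mul, map_mul, map_inv, ← hk, (hcomm.zpow_right k).eq, mul_inv_cancel_right]
    exact zpow_mem (mem_zpowers _) k
  set τ := QuotientGroup.mk' M with hτ
  have hτ1 : ∀ {a : G}, a ∈ M → τ a = 1 := fun ha => (QuotientGroup.eq_one_iff _).2 ha
  let π : E →* G ⧸ M := MonoidHom.mk' (fun r => τ ((r : G) ^ p)) fun a b => by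
    rw [Subgroup.coe_mul, ← map_mul]
    refine QuotientGroup.eq.2 (hM2 (QuotientGroup.eq.1 ?_))
    show σ _ = σ _
    rw [hJ.mul_pow h a.2 b.2, map_mul]
  have hπW : ∀ a : E, (a : G) ∈ W → π a = 1 := fun a ha => hτ1 (hσW a ha)
  set c1 := τ (w1 ^ p) with hc1
  have hπH : ∀ a : E, (a : G) ∈ H → ∃ j : ℤ, π a = c1 ^ j := fun a ha => by
    obtain ⟨j, hj⟩ := exists_zpow_inv_mul_mem hG hJ.WH hJ.cH hw1H hw1W ha
    refine ⟨j, ?_⟩
    rw [show a = ⟨w1, hw1E⟩ ^ j * ⟨_, hJ.HE (hJ.WH hj)⟩ from Subtype.ext (by push_cast; group), map_mul,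
      map_zpow, hπW ⟨_, hJ.HE (hJ.WH hj)⟩ hj, mul_one]
    rfl
  have hc10 : c1 ≠ 1 := fun h1 => by
    have h0 : w1 ^ p ∈ M := (QuotientGroup.eq_one_iff _).1 (show τ (w1 ^ p) = 1 from h1)
    obtain ⟨k, hk⟩ := mem_zpowers_iff.1 (show σ (w1 ^ p) ∈ zpowers (σ (w2 ^ p)) from h0)
    have h2 : (w1 * w2 ^ (-k)) ^ p ∈ frn (frn E) := by
      refine (QuotientGroup.eq_one_iff _).1 ?_
      show σ _ = 1
      rw [hJ.mul_pow h hw1E (zpow_mem hw2E _), ← hk,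
        show (w2 ^ (-k)) ^ p = (w2 ^ p) ^ (-k) by rw [← zpow_natCast, ← zpow_mul, mul_comm, zpow_mul, zpow_natCast],
        map_zpow, ← zpow_add, add_neg_cancel, zpow_zero]
    have h3 := mul_mem (hJ.nW (hinj _ (mul_mem hw1E (zpow_mem hw2E _)) h2)) (zpow_mem hw2W k)
    rw [mul_assoc, ← zpow_add, neg_add_cancel, zpow_zero, mul_one] at h3
    exact hw1W h3
  have hc1p : c1 ^ p = 1 := by rw [hc1, ← map_pow]; exact hτ1 (hM2 (pow_mem_frn hG (h.pow_frn hw1E)))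
  have hcast : ∀ {k : ℤ}, c1 ^ k = 1 → (k : ZMod p) = 0 := fun {k} hk => by
    simpa using LineTorus.cast_of_zpow_eq hc1p hc10 (r := k) (s := 0) (by rw [hk, zpow_zero])
  have hTπ : ∀ r : E, τ x * π r * (τ x)⁻¹ = π ⟨⁅x, (r : G)⁆, hJ.HE (hxE r.2)⟩ * π r := fun r => by
    show τ x * τ ((r : G) ^ p) * (τ x)⁻¹ = _
    rw [← map_mul π, ← map_inv, ← map_mul, ← map_mul, ← conj_pow]
    exact congrArg (fun y => τ (y ^ p)) (show x * (r : G) * x⁻¹ = ⁅x, (r : G)⁆ * r by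
      rw [commutatorElement_def, inv_mul_cancel_right])
  have hxc1 : τ x * c1 * (τ x)⁻¹ = c1 := by
    have h1 := hTπ ⟨w1, hw1E⟩
    rwa [hπW ⟨⁅x, w1⁆, hJ.HE (hxE hw1E)⟩ (hxH hw1H), one_mul] at h1
  have hNgen : ∀ m ∈ frn E, ∃ i j : ℤ, τ m = π ⟨e, hJ.emem⟩ ^ i * c1 ^ j := by
    intro m hm
    have hle : frn E ≤ (π.range).comap τ := (hJ.frn_le_epow h).trans ((closure_le _).2 (by
      rintro _ ⟨r, rfl⟩; exact ⟨r, rfl⟩))
    obtain ⟨r, hr⟩ := hle hm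
    obtain ⟨i, hi⟩ := exists_zpow_inv_mul_mem hG hJ.HE hJ.cE hJ.emem hJ.eH r.2
    obtain ⟨j, hj⟩ := hπH ⟨_, hJ.HE hi⟩ hi
    refine ⟨i, j, ?_⟩
    rw [← hr, show r = ⟨e, hJ.emem⟩ ^ i * ⟨_, hJ.HE hi⟩ from Subtype.ext (by push_cast; group), map_mul, map_zpow,
      hj]
  -- the quotient of the product of `⟨x⟩` and `H`
  set S0 := zpowers x ⊔ H with hS0
  set M' := M.subgroupOf S0 with hM'
  set ψ := QuotientGroup.mk' M' with hψ
  have hxS : x ∈ S0 := mem_sup_left (mem_zpowers x)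
  have hHS : H ≤ S0 := le_sup_right
  let C : Subgroup G := (zpowers c1).comap τ
  have hCN : ∀ n ∈ frn E, ∀ g : G, ⁅n, g⁆ ∈ C := by
    intro n hn g
    show τ ⁅n, g⁆ ∈ zpowers c1
    obtain ⟨i, r, hr, rfl⟩ := h.decomp hJ.xmem g
    have hnr : Commute (τ n) (τ r) := by
      rw [commute_iff_eq, ← commutatorElement_eq_one_iff_mul_comm, ← map_commutatorElement]
      exact hτ1 (hM2 (hJ.comm_le_frn_frn h n hn r hr))
    obtain ⟨a, b, hab⟩ := hNgen n hn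
    obtain ⟨j, hj⟩ := hπH ⟨⁅x, e⁆, hJ.HE hJ.w1⟩ hJ.w1
    have hTn : τ x * τ n * (τ x)⁻¹ = c1 ^ (j * a) * τ n := by
      have he := hTπ ⟨e, hJ.emem⟩
      have hcomm : Commute (c1 ^ j) (π ⟨e, hJ.emem⟩) := by
        refine Commute.zpow_left ?_ j
        rw [commute_iff_eq, hc1, ← commutatorElement_eq_one_iff_mul_comm]
        show ⁅τ (w1 ^ p), τ (e ^ p)⁆ = 1
        rw [← map_commutatorElement]
        exact hτ1 (hM2 (comm_mem_frn hG (h.pow_frn hw1E) (h.pow_frn hJ.emem)))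
      rw [hj] at he
      rw [hab, ← conj_mul, ← conj_zpow, ← conj_zpow, hxc1, he, hcomm.mul_zpow, ← zpow_mul, mul_assoc]
    have hstep : ∀ i : ℤ, ∃ s : ℤ, τ x ^ i * τ n * (τ x ^ i)⁻¹ = c1 ^ s * τ n := by
      intro i
      induction i using Int.induction_on with
      | zero => exact ⟨0, by simp⟩
      | succ i ih =>
        obtain ⟨s, hs⟩ := ih
        refine ⟨s + j * a, ?_⟩
        have hcx : Commute (τ x) c1 := by rw [commute_iff_eq, ← mul_inv_eq_iff_eq_mul]; exact hxc1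
        rw [show τ x ^ ((i : ℤ) + 1) * τ n * (τ x ^ ((i : ℤ) + 1))⁻¹ =
          τ x * (τ x ^ (i : ℤ) * τ n * (τ x ^ (i : ℤ))⁻¹) * (τ x)⁻¹ by group, hs, ← mul_assoc,
          (hcx.zpow_right s).eq, mul_assoc (c1 ^ s), mul_assoc (c1 ^ s), hTn, ← mul_assoc, ← zpow_add]
      | pred i ih =>
        obtain ⟨s, hs⟩ := ih
        refine ⟨s - j * a, ?_⟩
        have hcx : Commute (τ x)⁻¹ c1 := by
          refine Commute.inv_left ?_
          rw [commute_iff_eq, ← mul_inv_eq_iff_eq_mul]; exact hxc1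
        have hTn' : (τ x)⁻¹ * τ n * τ x = c1 ^ (-(j * a)) * τ n := by
          have e1 : τ n = c1 ^ (-(j * a)) * (τ x * τ n * (τ x)⁻¹) := by
            rw [hTn, ← mul_assoc, ← zpow_add, neg_add_cancel, zpow_zero, one_mul]
          conv_lhs => rw [e1, ← mul_assoc (τ x)⁻¹, (hcx.zpow_right (-(j * a))).eq]
          group
        rw [show τ x ^ (-(i : ℤ) - 1) * τ n * (τ x ^ (-(i : ℤ) - 1))⁻¹ =
          (τ x)⁻¹ * (τ x ^ (-(i : ℤ)) * τ n * (τ x ^ (-(i : ℤ)))⁻¹) * τ x by group, hs, ← mul_assoc,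
          (hcx.zpow_right s).eq, mul_assoc (c1 ^ s), mul_assoc (c1 ^ s), hTn', ← mul_assoc, ← zpow_add,
          sub_eq_add_neg]
    obtain ⟨s, hs⟩ := hstep i
    rw [map_commutatorElement, ← commutatorElement_inv]
    refine inv_mem ⟨s, ?_⟩
    show c1 ^ s = ⁅τ (x ^ i * r), τ n⁆
    rw [map_mul, map_zpow, commutatorElement_def]
    rw [show τ x ^ i * τ r * τ n * (τ x ^ i * τ r)⁻¹ * (τ n)⁻¹ =
      τ x ^ i * (τ r * τ n * (τ r)⁻¹) * (τ x ^ i)⁻¹ * (τ n)⁻¹ by group, hnr.symm.eq, mul_inv_cancel_right, hs,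
      mul_inv_cancel_right]
  have hCM : ∀ u ∈ C, ∀ g : G, ⁅u, g⁆ ∈ M := by
    intro u hu g
    obtain ⟨k, hk⟩ := mem_zpowers_iff.1 (show τ u ∈ zpowers c1 from hu)
    refine (QuotientGroup.eq_one_iff _).1 ?_
    show τ ⁅u, g⁆ = 1
    rw [map_commutatorElement, ← hk, commutatorElement_eq_one_iff_mul_comm]
    obtain ⟨i, r, hr, rfl⟩ := h.decomp hJ.xmem g
    have hcr : Commute (τ r) c1 := by
      symm
      rw [commute_iff_eq, hc1, ← commutatorElement_eq_one_iff_mul_comm, ← map_commutatorElement]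
      exact hτ1 (hM2 (hJ.comm_le_frn_frn h _ (h.pow_frn hw1E) r hr))
    have hcx : Commute (τ x) c1 := by rw [commute_iff_eq, ← mul_inv_eq_iff_eq_mul]; exact hxc1
    rw [map_mul, map_zpow]
    exact (((hcx.zpow_left i).mul_left hcr).zpow_right k).symm.eq
  have hlift : ∀ {A B : Subgroup G}, (∀ a ∈ A, ∀ g : G, ⁅a, g⁆ ∈ B) →
      ∀ {K : Subgroup (S0 ⧸ M')}, K ≤ (A.subgroupOf S0).map ψ →
      ⁅K, (⊤ : Subgroup (S0 ⧸ M'))⁆ ≤ (B.subgroupOf S0).map ψ := by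
    intro A B hAB K hK
    refine Subgroup.commutator_le.2 fun u hu v _ => ?_
    obtain ⟨a, ha, rfl⟩ := hK hu
    obtain ⟨v, rfl⟩ := QuotientGroup.mk'_surjective _ v
    rw [← map_commutatorElement]
    refine mem_map_of_mem ψ ?_
    show S0.subtype ⁅a, v⁆ ∈ B
    rw [map_commutatorElement]
    exact hAB _ ha _
  have hl1 : (⊤ : Subgroup (S0 ⧸ M')).lowerCentralSeries 1 ≤ (W.subgroupOf S0).map ψ := by
    rw [Subgroup.top_lowerCentralSeries_one]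
    haveI : ((W.subgroupOf S0).map ψ).Normal :=
      (inferInstance : (W.subgroupOf S0).Normal).map ψ (QuotientGroup.mk'_surjective _)
    refine commutator_le_of_generators (S := ψ '' (insert ⟨x, hxS⟩ {a : S0 | (a : G) ∈ H})) ?_ ?_
    · rw [← MonoidHom.map_closure]
      refine eq_top_iff.2 fun v _ => ?_
      obtain ⟨v, rfl⟩ := QuotientGroup.mk'_surjective _ v
      obtain ⟨u, hu, a, ha, hua⟩ := mem_sup_of_normal_right.1 v.2
      obtain ⟨k, rfl⟩ := mem_zpowers_iff.1 hu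
      refine mem_map_of_mem ψ ?_
      rw [show v = ⟨x, hxS⟩ ^ k * ⟨a, hHS ha⟩ from Subtype.ext (by push_cast; exact hua.symm)]
      exact mul_mem (zpow_mem (subset_closure (Set.mem_insert _ _)) k)
        (subset_closure (Set.mem_insert_of_mem _ ha))
    · rintro _ ⟨a, ha, rfl⟩ _ ⟨b, hb, rfl⟩
      rw [← map_commutatorElement]
      refine mem_map_of_mem ψ ?_
      show S0.subtype ⁅a, b⁆ ∈ W
      rw [map_commutatorElement]
      rcases ha with rfl | ha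
      · rcases hb with rfl | hb
        · rw [commutatorElement_self]; exact one_mem _
        · exact hxH hb
      · exact hJ.commH _ ha _
  have hcl : (⊤ : Subgroup (S0 ⧸ M')).lowerCentralSeries (p - 1) = ⊥ := by
    have h2 : (⊤ : Subgroup (S0 ⧸ M')).lowerCentralSeries 2 ≤ ((frn E).subgroupOf S0).map ψ := by
      rw [Subgroup.lowerCentralSeries_succ]; exact hlift hJ.commW hl1
    have h3 : (⊤ : Subgroup (S0 ⧸ M')).lowerCentralSeries 3 ≤ (C.subgroupOf S0).map ψ := by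
      rw [Subgroup.lowerCentralSeries_succ]; exact hlift hCN h2
    have h4 : (⊤ : Subgroup (S0 ⧸ M')).lowerCentralSeries 4 ≤ (M.subgroupOf S0).map ψ := by
      rw [Subgroup.lowerCentralSeries_succ]; exact hlift hCM h3
    refine eq_bot_iff.2 ((Subgroup.lowerCentralSeries_antitone _ (by have := h.five; omega)).trans
      (h4.trans ?_))
    rintro _ ⟨a, ha, rfl⟩
    exact (QuotientGroup.eq_one_iff a).2 ha
  have hexp : ∀ u ∈ commutator (S0 ⧸ M'), u ^ p = 1 := fun u hu => by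
    rw [← Subgroup.top_lowerCentralSeries_one] at hu
    obtain ⟨a, ha, rfl⟩ := hl1 hu
    rw [← map_pow]
    refine (QuotientGroup.eq_one_iff _).2 ?_
    show ((a ^ p : S0) : G) ∈ M
    rw [Subgroup.coe_pow]
    exact hσW (a : G) ha
  -- the commutator of `e` and `x ^ p`
  have hpow : τ ((w1⁻¹ * x) ^ p) = τ (w1 ^ p)⁻¹ * τ (x ^ p) := by
    have h1 := mul_pow_class_lt ((h.pgroup.to_subgroup S0).to_quotient M') hcl hexp
      (ψ ⟨w1⁻¹, hHS (inv_mem hw1H)⟩) (ψ ⟨x, hxS⟩)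
    rw [← map_mul, ← map_pow, ← map_pow, ← map_pow, ← map_mul] at h1
    have h2 : _ ∈ M' := QuotientGroup.eq.1 h1
    rw [hM', mem_subgroupOf] at h2
    push_cast at h2
    rw [← map_mul, ← inv_pow]
    exact QuotientGroup.eq.2 h2
  have hexe : e * x * e⁻¹ = w1⁻¹ * x := by rw [hw1, commutatorElement_def]; group
  have hcN : ∀ {m r : G}, m ∈ frn E → r ∈ E → Commute (τ m) (τ r) := fun hm hr => by
    rw [commute_iff_eq, ← commutatorElement_eq_one_iff_mul_comm, ← map_commutatorElement]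
    exact hτ1 (hM2 (hJ.comm_le_frn_frn h _ hm _ hr))
  have hcc : ∀ {a b r : G}, a ∈ E → b ∈ E → r ∈ E → Commute (τ ⁅a, b⁆) (τ r) :=
    fun ha hb hr => hcN (h.comm_frn ha hb) hr
  have hmulL : ∀ {a b r : G}, a ∈ E → b ∈ E → r ∈ E → τ ⁅a * b, r⁆ = τ ⁅a, r⁆ * τ ⁅b, r⁆ := by
    intro a b r ha hb hr
    rw [show ⁅a * b, r⁆ = a * ⁅b, r⁆ * a⁻¹ * ⁅a, r⁆ by simp only [commutatorElement_def]; group, map_mul,
      map_mul, map_mul, map_inv, ← (hcc hb hr ha).eq, mul_inv_cancel_right, (hcc hb hr ?_).eq]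
    exact frn_le E (h.comm_frn ha hr)
  have hmulR : ∀ {a b r : G}, a ∈ E → b ∈ E → r ∈ E → τ ⁅a, b * r⁆ = τ ⁅a, b⁆ * τ ⁅a, r⁆ := by
    intro a b r ha hb hr
    rw [show ⁅a, b * r⁆ = ⁅a, b⁆ * (b * ⁅a, r⁆ * b⁻¹) by simp only [commutatorElement_def]; group, map_mul,
      map_mul, map_mul, map_inv, ← (hcc ha hr hb).eq, mul_inv_cancel_right]
  have hn1 : ∀ {m r : G}, m ∈ frn E → r ∈ E → τ ⁅m, r⁆ = 1 ∧ τ ⁅r, m⁆ = 1 := fun hm hr => by
    constructor <;> rw [map_commutatorElement, commutatorElement_eq_one_iff_mul_comm]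
    · exact (hcN hm hr).eq
    · exact (hcN hm hr).symm.eq
  have hzp : ∀ {a r : G}, a ∈ E → r ∈ E → ∀ k : ℤ, τ ⁅a ^ k, r⁆ = τ ⁅a, r⁆ ^ k := by
    intro a r ha hr k
    let f : E →* G ⧸ M := MonoidHom.mk' (fun u => τ ⁅(u : G), r⁆) fun u v => hmulL u.2 v.2 hr
    exact map_zpow f ⟨a, ha⟩ k
  have hewd : τ ⁅w2, e⁆ ^ d = c1 := by
    have h1 : τ (e * x ^ p * e⁻¹) = τ (w1 ^ p)⁻¹ * τ (x ^ p) := by rw [← conj_pow, hexe, hpow]
    rw [show e * x ^ p * e⁻¹ = ⁅e, x ^ p⁆ * x ^ p by simp only [commutatorElement_def]; group, map_mul] at h1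
    have h2 : τ ⁅x ^ p, e⁆ = c1 := by
      rw [← commutatorElement_inv, map_inv, mul_right_cancel h1, map_inv, inv_inv]
    rw [show x ^ p = w2 ^ d * ((w2 ^ d)⁻¹ * x ^ p) by group, hmulL (zpow_mem hw2E d) (frn_le E hd') hJ.emem,
      (hn1 hd' hJ.emem).1, mul_one, hzp hw2E hJ.emem] at h2
    exact h2
  have hd0 : (d : ZMod p) ≠ 0 := fun h0 => hc10 (by
    rw [← hewd, LineTorus.zpow_congr (x := τ ⁅w2, e⁆) (r := d) (s := 0) (by
      rw [← map_pow]; exact hτ1 (hM2 (pow_mem_frn hG (h.comm_frn hw2E hJ.emem)))) (by simpa using h0), zpow_zero])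
  refine ⟨hd0, ?_⟩
  obtain ⟨n, hnN, hn⟩ : ∃ n ∈ frn E, x * w2 * x⁻¹ = n * w2 :=
    ⟨⁅x, w2⁆, by rw [← commutatorElement_inv]; exact inv_mem (hJ.commW w2 hw2W x),
      by rw [commutatorElement_def, inv_mul_cancel_right]⟩
  have hT1 : x * e * x⁻¹ = w1 * e := by rw [hw1, commutatorElement_def, inv_mul_cancel_right]
  have hT2 : x * w1 * x⁻¹ = w2 * w1 := by rw [hw2, commutatorElement_def, inv_mul_cancel_right]
  have hTc : ∀ a b : G, τ x * τ ⁅a, b⁆ * (τ x)⁻¹ = τ ⁅x * a * x⁻¹, x * b * x⁻¹⁆ := fun a b => by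
    rw [← map_inv, ← map_mul, ← map_mul]
    congr 1
    simp only [commutatorElement_def]; group
  have hTw2e : τ x * τ ⁅w2, e⁆ * (τ x)⁻¹ = τ ⁅w2, w1⁆ * τ ⁅w2, e⁆ := by
    rw [hTc, hn, hT1, hmulL (frn_le E hnN) hw2E (mul_mem hw1E hJ.emem), (hn1 hnN (mul_mem hw1E hJ.emem)).1,
      one_mul, hmulR hw2E hw1E hJ.emem]
  have hcp : ∀ {a b : G}, a ∈ E → b ∈ E → τ ⁅a, b⁆ ^ p = 1 := fun ha hb => by
    rw [← map_pow]; exact hτ1 (hM2 (pow_mem_frn hG (h.comm_frn ha hb)))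
  have h21 : τ ⁅w2, w1⁆ = 1 := by
    have h1 := congrArg (· ^ d) hTw2e
    rw [conj_zpow, hewd, hxc1, Commute.mul_zpow (hcN (h.comm_frn hw2E hw1E)
      (frn_le E (h.comm_frn hw2E hJ.emem))), hewd] at h1
    have h2 : τ ⁅w2, w1⁆ ^ d = 1 := mul_eq_right.1 h1.symm
    rw [← map_zpow] at h2
    refine hτ1 (mem_of_zpow_mem (p := p) ?_ ((QuotientGroup.eq_one_iff _).1 h2) hd0)
    exact hM2 (pow_mem_frn hG (h.comm_frn hw2E hw1E))
  obtain ⟨α, β, hαβ⟩ := hNgen _ (h.comm_frn hw1E hJ.emem)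
  have hTw1e : τ x * τ ⁅w1, e⁆ * (τ x)⁻¹ = τ ⁅w2, e⁆ * τ ⁅w1, e⁆ := by
    rw [hTc, hT2, hT1, hmulL hw2E hw1E (mul_mem hw1E hJ.emem), hmulR hw2E hw1E hJ.emem,
      hmulR hw1E hw1E hJ.emem, h21, commutatorElement_self, map_one, one_mul, one_mul]
  have hpie : τ x * π ⟨e, hJ.emem⟩ * (τ x)⁻¹ = c1 * π ⟨e, hJ.emem⟩ := by
    rw [hTπ]; congr 1
    show τ (⁅x, e⁆ ^ p) = c1
    rw [hc1, hw1]
  have hce : Commute c1 (π ⟨e, hJ.emem⟩) := hcN (h.pow_frn hw1E) (frn_le E (h.pow_frn hJ.emem))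
  rw [hαβ, ← conj_mul, ← conj_zpow, ← conj_zpow, hxc1, hpie, hce.mul_zpow, mul_assoc] at hTw1e
  have h2e : τ ⁅w2, e⁆ = c1 ^ α := (mul_right_cancel hTw1e).symm
  have hαd : ((α * d : ℤ) : ZMod p) = 1 := by
    have h1 : c1 ^ (α * d) = c1 := by rw [zpow_mul, ← h2e, hewd]
    have h3 := hcast (k := α * d - 1) (by rw [zpow_sub, h1, zpow_one, mul_inv_cancel])
    push_cast at h3 ⊢
    exact sub_eq_zero.1 h3
  have hkey : τ ((⁅w1, e⁆ ^ d)⁻¹ * e ^ p) = c1 ^ (-(β * d)) := by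
    rw [map_mul, map_inv, map_zpow, hαβ, ((hce.symm.zpow_zpow α β)).mul_zpow, ← zpow_mul, ← zpow_mul,
      LineTorus.zpow_congr (x := π ⟨e, hJ.emem⟩) (p := p) (r := α * d) (s := 1) (by
        rw [← map_pow]; exact hτ1 (hM2 (pow_mem_frn hG (h.pow_frn hJ.emem)))) (by push_cast at hαd ⊢; exact hαd),
      zpow_one, mul_inv_rev, zpow_neg]
    exact inv_mul_cancel_right _ _
  rw [hc1, ← map_zpow] at hkey
  have hMH : M ≤ frn H := fun a ha => by
    obtain ⟨k, hk⟩ := mem_zpowers_iff.1 (show σ a ∈ zpowers (σ (w2 ^ p)) from ha)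
    rw [← map_zpow] at hk
    have := mul_mem (zpow_mem (pow_mem_frn hG (hJ.WH hw2W)) k)
      (frn_mono hG (hJ.nW.trans hJ.WH) (QuotientGroup.eq.1 hk))
    rwa [mul_inv_cancel_left] at this
  have := mul_mem (zpow_mem (pow_mem_frn hG hw1H) (-(β * d))) (hMH (QuotientGroup.eq.1 hkey.symm))
  rwa [mul_inv_cancel_left] at this

end CfsgLib.Fusion.RankThree
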