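import Cfsg.Agent.Lib.Fusion.System.RankThree.JPowers

/-!
# The last layer of `p`-th powers

In the irreducible case with `E` not elementary the last nontrivial term of the series of `p`-th
powers of `E` is elementary of order `p ^ 3` and central in `E`.
-/

set_option autoImplicit false
set_option linter.style.haveILetI false
set_option linter.unusedSectionVars false

open Subgroup
open scoped commutatorElement

namespace CfsgLib.Fusion.RankThree

universe u

variable {G : Type u} [Group G] [Finite G] {p : ℕ} [Fact p.Prime]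
  {E : Subgroup G} [E.Normal] {X : Subgroup (MulAut E)} {Γ : Subgroup (MulAut G)}
  {x e : G} {H W : Subgroup G}

/-- The iterated subgroups of `p`-th powers. -/
def lay (p : ℕ) (E : Subgroup G) : ℕ → Subgroup G
  | 0 => E
  | k + 1 => epow p (lay p E k)

theorem lay_succ (k : ℕ) : lay p E (k + 1) = epow p (lay p E k) := rfl

theorem lay_le (k : ℕ) : lay p E k ≤ E := by
  induction k with
  | zero => exact le_rfl
  | succ k ih => exact (epow_le _).trans ih

theorem pow_mem_lay {j k : ℕ} {a : G} (ha : a ∈ lay p E j) : a ^ p ^ k ∈ lay p E (j + k) := by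
  induction k with
  | zero => simpa using ha
  | succ k ih =>
    rw [pow_succ, pow_mul]
    exact pow_mem_epow ih

theorem Top.invE_lay (h : Top p E X Γ) (k : ℕ) : InvE X (lay p E k) := by
  induction k with
  | zero => exact fun α _ r _ => (α r).2
  | succ k ih =>
    refine invE_of_le (lay_le (k + 1)) fun α hα => (closure_le _).2 ?_
    rintro _ ⟨r, rfl⟩
    refine ⟨⟨(r : G), lay_le k r.2⟩ ^ p, ?_, Subgroup.coe_pow _ _ _⟩
    show ((α (⟨(r : G), lay_le k r.2⟩ ^ p) : E) : G) ∈ epow p (lay p E k)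
    rw [map_pow, Subgroup.coe_pow]
    exact pow_mem_epow (ih α hα ⟨(r : G), lay_le k r.2⟩ r.2)

theorem Top.lay_normal (h : Top p E X Γ) (k : ℕ) : (lay p E k).Normal :=
  h.invE_normal (lay_le k) (h.invE_lay k)

theorem Top.lay_succ_le_frn (h : Top p E X Γ) (k : ℕ) : lay p E (k + 1) ≤ frn (lay p E k) :=
  (closure_le _).2 (by rintro _ ⟨r, rfl⟩; exact pow_mem_frn h.pgroup r.2)

theorem Top.lay_eventually_bot (h : Top p E X Γ) : ∃ k, lay p E k = ⊥ := by
  by_contra hall
  push Not at hall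
  have hdec : ∀ k, Nat.card (lay p E k) + k ≤ Nat.card E := by
    intro k
    induction k with
    | zero => exact le_rfl
    | succ k ih =>
      haveI : Nontrivial (lay p E k) := (lay p E k).nontrivial_iff_ne_bot.2 (hall k)
      have hlt : lay p E (k + 1) < lay p E k := by
        refine lt_of_le_of_ne (epow_le _) fun e' => ?_
        have h1 : (⊤ : Subgroup (lay p E k)) ≤ frattini (lay p E k) := fun r _ => by
          have h2 := h.lay_succ_le_frn k (e'.ge r.2)
          exact mem_frn.1 h2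
        obtain ⟨M, hM, -⟩ := (eq_top_or_exists_le_coatom (⊥ : Subgroup (lay p E k))).resolve_left bot_ne_top
        exact hM.1 (eq_top_iff.2 (h1.trans (frattini_le_coatom hM)))
      have hc : Nat.card (lay p E (k + 1)) < Nat.card (lay p E k) := by
        by_contra hge
        exact hlt.ne (eq_of_le_of_card_ge hlt.le (not_lt.1 hge))
      omega
  have := hdec (Nat.card E + 1)
  omega

section Powerful

variable (h : Top p E X Γ) (hE : frn E ≤ epow p E)
include h hE

theorem Top.lay_comm (k : ℕ) : ∀ a ∈ lay p E k, ∀ r ∈ E, ⁅a, r⁆ ∈ lay p E (k + 1) := by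
  induction k with
  | zero => exact fun a ha r hr => hE (h.comm_frn ha hr)
  | succ k ih =>
    have hG := h.pgroup
    haveI := h.lay_normal (k + 1)
    haveI := h.lay_normal (k + 2)
    set R2 := lay p E (k + 2) ⊔ ⁅⁅lay p E (k + 1), E⁆, (⊤ : Subgroup G)⁆ with hR2
    set σ := QuotientGroup.mk' R2 with hσ
    have hσ1 : ∀ {a : G}, a ∈ lay p E (k + 2) → σ a = 1 := fun ha =>
      (QuotientGroup.eq_one_iff _).2 (mem_sup_left ha)
    have hcen : ∀ {u : G}, u ∈ ⁅lay p E (k + 1), E⁆ → ∀ g : G, Commute (σ u) (σ g) := fun {u} hu g => by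
      rw [commute_iff_eq, ← commutatorElement_eq_one_iff_mul_comm, ← map_commutatorElement]
      exact (QuotientGroup.eq_one_iff _).2 (mem_sup_right (commutator_mem_commutator hu (mem_top g)))
    have hkey : ∀ y ∈ lay p E k, ∀ z ∈ E, Commute (σ (y ^ p)) (σ z) := by
      intro y hy z hz
      obtain ⟨v, hvN, hv⟩ : ∃ v ∈ lay p E (k + 1), z * y * z⁻¹ = v * y :=
        ⟨⁅z, y⁆, by rw [← commutatorElement_inv]; exact inv_mem (ih y hy z hz),
          by rw [commutatorElement_def, inv_mul_cancel_right]⟩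
      obtain ⟨c, hc⟩ : ∃ c, c = ⁅y, v⁆ := ⟨_, rfl⟩
      have hcm : c ∈ ⁅lay p E (k + 1), E⁆ := by
        rw [hc, ← commutatorElement_inv]; exact inv_mem (commutator_mem_commutator hvN (lay_le k hy))
      have hswap : σ y * σ v = σ c * (σ v * σ y) := by
        rw [← map_mul, ← map_mul, ← map_mul, hc, commutatorElement_def]; congr 1; group
      have hvp : σ v ^ p = 1 := by rw [← map_pow]; exact hσ1 (pow_mem_epow hvN)
      have hconj : σ y * σ v * (σ y)⁻¹ = σ c * σ v := by rw [hswap, mul_assoc, mul_inv_cancel_right]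
      have hcp : σ c ^ p = 1 := by
        have h1 := congrArg (· ^ p) hconj
        simp only [conj_pow, hvp, mul_one, mul_inv_cancel, (hcen hcm v).mul_pow] at h1
        exact h1.symm
      have h2 : σ (z * y * z⁻¹) ^ p = σ y ^ p := by
        rw [hv, map_mul, mul_pow_eq_of_central_commutator Fact.out h.odd hswap (hcen hcm v) (hcen hcm y) hcp,
          hvp, one_mul]
      rw [map_mul, map_mul, map_inv, conj_pow, ← map_pow] at h2
      exact (mul_inv_eq_iff_eq_mul.1 h2).symm
    have hle : ⁅lay p E (k + 1), E⁆ ≤ R2 := by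
      refine commutator_le.2 fun n hn r hr => (QuotientGroup.eq_one_iff _).1 ?_
      show σ ⁅n, r⁆ = 1
      rw [map_commutatorElement, commutatorElement_eq_one_iff_mul_comm]
      have hmem : lay p E (k + 1) ≤ (centralizer {σ r}).comap σ := (closure_le _).2 (by
        rintro _ ⟨y, rfl⟩
        exact mem_centralizer_singleton_iff.2 (hkey y y.2 r hr).eq)
      exact mem_centralizer_singleton_iff.1 (hmem hn)
    intro n hn r hr
    exact le_of_le_sup_commutator hG hle (commutator_mem_commutator hn hr)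

theorem Top.lay_mul_pow {k : ℕ} {a b : G} (ha : a ∈ lay p E k) (hb : b ∈ lay p E k) :
    ((a * b) ^ p)⁻¹ * (a ^ p * b ^ p) ∈ lay p E (k + 2) := by
  haveI := h.lay_normal (k + 2)
  set σ := QuotientGroup.mk' (lay p E (k + 2)) with hσ
  refine QuotientGroup.eq.1 ?_
  show σ ((a * b) ^ p) = σ (a ^ p * b ^ p)
  have hc : ∀ y ∈ E, Commute (σ ⁅b, a⁆) (σ y) := fun y hy => by
    rw [commute_iff_eq, ← commutatorElement_eq_one_iff_mul_comm, ← map_commutatorElement]
    exact (QuotientGroup.eq_one_iff _).2 (h.lay_comm hE (k + 1) _ (h.lay_comm hE k b hb a (lay_le k ha)) y hy)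
  rw [map_pow, map_mul, map_mul, map_pow, map_pow]
  refine mul_pow_eq_of_central_commutator Fact.out h.odd ?_ (hc a (lay_le k ha)) (hc b (lay_le k hb)) ?_
  · rw [← map_mul, ← map_mul, ← map_mul, commutatorElement_def]; congr 1; group
  · rw [← map_pow]
    exact (QuotientGroup.eq_one_iff _).2 (pow_mem_epow (h.lay_comm hE k b hb a (lay_le k ha)))

theorem Top.lay_pow_congr {k : ℕ} {a b : G} (ha : a ∈ lay p E k) (hab : a⁻¹ * b ∈ lay p E (k + 1)) :
    (a ^ p)⁻¹ * b ^ p ∈ lay p E (k + 2) := by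
  haveI := h.lay_normal (k + 2)
  have h1 := h.lay_mul_pow hE (k := k) ha (epow_le _ hab)
  rw [mul_inv_cancel_left] at h1
  refine QuotientGroup.eq.1 ?_
  have h2 : ((b ^ p : G) : G ⧸ lay p E (k + 2)) = ((a ^ p * (a⁻¹ * b) ^ p : G) : G ⧸ lay p E (k + 2)) :=
    QuotientGroup.eq.2 h1
  rw [h2, QuotientGroup.mk_mul,
    (QuotientGroup.eq_one_iff (N := lay p E (k + 2)) ((a⁻¹ * b) ^ p)).2 (pow_mem_epow hab : (a⁻¹ * b) ^ p ∈ lay p E (k + 2)), mul_one]

theorem Top.lay_pow_hom (k : ℕ) : ∀ a ∈ E, ∀ b ∈ E,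
    ((a * b) ^ p ^ k)⁻¹ * (a ^ p ^ k * b ^ p ^ k) ∈ lay p E (k + 1) := by
  induction k with
  | zero =>
    intro a _ b _
    simp
  | succ k ih =>
    intro a ha b hb
    haveI := h.lay_normal (k + 2)
    have hm : ∀ {r : G}, r ∈ E → r ^ p ^ k ∈ lay p E k := fun {r} hr => by
      have := pow_mem_lay (p := p) (E := E) (j := 0) (k := k) hr
      rwa [Nat.zero_add] at this
    have h1 := h.lay_pow_congr hE (hm (mul_mem ha hb)) (ih a ha b hb)
    have h2 := h.lay_mul_pow hE (hm ha) (hm hb)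
    rw [pow_succ, pow_mul, pow_mul, pow_mul]
    refine QuotientGroup.eq.1 ?_
    exact (QuotientGroup.eq.2 h1).trans (QuotientGroup.eq.2 h2)

theorem Top.lay_surj (k : ℕ) : ∀ l ∈ lay p E k, ∃ r ∈ E, l⁻¹ * r ^ p ^ k ∈ lay p E (k + 1) := by
  induction k with
  | zero => exact fun l hl => ⟨l, hl, by simp⟩
  | succ k ih =>
    haveI := h.lay_normal (k + 2)
    let U : Subgroup G :=
      { carrier := {l | ∃ r ∈ E, l⁻¹ * r ^ p ^ (k + 1) ∈ lay p E (k + 2)}
        one_mem' := ⟨1, one_mem E, by simp⟩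
        mul_mem' := by
          rintro l m ⟨r, hr, hrl⟩ ⟨s, hs, hsm⟩
          refine ⟨r * s, mul_mem hr hs, QuotientGroup.eq.1 ?_⟩
          rw [QuotientGroup.mk_mul, QuotientGroup.eq.2 hrl, QuotientGroup.eq.2 hsm, ← QuotientGroup.mk_mul]
          exact (QuotientGroup.eq.2 (h.lay_pow_hom hE (k + 1) r hr s hs)).symm
        inv_mem' := by
          rintro l ⟨r, hr, hrl⟩
          refine ⟨r⁻¹, inv_mem hr, QuotientGroup.eq.1 ?_⟩
          rw [inv_pow, QuotientGroup.mk_inv, QuotientGroup.mk_inv, QuotientGroup.eq.2 hrl] }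
    have hle : lay p E (k + 1) ≤ U := (closure_le _).2 (by
      rintro _ ⟨l, rfl⟩
      obtain ⟨r, hr, hrl⟩ := ih (l : G) l.2
      exact ⟨r, hr, by rw [pow_succ, pow_mul]; exact h.lay_pow_congr hE l.2 hrl⟩)
    exact fun l hl => hle hl

end Powerful

/-- The last layer. -/
theorem JData.exists_layer (h : Top p E X Γ) (hJ : JData p E x e H W) (hN : frn E ≠ ⊥)
    (hcard : Nat.card E = p ^ 3 * Nat.card (frn E)) :
    ∃ M : Subgroup G, M ≤ frn E ∧ InvE X M ∧ Nat.card M = p ^ 3 ∧ (∀ a ∈ M, a ^ p = 1) ∧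
      ∀ a ∈ M, ∀ r ∈ E, Commute a r := by
  classical
  have hE := hJ.frn_le_epow h
  obtain ⟨n, hn⟩ := h.lay_eventually_bot
  have hex : ∃ n, lay p E n = ⊥ := ⟨n, hn⟩
  have h1N : lay p E 1 = frn E := le_antisymm (h.lay_succ_le_frn 0) hE
  have h2 : 2 ≤ Nat.find hex := by
    by_contra hlt
    have h0 := Nat.find_spec hex
    rcases (show Nat.find hex = 0 ∨ Nat.find hex = 1 by omega) with e' | e' <;> rw [e'] at h0
    · exact hN (le_bot_iff.1 ((frn_le E).trans h0.le))
    · exact hN (h1N ▸ h0)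
  obtain ⟨m, hm⟩ : ∃ m, Nat.find hex = m + 1 := ⟨Nat.find hex - 1, by omega⟩
  have hbot : lay p E (m + 1) = ⊥ := hm ▸ Nat.find_spec hex
  have hMne : lay p E m ≠ ⊥ := Nat.find_min hex (by omega)
  set M := lay p E m with hM
  have hMN : M ≤ frn E := by
    have hanti : ∀ j, lay p E (1 + j) ≤ lay p E 1 := fun j => by
      induction j with
      | zero => exact le_rfl
      | succ j ih => exact (epow_le _).trans ih
    rw [← h1N]
    have := hanti (m - 1)
    rwa [show 1 + (m - 1) = m by omega] at this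
  have h1 : ∀ {y : G}, y ∈ lay p E (m + 1) → y = 1 := fun hy => by rwa [hbot, mem_bot] at hy
  let φ : E →* G := MonoidHom.mk' (fun r : E => (r : G) ^ p ^ m) fun r s =>
    inv_mul_eq_one.1 (h1 (h.lay_pow_hom hE m _ r.2 _ s.2))
  have hrange : φ.range = M := by
    refine le_antisymm ?_ fun l hl => ?_
    · rintro _ ⟨r, rfl⟩
      have := pow_mem_lay (p := p) (E := E) (j := 0) (k := m) r.2
      rwa [Nat.zero_add] at this
    · obtain ⟨r, hr, hrl⟩ := h.lay_surj hE m l hl
      exact ⟨⟨r, hr⟩, (inv_mul_eq_one.1 (h1 hrl)).symm⟩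
  refine ⟨M, hMN, h.invE_lay m, ?_, fun a ha => h1 (pow_mem_epow ha), fun a ha r hr =>
    commutatorElement_eq_one_iff_mul_comm.1 (h1 (h.lay_comm hE m a ha r hr))⟩
  have hmem : ∀ {r : E}, (r : G) ∈ φ.ker.map E.subtype ↔ (r : G) ^ p ^ m = 1 := fun {r} =>
    ⟨fun ⟨s, hs, hsr⟩ => by rw [← (Subtype.ext hsr : s = r)]; exact hs, fun hr => ⟨r, hr, rfl⟩⟩
  have hNK : frn E ≤ φ.ker.map E.subtype := fun r hr => by
    refine ⟨⟨r, frn_le E hr⟩, ?_, rfl⟩
    have := pow_mem_lay (p := p) (E := E) (j := 1) (k := m) (h1N.ge hr)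
    rw [add_comm 1 m] at this
    exact h1 this
  have hinv : InvE X (φ.ker.map E.subtype) := fun α _ r hr => hmem.2 (by
    have h5 : r ^ p ^ m = 1 := Subtype.ext (by rw [Subgroup.coe_pow]; exact hmem.1 hr)
    rw [← Subgroup.coe_pow, ← map_pow, h5, map_one]
    rfl)
  rcases hJ.inv_eq h hNK (map_subtype_le _) hinv with e' | e'
  · have h4 := φ.ker.card_mul_index
    rw [Subgroup.index_ker, hrange, ← card_map_of_injective (K := φ.ker) E.subtype_injective, e', hcard,
      mul_comm (p ^ 3)] at h4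
    exact Nat.eq_of_mul_eq_mul_left Nat.card_pos h4
  · exfalso
    refine hMne (le_bot_iff.1 (hrange ▸ ?_))
    rintro _ ⟨r, rfl⟩
    exact mem_bot.2 (hmem.1 (e'.ge r.2))

end CfsgLib.Fusion.RankThree
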