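import Cfsg.Agent.Lib.Fusion.System.RankThree.MaxClassFourth
import Cfsg.Agent.Lib.Fusion.System.RankThree.Over

/-!
# No escape over the group of order `p⁴`, exponent `p` and maximal class

The escaping element can be chosen to centralize the abelian maximal subgroup, and the weights of a
torus make it of order `p`.
-/

set_option autoImplicit false
set_option linter.style.haveILetI false
set_option linter.unusedSectionVars false

open Subgroup
open scoped commutatorElement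

namespace CfsgLib.Fusion.RankThree

open CfsgLib.Fusion.LineTorus (Sec setStab exists_wt zpow_congr pGen_fix le_pGen)

universe u v

variable {G : Type u} [Group G] [Finite G] {R : Type v} [Group R] [Finite R] {p : ℕ} [Fact p.Prime]
  {E : Subgroup G} [E.Normal] {Γ : Subgroup (MulAut G)} {ι : G →* R} {c : R →* MulAut G} {x e : G}

theorem Over.false_of_mdata (hO : Over p E Γ ι c) (h : MData p E x e) {β : MulAut G}
    (hβ : β ∈ Γ) {a b : ℤ} (hab : ((a * b : ℤ) : ZMod p) = 1) (hb2 : (b : ZMod p) ^ 2 ≠ 1)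
    (hb3 : (b : ZMod p) ^ 3 ≠ 1) (hb5 : (b : ZMod p) ^ 5 ≠ 1) (hβx : (x ^ (b * b))⁻¹ * β x ∈ E)
    (hβe : (e ^ a)⁻¹ * β e ∈ commutator G) : False := by
  have hp := (Fact.out : p.Prime)
  have hab' : (a : ZMod p) * (b : ZMod p) = 1 := by push_cast at hab; exact hab
  have hG := h.pgroup
  have hzc : ∀ γ : MulAut G, ∀ y ∈ commutator G, γ y ∈ commutator G := fun γ y hy =>
    characteristic_iff_map_le.1 (inferInstance : (commutator G).Characteristic) γ ⟨y, hy, rfl⟩
  obtain ⟨g, hg, hx1E', D, hx1D', hZD, hcD, hDinv, hDfix, hDtop, hidx, hgp⟩ :=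
    hO.exists_line inferInstance h.commutator_le (fun r => hzc _) h.card_eq h.emem
      (fun y hy => h.gen_commutator hy)
  obtain ⟨x1, hx1⟩ : ∃ x1, x1 = c g e * e⁻¹ := ⟨_, rfl⟩
  rw [← hx1] at hx1E' hx1D'
  have hge : c g e = x1 * e := by rw [hx1, inv_mul_cancel_right]
  obtain ⟨w, hw⟩ : ∃ w, w = ⁅x, e⁆ := ⟨_, rfl⟩
  have hwZ : w ∈ commutator G := by
    rw [hw, _root_.commutator_def]; exact commutator_mem_commutator (mem_top _) (mem_top _)
  have hZw : ∀ y ∈ commutator G, Commute y w := fun y hy => by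
    obtain ⟨i, l, rfl⟩ := h.mem_commutator_gen hy
    rw [hw]
    exact ((Commute.refl _).zpow_left i).mul_left ((h.d_comm _).zpow_right l).symm
  have hDgen : ∀ y ∈ D, ∃ i : ℤ, (x1 ^ i)⁻¹ * y ∈ commutator G := fun y hy =>
    exists_zpow_inv_mul_mem hG hZD hcD hx1D' (fun hm => hx1E' (h.commutator_le hm)) hy
  set π := QuotientGroup.mk' (commutator G) with hπ
  have hπc : ∀ γ : MulAut G, ∀ {y y' : G}, π y = π y' → π (γ y) = π (γ y') := fun γ {y y'} hyy => by
    refine QuotientGroup.eq.2 ?_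
    rw [← map_inv, ← map_mul]
    exact hzc γ _ (QuotientGroup.eq.1 hyy)
  have hπcomm : ∀ u t : G, Commute (π u) (π t) := fun u t => by
    rw [commute_iff_eq, ← commutatorElement_eq_one_iff_mul_comm, ← map_commutatorElement]
    exact (QuotientGroup.eq_one_iff _).2 (by
      rw [_root_.commutator_def]; exact commutator_mem_commutator (mem_top u) (mem_top t))
  have hπ1 : ∀ {y : G}, y ∈ commutator G → π y = 1 := fun hy => (QuotientGroup.eq_one_iff _).2 hy
  -- the moved element centralizes `w`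
  have hx1w : Commute x1 w := by
    obtain ⟨A, r, hr, hx1r⟩ := h.decomp x1
    obtain ⟨j, hj⟩ := h.gen_commutator hr
    have hrj : r = e ^ j * ((e ^ j)⁻¹ * r) := by group
    by_cases hj0 : (j : ZMod p) = 0
    · rw [h.congr e (r := j) (s := 0) (by simpa using hj0), zpow_zero, inv_one, one_mul] at hj
      rw [hx1r, hw]
      exact (h.xw.zpow_left A).mul_left (hw ▸ hZw r hj)
    exfalso
    have hfixx : π (c g x) = π x := by
      obtain ⟨k, hk⟩ := hDgen _ (hDtop g x)
      have hxw' : Commute (x⁻¹ * c g x) w := by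
        rw [hw]; exact h.xw.inv_left.mul_left (h.commute_apply _ h.xw)
      have h1 : Commute (x1 ^ k) w := by
        have h2 := hxw'.mul_left (hZw _ hk).inv_left
        rwa [mul_inv_rev, inv_inv, mul_inv_cancel_left] at h2
      have hk0 : (k : ZMod p) = 0 := by
        by_contra hk0
        have h3 : x1 ∈ centralizer ({w} : Set G) :=
          mem_of_zpow_mem (p := p) (by rw [h.exp]; exact one_mem _) (mem_centralizer_singleton_iff.2 h1.eq) hk0
        have h4 : Commute r w := by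
          have h5 : Commute x1 w := mem_centralizer_singleton_iff.1 h3
          have h6 := ((hw ▸ h.xw : Commute x w).zpow_left A).inv_left.mul_left h5
          rwa [hx1r, inv_mul_cancel_left] at h6
        have h7 := h.mem_of_commute hr (hw ▸ h4)
        refine hj0 (h.cast_mem h.e_notMem ?_)
        have := mul_mem h7 (inv_mem hj)
        rwa [mul_inv_rev, inv_inv, mul_inv_cancel_left] at this
      rw [h.congr x1 (r := k) (s := 0) (by simpa using hk0), zpow_zero, inv_one, one_mul] at hk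
      exact (QuotientGroup.eq.2 hk).symm
    have hπx1 : π x1 = π x ^ A * π e ^ j := by
      rw [hx1r, map_mul, map_zpow, hrj, map_mul, map_zpow, hπ1 hj, mul_one]
    have h1 : π (c g x1) = π x1 := (QuotientGroup.eq.2 (hDfix g x1 hx1D')).symm
    rw [hπc (c g) (y := x1) (y' := x ^ A * e ^ j) (by rw [map_mul π, map_zpow π, map_zpow π]; exact hπx1),
      map_mul, map_zpow, map_zpow, map_mul, map_zpow, map_zpow, hfixx, hge, map_mul,
      (hπcomm x1 e).mul_zpow, ((hπcomm x1 e).zpow_zpow j j).eq, ← mul_assoc, ← hπx1] at h1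
    have h2 : x1 ^ j ∈ commutator G := (QuotientGroup.eq_one_iff _).1 (show π (x1 ^ j) = 1 by
      rw [map_zpow]; exact mul_eq_left.1 h1)
    exact hj0 (h.cast_mem hx1E' (h.commutator_le h2))
  -- change `x` to `x₁`
  obtain ⟨A, r, hr, hx1r⟩ := h.decomp x1
  have hA0 : (A : ZMod p) ≠ 0 := fun h0 => hx1E' (by
    rw [hx1r, h.congr x (r := A) (s := 0) (by simpa using h0), zpow_zero, one_mul]; exact hr)
  have hrZ : r ∈ commutator G := h.mem_of_commute hr (by
    have h6 := (h.xw.zpow_left A).inv_left.mul_left (hw ▸ hx1w)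
    rwa [hx1r, inv_mul_cancel_left] at h6)
  haveI := h.d_normal
  obtain ⟨d0, hd0⟩ : ∃ d0, d0 = ⁅e, ⁅x, e⁆⁆ := ⟨_, rfl⟩
  set ρ := QuotientGroup.mk' (zpowers ⁅e, ⁅x, e⁆⁆) with hρ
  have hρc : ∀ y ∈ commutator G, ∀ g : G, Commute (ρ y) (ρ g) := fun y hy g => by
    symm
    rw [commute_iff_eq, ← commutatorElement_eq_one_iff_mul_comm, ← map_commutatorElement]
    exact (QuotientGroup.eq_one_iff _).2 (h.comm_commutator hy g)
  have hccρ : ∀ u : G ⧸ zpowers ⁅e, ⁅x, e⁆⁆, ∀ t, ⁅u, t⁆ ∈ center (G ⧸ zpowers ⁅e, ⁅x, e⁆⁆) := fun u t => by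
    obtain ⟨u, rfl⟩ := QuotientGroup.mk'_surjective _ u
    obtain ⟨t, rfl⟩ := QuotientGroup.mk'_surjective _ t
    rw [← map_commutatorElement, mem_center_iff]
    intro g
    obtain ⟨g, rfl⟩ := QuotientGroup.mk'_surjective _ g
    exact (hρc _ (by rw [_root_.commutator_def]; exact commutator_mem_commutator (mem_top _) (mem_top _)) g).symm.eq
  have hbilin : ∀ (i k : ℤ) (z u : G), z ∈ commutator G → Commute (ρ u) (ρ x) → 
      ρ ⁅x ^ i * z, e ^ k * u⁆ = ρ ⁅x, e⁆ ^ (k * i) := by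
    intro i k z u hz hux
    rw [map_commutatorElement, map_mul, map_mul, map_zpow, map_zpow]
    show commHom (ρ e ^ k * ρ u) (fun v => hccρ v _) (ρ x ^ i * ρ z) = _
    rw [map_mul, map_zpow, show commHom (ρ e ^ k * ρ u) (fun v => hccρ v _) (ρ z) = 1 from
      commutatorElement_eq_one_iff_mul_comm.2 (by rw [← map_zpow, ← map_mul]; exact (hρc z hz _).eq), mul_one]
    show ⁅ρ x, ρ e ^ k * ρ u⁆ ^ i = _
    rw [← commutatorElement_inv (ρ e ^ k * ρ u) (ρ x)]
    show ((commHom (ρ x) (fun v => hccρ v _) (ρ e ^ k * ρ u))⁻¹) ^ i = _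
    rw [map_mul, map_zpow, show commHom (ρ x) (fun v => hccρ v _) (ρ u) = 1 from
      commutatorElement_eq_one_iff_mul_comm.2 hux.eq, mul_one]
    show ((⁅ρ e, ρ x⁆ ^ k)⁻¹) ^ i = _
    rw [← inv_zpow, commutatorElement_inv, ← map_commutatorElement, zpow_mul]
  obtain ⟨w1, hw1⟩ : ∃ w1, w1 = ⁅x1, e⁆ := ⟨_, rfl⟩
  have hw1ρ : ρ w1 = ρ w ^ A := by
    have := hbilin A 1 r 1 hrZ (by rw [map_one]; exact Commute.one_left _)
    rw [zpow_one, mul_one, one_mul, ← hx1r] at this
    rw [hw1, hw]; exact this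
  have hw1Z : w1 ∈ commutator G := by
    rw [hw1, _root_.commutator_def]; exact commutator_mem_commutator (mem_top _) (mem_top _)
  have hw1d : w1 ∉ zpowers ⁅e, ⁅x, e⁆⁆ := fun hm => by
    have h1 : w ^ A ∈ zpowers ⁅e, ⁅x, e⁆⁆ := (QuotientGroup.eq_one_iff _).1 (show ρ (w ^ A) = 1 by
      rw [map_zpow, ← hw1ρ]; exact (QuotientGroup.eq_one_iff _).2 hm)
    rw [hw] at h1
    exact h.w_notMem (mem_of_zpow_mem (p := p) (by rw [h.exp]; exact one_mem _) h1 hA0)
  have hx1w1 : Commute x1 w1 := by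
    obtain ⟨i, l, hil⟩ := h.mem_commutator_gen hw1Z
    rw [hil]
    exact ((hw ▸ hx1w : Commute x1 ⁅x, e⁆).zpow_right i).mul_right (((h.d_comm x1)).zpow_right l)
  have hM : MData p E x1 e :=
    { exp := h.exp
      cardE := h.cardE
      index := h.index
      xmem := hx1E'
      emem := h.emem
      wmem := hw1 ▸ h.commutator_le hw1Z
      xw := hw1 ▸ hx1w1
      dne := fun he => hw1d (by
        obtain ⟨i, l, hil⟩ := h.mem_commutator_gen hw1Z
        rw [← hw1, commutatorElement_eq_one_iff_mul_comm] at he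
        have hi : (i : ZMod p) = 0 := by
          by_contra hi0
          have h3 : Commute e (⁅x, e⁆ ^ i) := by
            have := (show Commute e w1 from he).mul_right ((h.d_comm e).zpow_right l).inv_right
            rwa [hil, mul_inv_cancel_right] at this
          have h4 : ⁅x, e⁆ ∈ centralizer ({e} : Set G) :=
            mem_of_zpow_mem (p := p) (by rw [h.exp]; exact one_mem _) (mem_centralizer_singleton_iff.2 h3.symm.eq) hi0
          exact h.dne (commutatorElement_eq_one_iff_mul_comm.2 (mem_centralizer_singleton_iff.1 h4).symm)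
        rw [hil, h.congr ⁅x, e⁆ (r := i) (s := 0) (by simpa using hi), zpow_zero, one_mul]
        exact zpow_mem (mem_zpowers _) l)
      dc := by
        obtain ⟨k, hk⟩ := mem_zpowers_iff.1 (h.comm_commutator (hw1 ▸ hw1Z : ⁅x1, e⁆ ∈ commutator G) e)
        rw [← hk]; exact zpow_mem h.dc k
      decomp := fun y => by
        obtain ⟨B, r', hr', hy⟩ := h.decomp y
        obtain ⟨A', hA'⟩ : ∃ A' : ℤ, (A' : ZMod p) = (A : ZMod p)⁻¹ :=
          ⟨((A : ZMod p)⁻¹).val, by push_cast; rw [ZMod.natCast_zmod_val]⟩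
        refine ⟨B * A', (x1 ^ (B * A'))⁻¹ * y, ?_, by rw [mul_inv_cancel_left]⟩
        refine (QuotientGroup.eq (s := E)).1 ?_
        show QuotientGroup.mk' E (x1 ^ (B * A')) = QuotientGroup.mk' E y
        rw [map_zpow, hx1r, hy, map_mul, map_mul, map_zpow, map_zpow,
          show QuotientGroup.mk' E r = 1 from (QuotientGroup.eq_one_iff r).2 hr,
          show QuotientGroup.mk' E r' = 1 from (QuotientGroup.eq_one_iff r').2 hr', mul_one, mul_one, ← zpow_mul]
        refine zpow_congr (p := p) (by rw [← map_pow, h.exp, map_one]) ?_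
        push_cast; rw [hA']; field_simp }
  have hDw : ∀ y ∈ D, Commute y w1 := fun y hy => by
    obtain ⟨i, hi⟩ := hDgen y hy
    rw [show y = x1 ^ i * ((x1 ^ i)⁻¹ * y) by group]
    refine (hx1w1.zpow_left i).mul_left ?_
    obtain ⟨k, l, hkl⟩ := h.mem_commutator_gen hw1Z
    rw [hkl]
    exact (((hw ▸ hZw _ hi) : Commute ((x1 ^ i)⁻¹ * y) ⁅x, e⁆).zpow_right k).mul_right ((h.d_comm _).zpow_right l)
  have hcen1 : ∀ y, Commute y w1 → y ∈ D := fun y hy => by
    obtain ⟨B, r', hr', rfl⟩ := hM.decomp y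
    refine mul_mem (zpow_mem hx1D' B) (hZD (hM.mem_of_commute hr' ?_))
    have := ((hx1w1).zpow_left B).inv_left.mul_left hy
    rw [inv_mul_cancel_left] at this
    exact hw1 ▸ this
  have hDall : ∀ γ : MulAut G, ∀ y ∈ D, γ y ∈ D := fun γ y hy =>
    hcen1 _ (hw1 ▸ hM.commute_apply γ (hw1 ▸ hDw y hy))
  have hβx1 : (x1 ^ (b * b))⁻¹ * β x1 ∈ commutator G := by
    refine hM.mem_of_commute ?_ (hw1 ▸ hDw _ (mul_mem (inv_mem (zpow_mem hx1D' _)) (hDall β x1 hx1D')))
    refine (QuotientGroup.eq (s := E)).1 ?_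
    show QuotientGroup.mk' E (x1 ^ (b * b)) = QuotientGroup.mk' E (β x1)
    rw [hx1r, map_zpow, map_mul, map_mul, map_mul, map_zpow, map_zpow, map_zpow,
      show QuotientGroup.mk' E r = 1 from (QuotientGroup.eq_one_iff r).2 hr,
      show QuotientGroup.mk' E (β r) = 1 from (QuotientGroup.eq_one_iff _).2 (h.commutator_le (hzc β r hrZ)),
      mul_one, mul_one,
      show QuotientGroup.mk' E (β x) = QuotientGroup.mk' E (x ^ (b * b)) from (QuotientGroup.eq.2 hβx).symm,
      map_zpow, ← zpow_mul, ← zpow_mul, mul_comm]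
  clear hbilin hccρ hρc hw1ρ hw1d hx1w hZw hwZ hw hrZ hr hx1r hA0 hd0 hρ ρ
  -- now `x₁` replaces `x`
  set d := ⁅e, ⁅x1, e⁆⁆ with hd
  have hdw : ⁅e, w1⁆ = d := by rw [hd, hw1]
  haveI := hM.d_normal
  haveI hDn : D.Normal := ⟨fun y hy g => hO.c_self g y ▸ hDinv _ y hy⟩
  set Y := Γ ⊓ setStab D with hY
  have hQY : c.range ≤ Y := fun γ hγ => by
    obtain ⟨r, rfl⟩ := hγ
    exact ⟨hO.qle ⟨r, rfl⟩, fun y hy => hDinv r y hy⟩
  have hsec1 : Sec p Y ⊤ D := ⟨le_top, hDn, by rw [card_top, h.card_eq, hcD]; ring,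
    fun _ _ _ _ => mem_top _, fun γ _ => hDall γ⟩
  have hsec2 : Sec p Y D (commutator G) := ⟨hZD, inferInstance, hcD, fun γ _ => hDall γ, fun γ _ => hzc γ⟩
  have hcd : Nat.card (zpowers d) = p := by rw [Nat.card_zpowers, orderOf_eq_prime (h.exp _) hM.dne]
  have hQp : IsPGroup p c.range := by
    rw [MonoidHom.range_eq_map]; exact (hO.pgroup.to_subgroup ⊤).map _
  have hrfix : ∀ {U T : Subgroup G}, Sec p Y U T → ∀ r, ∀ y ∈ U, y⁻¹ * c r y ∈ T := fun hs r y hy =>
    pGen_fix hs (le_pGen hQY hQp ⟨r, rfl⟩) y hy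
  have hsec4 : Sec p Y (zpowers d) ⊥ := ⟨bot_le, inferInstance, by rw [hcd, card_bot, mul_one],
    fun γ _ _ hy => hM.d_apply γ hy, fun γ _ y hy => by rw [mem_bot.1 hy, map_one]; exact one_mem _⟩
  have hcdfix : ∀ r, ∀ y ∈ zpowers d, c r y = y := fun r y hy =>
    (inv_mul_eq_one.1 (mem_bot.1 (hrfix hsec4 r y hy))).symm
  obtain ⟨γ, hγY, δ, hδ, hwt⟩ := hO.exists_delta inf_le_left hQY (γ := β) ⟨hβ, hDall β⟩
  obtain ⟨z1, hz1, hγx1⟩ : ∃ z ∈ commutator G, γ x1 = x1 ^ (b * b) * z :=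
    ⟨(x1 ^ (b * b))⁻¹ * γ x1, by
      have := mul_mem hβx1 (hwt D _ hsec2 x1 hx1D')
      rwa [mul_assoc, mul_inv_cancel_left] at this, by group⟩
  obtain ⟨d1, hd1, hγe⟩ : ∃ d1 ∈ D, γ e = e ^ a * d1 :=
    ⟨(e ^ a)⁻¹ * γ e, by
      have := mul_mem (hZD hβe) (hwt ⊤ D hsec1 e (mem_top e))
      rwa [mul_assoc, mul_inv_cancel_left] at this, by group⟩
  have hx1d : ∀ y ∈ D, Commute y x1 := fun y hy => by
    obtain ⟨i, hi⟩ := hDgen y hy
    obtain ⟨k, l, hkl⟩ := hM.mem_commutator_gen hi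
    rw [show y = x1 ^ i * ((x1 ^ i)⁻¹ * y) by group, hkl]
    exact ((Commute.refl x1).zpow_left i).mul_left
      (((hM.xw.symm.zpow_left k)).mul_left ((hM.d_comm x1).symm.zpow_left l))
  set ρ := QuotientGroup.mk' (zpowers d) with hρ
  have hρc : ∀ y ∈ commutator G, ∀ g : G, Commute (ρ y) (ρ g) := fun y hy g => by
    symm
    rw [commute_iff_eq, ← commutatorElement_eq_one_iff_mul_comm, ← map_commutatorElement]
    exact (QuotientGroup.eq_one_iff _).2 (hM.comm_commutator hy g)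
  have hγw : ∃ t : ℤ, γ w1 = w1 ^ b * d ^ t := by
    have h1 : ρ (γ w1) = ρ w1 ^ b := by
      have hccρ : ∀ u : G ⧸ zpowers d, ∀ t, ⁅u, t⁆ ∈ center (G ⧸ zpowers d) := fun u t => by
        obtain ⟨u, rfl⟩ := QuotientGroup.mk'_surjective _ u
        obtain ⟨t, rfl⟩ := QuotientGroup.mk'_surjective _ t
        rw [← map_commutatorElement, mem_center_iff]
        intro g
        obtain ⟨g, rfl⟩ := QuotientGroup.mk'_surjective _ g
        exact (hρc _ (by rw [_root_.commutator_def]; exact commutator_mem_commutator (mem_top _) (mem_top _)) g).symm.eq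
      rw [hw1, map_commutatorElement γ, hγx1, hγe, map_commutatorElement, map_mul, map_mul, map_zpow, map_zpow]
      show commHom (ρ e ^ a * ρ d1) (fun v => hccρ v _) (ρ x1 ^ (b * b) * ρ z1) = _
      rw [map_mul, map_zpow, show commHom (ρ e ^ a * ρ d1) (fun v => hccρ v _) (ρ z1) = 1 from
        commutatorElement_eq_one_iff_mul_comm.2 (by rw [← map_zpow, ← map_mul]; exact (hρc z1 hz1 _).eq),
        mul_one]
      show ⁅ρ x1, ρ e ^ a * ρ d1⁆ ^ (b * b) = _
      rw [← commutatorElement_inv (ρ e ^ a * ρ d1) (ρ x1)]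
      show ((commHom (ρ x1) (fun v => hccρ v _) (ρ e ^ a * ρ d1))⁻¹) ^ (b * b) = _
      rw [map_mul, map_zpow, show commHom (ρ x1) (fun v => hccρ v _) (ρ d1) = 1 from
        commutatorElement_eq_one_iff_mul_comm.2 ((hx1d d1 hd1).map ρ).eq, mul_one]
      show ((⁅ρ e, ρ x1⁆ ^ a)⁻¹) ^ (b * b) = _
      rw [← inv_zpow, commutatorElement_inv, ← zpow_mul, ← map_commutatorElement]
      refine zpow_congr (p := p) (by rw [← map_pow, h.exp, map_one]) ?_
      push_cast; linear_combination (b : ZMod p) * hab'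
    rw [← map_zpow] at h1
    obtain ⟨t, ht⟩ := mem_zpowers_iff.1 (QuotientGroup.eq.1 h1.symm)
    exact ⟨t, by rw [ht, mul_inv_cancel_left]⟩
  obtain ⟨t, hγw⟩ := hγw
  have hdw1 : Commute e d := hM.d_comm e
  have hγd : γ d = d := by
    have hpw : ∀ y ∈ D, Commute y w1 := hDw
    have h1 : ⁅e ^ a * d1, w1 ^ b * d ^ t⁆ = d := by
      have hcd' : ∀ y, Commute y (d ^ t) := fun y => (hM.d_comm y).zpow_right t
      have h2 : ⁅e ^ a * d1, w1 ^ b * d ^ t⁆ = ⁅e ^ a, w1 ^ b⁆ := by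
        rw [show ⁅e ^ a * d1, w1 ^ b * d ^ t⁆ = e ^ a * ⁅d1, w1 ^ b * d ^ t⁆ * (e ^ a)⁻¹ *
          ⁅e ^ a, w1 ^ b * d ^ t⁆ by simp only [commutatorElement_def]; group,
          commutatorElement_eq_one_iff_mul_comm.2 (((hpw d1 hd1).zpow_right b).mul_right (hcd' d1)).eq, mul_one,
          mul_inv_cancel, one_mul,
          show ⁅e ^ a, w1 ^ b * d ^ t⁆ = ⁅e ^ a, w1 ^ b⁆ * (w1 ^ b * ⁅e ^ a, d ^ t⁆ * (w1 ^ b)⁻¹) by
            simp only [commutatorElement_def]; group,
          commutatorElement_eq_one_iff_mul_comm.2 (hcd' (e ^ a)).eq, mul_one, mul_inv_cancel, mul_one]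
      rw [h2]
      have hcw : ∀ y : G, ⁅y, w1⁆ ∈ center G := fun y => by
        obtain ⟨k, hk⟩ := mem_zpowers_iff.1 (hM.comm_commutator hw1Z y)
        rw [← hk]; exact zpow_mem hM.dc k
      have h3 : ⁅e ^ a, w1⁆ = d ^ a := by
        show commHom w1 hcw (e ^ a) = _
        rw [map_zpow, hd, ← hw1]; rfl
      have hcwa : ∀ y : G, ⁅y, e ^ a⁆ ∈ center G → True := fun _ _ => trivial
      have h4 : ∀ k : ℕ, ⁅e ^ a, w1 ^ k⁆ = d ^ (a * k) := by
        intro k
        induction k with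
        | zero => simp
        | succ k ih =>
          rw [pow_succ, show ⁅e ^ a, w1 ^ k * w1⁆ = ⁅e ^ a, w1 ^ k⁆ * (w1 ^ k * ⁅e ^ a, w1⁆ * (w1 ^ k)⁻¹) by
            simp only [commutatorElement_def]; group, ih, h3,
            ((hM.d_comm (w1 ^ k)).zpow_right a).eq, mul_inv_cancel_right, ← zpow_add]
          congr 1; push_cast; ring
      obtain ⟨k, hk⟩ : ∃ k : ℕ, (k : ZMod p) = b := ⟨((b : ZMod p)).val, ZMod.natCast_zmod_val _⟩
      rw [h.congr w1 (r := b) (s := (k : ℤ)) (by push_cast; rw [hk]), zpow_natCast, h4]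
      conv_rhs => rw [← zpow_one d]
      refine h.congr d ?_
      push_cast; rw [hk, hab']
    conv_lhs => rw [hd, ← hw1]
    rw [map_commutatorElement, hγe, hγw, h1]
  -- the action of `g`
  have hgw : ∀ {v : R}, c v e = x1 * e → ∀ j i : ℤ, c v x1 = x1 * w1 ^ j * d ^ i →
      c v w1 = d ^ (-j) * w1 := by
    intro v hv j i hvx
    rw [hw1, map_commutatorElement, hvx, hv, ← hw1,
      show ⁅x1 * w1 ^ j * d ^ i, x1 * e⁆ = ⁅x1 * w1 ^ j, x1 * e⁆ by
        rw [show ⁅x1 * w1 ^ j * d ^ i, x1 * e⁆ = x1 * w1 ^ j * ⁅d ^ i, x1 * e⁆ * (x1 * w1 ^ j)⁻¹ *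
          ⁅x1 * w1 ^ j, x1 * e⁆ by simp only [commutatorElement_def]; group,
          commutatorElement_eq_one_iff_mul_comm.2 ((hM.d_comm (x1 * e)).zpow_right i).symm.eq, mul_one,
          mul_inv_cancel, one_mul],
      show ⁅x1 * w1 ^ j, x1 * e⁆ = x1 * ⁅w1 ^ j, x1 * e⁆ * x1⁻¹ * (x1 * ⁅x1, e⁆ * x1⁻¹) by
        simp only [commutatorElement_def]; group,
      show ⁅w1 ^ j, x1 * e⁆ = ⁅w1 ^ j, x1⁆ * (x1 * ⁅w1 ^ j, e⁆ * x1⁻¹) by
        simp only [commutatorElement_def]; group,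
      commutatorElement_eq_one_iff_mul_comm.2 ((hx1w1.zpow_right j).symm.eq), one_mul, ← hw1]
    have h3 : ⁅w1 ^ j, e⁆ = d ^ (-j) := by
      have hcw : ∀ y : G, ⁅y, e⁆ ∈ center G → True := fun _ _ => trivial
      have h5 : ∀ k : ℕ, ⁅w1 ^ k, e⁆ = d ^ (-(k : ℤ)) := by
        intro k
        induction k with
        | zero => simp
        | succ k ih =>
          rw [pow_succ', show ⁅w1 * w1 ^ k, e⁆ = w1 * ⁅w1 ^ k, e⁆ * w1⁻¹ * ⁅w1, e⁆ by
            simp only [commutatorElement_def]; group, ih, ((hM.d_comm w1).zpow_right _).eq, mul_inv_cancel_right,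
            ← commutatorElement_inv e w1, hdw, ← zpow_neg_one, ← zpow_add]
          congr 1; push_cast; ring
      obtain ⟨k, hk⟩ : ∃ k : ℕ, (k : ZMod p) = j := ⟨((j : ZMod p)).val, ZMod.natCast_zmod_val _⟩
      rw [h.congr w1 (r := j) (s := (k : ℤ)) (by push_cast; rw [hk]), zpow_natCast, h5]
      refine h.congr d ?_
      push_cast; rw [hk]
    rw [h3, ((hM.d_comm x1).zpow_right _).eq, mul_inv_cancel_right, ((hM.d_comm x1).zpow_right _).eq,
      mul_inv_cancel_right, hx1w1.eq, mul_inv_cancel_right]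
  obtain ⟨j, i0, hji⟩ := hM.mem_commutator_gen (hDfix g x1 hx1D')
  have hcgx : c g x1 = x1 * w1 ^ j * d ^ i0 := by
    rw [mul_assoc, hw1, ← hji, mul_inv_cancel_left]
  obtain ⟨g', hg'⟩ : ∃ g', g' = g * ι (e ^ j) := ⟨_, rfl⟩
  have hg'range : g' ∉ ι.range := fun h0' => hg (by
    have := mul_mem h0' (inv_mem (show ι (e ^ j) ∈ ι.range from ⟨_, rfl⟩))
    rwa [hg', mul_inv_cancel_right] at this)
  have hg'e : c g' e = x1 * e := by
    rw [hg', map_mul, MulAut.mul_apply, hO.c_self, show e ^ j * e * (e ^ j)⁻¹ = e by group, hge]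
  obtain ⟨i, hg'x⟩ : ∃ i : ℤ, c g' x1 = x1 * d ^ i := by
    have h1 : ρ (e ^ j * x1 * (e ^ j)⁻¹) = ρ (w1 ^ (-j) * x1) := by
      have hconj : ∀ k : ℕ, ρ (e ^ k * x1 * (e ^ k)⁻¹) = ρ (w1 ^ (-(k : ℤ)) * x1) := by
        intro k
        induction k with
        | zero => simp
        | succ k ih =>
          have hex : e * x1 * e⁻¹ = w1⁻¹ * x1 := by rw [hw1, commutatorElement_def]; group
          rw [pow_succ', show e * e ^ k * x1 * (e * e ^ k)⁻¹ = e * (e ^ k * x1 * (e ^ k)⁻¹) * e⁻¹ by group,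
            map_mul, map_mul, ih, map_inv, map_mul,
            show ρ e * (ρ (w1 ^ (-(k : ℤ))) * ρ x1) * (ρ e)⁻¹ =
              ρ e * ρ (w1 ^ (-(k : ℤ))) * (ρ e)⁻¹ * ρ (e * x1 * e⁻¹) by
                rw [map_mul ρ (e * x1), map_mul ρ e, map_inv]; group,
            ((hρc _ (zpow_mem hw1Z _) e)).symm.eq, mul_inv_cancel_right, hex, ← map_mul, ← mul_assoc,
            ← zpow_sub_one]
          congr 3; push_cast; ring
      obtain ⟨k, hk⟩ : ∃ k : ℕ, (k : ZMod p) = j := ⟨((j : ZMod p)).val, ZMod.natCast_zmod_val _⟩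
      rw [h.congr e (r := j) (s := (k : ℤ)) (by push_cast; rw [hk]), zpow_natCast, hconj k]
      congr 2
      exact h.congr w1 (by push_cast; rw [hk])
    obtain ⟨k1, hk1⟩ := mem_zpowers_iff.1 (QuotientGroup.eq.1 h1.symm)
    have hcw1 : c g w1 = d ^ (-j) * w1 := hgw hge j i0 hcgx
    have hcgd : ∀ k : ℤ, c g (d ^ k) = d ^ k := fun k => hcdfix g _ (zpow_mem (mem_zpowers d) k)
    refine ⟨(-j) * (-j) + i0 + k1, ?_⟩
    rw [hg', map_mul, MulAut.mul_apply, hO.c_self,
      show e ^ j * x1 * (e ^ j)⁻¹ = w1 ^ (-j) * x1 * d ^ k1 by rw [hk1, mul_inv_cancel_left],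
      map_mul, map_mul, map_zpow, hcgd, hcw1, hcgx,
      Commute.mul_zpow ((hM.d_comm w1).zpow_right (-j)).symm, ← zpow_mul]
    have hc : ∀ (k : ℤ) (y : G), Commute y (d ^ k) := fun k y => (hM.d_comm y).zpow_right k
    have hxw : Commute (w1 ^ (-j)) x1 := (hx1w1.zpow_right (-j)).symm
    calc d ^ (-j * -j) * w1 ^ (-j) * (x1 * w1 ^ j * d ^ i0) * d ^ k1
        = d ^ (-j * -j) * (w1 ^ (-j) * x1) * (w1 ^ j * (d ^ i0 * d ^ k1)) := by group
      _ = d ^ (-j * -j) * x1 * (w1 ^ (-j) * w1 ^ j) * (d ^ i0 * d ^ k1) := by rw [hxw.eq]; group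
      _ = x1 * (d ^ (-j * -j) * (d ^ i0 * d ^ k1)) := by
        rw [← zpow_add w1, neg_add_cancel, zpow_zero, mul_one, ← (hc _ x1).eq]; group
      _ = _ := by rw [← zpow_add, ← zpow_add]; congr 2; ring
  have hg'w : c g' w1 = w1 := by
    rw [hgw hg'e 0 i (by rw [zpow_zero, mul_one]; exact hg'x), neg_zero, zpow_zero, one_mul]
  have hg'd : ∀ k : ℤ, c g' (d ^ k) = d ^ k := fun k => hcdfix g' _ (zpow_mem (mem_zpowers d) k)
  have hfixZ : ∀ y ∈ commutator G, c g' y = y := fun y hy => by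
    obtain ⟨k, l, rfl⟩ := hM.mem_commutator_gen hy
    rw [← hd, ← hw1, map_mul, map_zpow, hg'w, hg'd]
  -- the action of `δ g'`
  have hcomm : ∀ r y, γ (c r y) = c (δ r) (γ y) := fun r y => hO.inj (by
    rw [← hδ, hO.spec, map_mul, map_mul, map_inv, hδ, hO.spec])
  haveI := hO.range_normal
  have hrange : ∀ y, ((ι y : R) : R ⧸ ι.range) = 1 := fun y => (QuotientGroup.eq_one_iff _).2 ⟨y, rfl⟩
  have hg'g : ((g' : R) : R ⧸ ι.range) = g := by rw [hg', QuotientGroup.mk_mul, hrange, mul_one]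
  obtain ⟨s, p1, hs⟩ : ∃ (s : ℕ) (p1 : G), δ g' = g' ^ s * ι p1 := by
    obtain ⟨i, hi⟩ := hidx (δ g')
    refine ⟨((i : ZMod p)).val, ?_⟩
    have h1 : (g' ^ ((i : ZMod p)).val)⁻¹ * g ^ i ∈ ι.range := by
      rw [← QuotientGroup.eq, QuotientGroup.mk_pow, hg'g, QuotientGroup.mk_zpow, ← zpow_natCast]
      refine zpow_congr (by rw [← QuotientGroup.mk_pow]; exact (QuotientGroup.eq_one_iff _).2 hgp) ?_
      push_cast; rw [ZMod.natCast_zmod_val]
    have h2 := mul_mem h1 hi
    rw [mul_assoc, mul_inv_cancel_left] at h2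
    obtain ⟨p0, hp0⟩ := h2
    exact ⟨p0, by rw [hp0, mul_inv_cancel_left]⟩
  have hcδ : ∀ y, c (δ g') y = c (g' ^ s) (p1 * y * p1⁻¹) := fun y => by
    rw [hs, map_mul, MulAut.mul_apply, hO.c_self]
  have hiterZ : ∀ (n : ℕ), ∀ y ∈ commutator G, c (g' ^ n) y = y := by
    intro n y hy
    induction n with
    | zero => simp
    | succ n ih => rw [pow_succ', map_mul, MulAut.mul_apply, ih, hfixZ y hy]
  have hiterx : ∀ n : ℕ, c (g' ^ n) x1 = x1 * d ^ (i * n) := by
    intro n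
    induction n with
    | zero => simp
    | succ n ih =>
      rw [pow_succ', map_mul, MulAut.mul_apply, ih, map_mul, hg'x, hg'd, mul_assoc, ← zpow_add]
      congr 2; push_cast; ring
  have hp1w : Commute p1 w1 := by
    have h1 := hcomm g' w1
    rw [hg'w, hcδ, hiterZ s _ ((inferInstance : (commutator G).Normal).conj_mem _ (hzc γ _ hw1Z) p1), hγw] at h1
    have h2 : Commute p1 (w1 ^ b * d ^ t) := (eq_mul_inv_iff_mul_eq.1 h1).symm
    have h3 : Commute p1 (w1 ^ b) := by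
      have := h2.mul_right ((hM.d_comm p1).zpow_right t).inv_right
      rwa [mul_inv_cancel_right] at this
    refine (mem_centralizer_singleton_iff.1 (mem_of_zpow_mem (p := p) (H := centralizer ({p1} : Set G))
      (by rw [h.exp]; exact one_mem _) (mem_centralizer_singleton_iff.2 h3.symm.eq) ?_)).symm
    intro e0; rw [e0, mul_zero] at hab'; exact zero_ne_one hab'
  have hp1D : p1 ∈ D := hcen1 _ hp1w
  have hx1fix : ∀ n : ℕ, π (c (g' ^ n) x1) = π x1 := fun n => by
    rw [hiterx, map_mul, hπ1 (zpow_mem (by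
      rw [hd, _root_.commutator_def]; exact commutator_mem_commutator (mem_top _) (mem_top _)) _), mul_one]
  have hπe : ∀ n : ℕ, π (c (g' ^ n) e) = π x1 ^ n * π e := by
    intro n
    induction n with
    | zero => simp
    | succ n ih =>
      rw [pow_succ', map_mul, MulAut.mul_apply, hπc (c g') (y' := x1 ^ n * e) (by
        rw [map_mul π, map_pow π]; exact ih), map_mul, map_pow, hg'e, map_mul, map_pow, map_mul, ← mul_assoc]
      have := hx1fix 1
      rw [pow_one] at this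
      rw [this, ← pow_succ]
  have hs3 : (s : ZMod p) = (b : ZMod p) ^ 3 := by
    obtain ⟨k, hk⟩ := hDgen d1 hd1
    have hπγe : π (γ e) = π e ^ a * π x1 ^ k := by
      rw [hγe, map_mul, map_zpow, ← map_zpow π x1, show π (x1 ^ k) = π d1 from QuotientGroup.eq.2 hk]
    have h1 := congrArg π (hcomm g' e)
    rw [hg'e, map_mul, map_mul, hγx1, map_mul π (x1 ^ (b * b)), map_zpow, hπ1 hz1, mul_one, hcδ,
      hπc (c (g' ^ s)) (y := p1 * γ e * p1⁻¹) (y' := e ^ a * x1 ^ k) (by
        rw [map_mul, map_mul, map_inv, (hπcomm p1 (γ e)).eq, mul_inv_cancel_right, hπγe, map_mul, map_zpow,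
          map_zpow]),
      map_mul (c (g' ^ s)), map_zpow, map_zpow, map_mul π, map_zpow π, map_zpow π, hπe, hx1fix,
      ((hπcomm x1 e).pow_left s).mul_zpow, mul_assoc, ← hπγe] at h1
    have h2 := mul_right_cancel h1
    rw [← zpow_natCast, ← zpow_mul] at h2
    have h3 : x1 ^ (b * b - (s : ℤ) * a) ∈ commutator G := (QuotientGroup.eq_one_iff _).1 (show π _ = 1 by
      rw [map_zpow, zpow_sub, h2, mul_inv_cancel])
    have h4 := h.cast_mem hx1E' (h.commutator_le h3)
    push_cast at h4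
    linear_combination -(b : ZMod p) * h4 - (s : ZMod p) * hab'
  have hi0 : (i : ZMod p) = 0 := by
    have h1 := hcomm g' x1
    rw [hg'x, map_mul, map_zpow, hγd, hcδ,
      show p1 * γ x1 * p1⁻¹ = γ x1 by
        obtain ⟨k, hk⟩ := hDgen p1 hp1D
        obtain ⟨k1, l1, hkl⟩ := hM.mem_commutator_gen hk
        have hc : Commute p1 (γ x1) := by
          rw [show p1 = x1 ^ k * ((x1 ^ k)⁻¹ * p1) by group, hkl]
          have hxγ : Commute x1 (γ x1) := (hx1d _ (hDall γ x1 hx1D')).symm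
          have hwγ : Commute ⁅x1, e⁆ (γ x1) := hw1 ▸ (hDw _ (hDall γ x1 hx1D')).symm
          exact (hxγ.zpow_left k).mul_left ((hwγ.zpow_left k1).mul_left ((hM.d_comm _).symm.zpow_left l1))
        rw [hc.eq, mul_inv_cancel_right],
      hγx1, map_mul (c (g' ^ s)), map_zpow, hiterZ s z1 hz1, hiterx,
      Commute.mul_zpow ((hM.d_comm x1).zpow_right _), ← zpow_mul] at h1
    have hc : ∀ (k : ℤ) (y : G), Commute y (d ^ k) := fun k y => (hM.d_comm y).zpow_right k
    rw [mul_assoc (x1 ^ (b * b)) (d ^ _), ← (hc _ z1).eq, ← mul_assoc] at h1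
    have h2 := mul_left_cancel h1
    have h3 : d ^ (i * (s : ℤ) * (b * b) - i) ∈ (⊥ : Subgroup G) := by
      rw [mem_bot, zpow_sub, ← h2, mul_inv_cancel]
    have h4 := h.cast_mem (fun hm => hM.dne (mem_bot.1 hm)) h3
    push_cast at h4
    rw [hs3] at h4
    exact (mul_eq_zero.1 (show (i : ZMod p) * ((b : ZMod p) ^ 5 - 1) = 0 by
      linear_combination h4)).resolve_right (sub_ne_zero.2 hb5)
  rw [h.congr d (r := i) (s := 0) (by simpa using hi0), zpow_zero, mul_one] at hg'x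
  have hfixg : ∀ {y : G}, c g' y = y → Commute g' (ι y) := fun {y} hy => by
    rw [commute_iff_eq, ← mul_inv_eq_iff_eq_mul, ← hO.spec, hy]
  -- the `p`-th power of `g'`
  have hg'p : g' ^ p ∈ ι.range := by
    rw [← QuotientGroup.eq_one_iff, QuotientGroup.mk_pow, hg'g, ← QuotientGroup.mk_pow,
      QuotientGroup.eq_one_iff]
    exact hgp
  obtain ⟨y, hy⟩ := hg'p
  have hyfix : c g' y = y := hO.inj (by rw [hO.spec, hy, ← pow_succ', pow_succ, mul_inv_cancel_right])
  have hye : y * e * y⁻¹ = e := by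
    have hiter : ∀ n : ℕ, c (g' ^ n) e = x1 ^ n * e := by
      intro n
      induction n with
      | zero => simp
      | succ n ih =>
        rw [pow_succ', map_mul, MulAut.mul_apply, ih, map_mul, map_pow, hg'x, hg'e, ← mul_assoc, ← pow_succ]
    rw [← hO.c_self, hy, hiter, h.exp, one_mul]
  have hye' : Commute y e := by
    rw [commute_iff_eq, ← mul_inv_eq_iff_eq_mul]; exact hye
  obtain ⟨B, r2, hr2, hyr⟩ := hM.decomp y
  have hB0 : (B : ZMod p) = 0 := by
    have hw1d' : w1 ∉ zpowers d := fun hm => hM.w_notMem (by rw [hd, hw1] at hm; exact hm)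
    refine h.cast_mem (y := w1) hw1d' ?_
    refine (QuotientGroup.eq_one_iff _).1 ?_
    show ρ (w1 ^ B) = 1
    have hccρ : ∀ u : G ⧸ zpowers d, ⁅u, ρ e⁆ ∈ center (G ⧸ zpowers d) := fun u => by
      obtain ⟨u, rfl⟩ := QuotientGroup.mk'_surjective _ u
      rw [← map_commutatorElement, mem_center_iff]
      intro g
      obtain ⟨g, rfl⟩ := QuotientGroup.mk'_surjective _ g
      exact (hρc _ (by rw [_root_.commutator_def]; exact commutator_mem_commutator (mem_top _) (mem_top _)) g).symm.eq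
    have h1 : ⁅ρ y, ρ e⁆ = 1 := commutatorElement_eq_one_iff_mul_comm.2 (hye'.map ρ).eq
    have h2 : ⁅ρ r2, ρ e⁆ = 1 := by
      obtain ⟨k, hk⟩ := hM.gen_commutator hr2
      refine commutatorElement_eq_one_iff_mul_comm.2 ?_
      rw [show r2 = e ^ k * ((e ^ k)⁻¹ * r2) by group, map_mul ρ, map_zpow]
      exact (((Commute.refl (ρ e)).zpow_left k).mul_left (hρc _ hk e)).eq
    rw [hyr, map_mul, map_zpow] at h1
    change commHom (ρ e) hccρ (ρ x1 ^ B * ρ r2) = 1 at h1
    rw [map_mul, map_zpow, show commHom (ρ e) hccρ (ρ r2) = 1 from h2, mul_one] at h1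
    rw [map_zpow, hw1, map_commutatorElement]
    exact h1
  rw [h.congr x1 (r := B) (s := 0) (by simpa using hB0), zpow_zero, one_mul] at hyr
  subst hyr
  obtain ⟨k, hk⟩ := hM.gen_commutator hr2
  have hk0 : (k : ZMod p) = 0 := by
    have h1 := congrArg π hyfix
    have hπy : π y = π e ^ k := by rw [← map_zpow]; exact (QuotientGroup.eq.2 hk).symm
    rw [hπc (c g') (y' := e ^ k) (by rw [map_zpow π]; exact hπy), map_zpow, map_zpow, hg'e, map_mul,
      (hπcomm x1 e).mul_zpow, hπy] at h1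
    exact h.cast_mem hx1E' (h.commutator_le ((QuotientGroup.eq_one_iff _).1 (show π (x1 ^ k) = 1 by
      rw [map_zpow]; exact mul_eq_right.1 h1)))
  rw [h.congr e (r := k) (s := 0) (by simpa using hk0), zpow_zero, inv_one, one_mul] at hk
  obtain ⟨k1, l, hkl⟩ := hM.mem_commutator_gen hk
  have hk10 : (k1 : ZMod p) = 0 := by
    by_contra h0
    have h1 : Commute e (⁅x1, e⁆ ^ k1) := by
      have := hye'.symm.mul_right ((hM.d_comm e).zpow_right l).inv_right
      rwa [hkl, mul_inv_cancel_right] at this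
    have h4 : ⁅x1, e⁆ ∈ centralizer ({e} : Set G) :=
      mem_of_zpow_mem (p := p) (by rw [h.exp]; exact one_mem _) (mem_centralizer_singleton_iff.2 h1.symm.eq) h0
    exact hM.dne (commutatorElement_eq_one_iff_mul_comm.2 (mem_centralizer_singleton_iff.1 h4).symm)
  rw [h.congr ⁅x1, e⁆ (r := k1) (s := 0) (by simpa using hk10), zpow_zero, one_mul, ← hd] at hkl
  have hl0 : (l : ZMod p) = 0 := by
    have hγy : γ y = y ^ s := hO.inj (by
      have hc : Commute (g' ^ s) (ι p1) := by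
        obtain ⟨k2, hk2⟩ := hDgen p1 hp1D
        refine Commute.pow_left (hfixg ?_) s
        rw [show p1 = x1 ^ k2 * ((x1 ^ k2)⁻¹ * p1) by group, map_mul, map_zpow, hg'x, hfixZ _ hk2]
      rw [← hδ, hy, map_pow, hs, hc.mul_pow, ← map_pow ι p1, h.exp, map_one, mul_one, map_pow, hy,
        ← pow_mul, ← pow_mul, mul_comm])
    rw [hkl, map_zpow, hγd, ← zpow_natCast, ← zpow_mul] at hγy
    have h3 : d ^ (l * (s : ℤ) - l) ∈ (⊥ : Subgroup G) := by rw [mem_bot, zpow_sub, ← hγy, mul_inv_cancel]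
    have h4 := h.cast_mem (fun hm => hM.dne (mem_bot.1 hm)) h3
    push_cast at h4
    rw [hs3] at h4
    exact (mul_eq_zero.1 (show (l : ZMod p) * ((b : ZMod p) ^ 3 - 1) = 0 by
      linear_combination h4)).resolve_right (sub_ne_zero.2 hb3)
  have hgp1 : g' ^ p = 1 := by
    rw [← hy, hkl, h.congr d (r := l) (s := 0) (by simpa using hl0), zpow_zero, map_one]
  -- four independent elements
  refine false_of_four_elements hO.pgroup hO.rank (a := ι d) (b := ι w1) (c := ι x1) (d := g')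
    (fun h1 => hM.dne (hO.inj (h1.trans (map_one ι).symm))) (fun h1 => hM.w_notMem ?_)
    (fun h1 => hx1E' (h.commutator_le ?_)) (fun h1 => hg'range ?_) ?_ ?_
  · rw [← MonoidHom.map_zpowers, mem_map_iff_mem hO.inj] at h1
    rw [hd, hw1] at h1
    exact h1
  · rw [← mem_map_iff_mem hO.inj]
    refine (closure_le _).2 ?_ h1
    rintro _ (rfl | rfl)
    · exact mem_map_of_mem ι (by rw [hd, _root_.commutator_def]; exact commutator_mem_commutator (mem_top _) (mem_top _))
    · exact mem_map_of_mem ι hw1Z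
  · refine (closure_le _).2 ?_ h1
    rintro _ (rfl | rfl | rfl) <;> exact ⟨_, rfl⟩
  · rintro u (rfl | rfl | rfl | rfl)
    · rw [← map_pow, h.exp, map_one]
    · rw [← map_pow, h.exp, map_one]
    · rw [← map_pow, h.exp, map_one]
    · exact hgp1
  · have hgd : Commute g' (ι d) := hfixg (by have := hg'd 1; rwa [zpow_one] at this)
    have hgw' : Commute g' (ι w1) := hfixg hg'w
    have hgx : Commute g' (ι x1) := hfixg hg'x
    have hdw : Commute (ι d) (ι w1) := (hM.d_comm w1).symm.map ι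
    have hdx : Commute (ι d) (ι x1) := (hM.d_comm x1).symm.map ι
    have hwx : Commute (ι w1) (ι x1) := hx1w1.symm.map ι
    rintro u (rfl | rfl | rfl | rfl) t (rfl | rfl | rfl | rfl)
    all_goals first
      | rfl
      | exact hgd.eq
      | exact hgd.eq.symm
      | exact hgw'.eq
      | exact hgw'.eq.symm
      | exact hgx.eq
      | exact hgx.eq.symm
      | exact hdw.eq
      | exact hdw.eq.symm
      | exact hdx.eq
      | exact hdx.eq.symm
      | exact hwx.eq
      | exact hwx.eq.symm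

end CfsgLib.Fusion.RankThree
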