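import Cfsg.Agent.Lib.Fusion.System.RankThree.HeisEscape
import Cfsg.Agent.Lib.Fusion.System.RankThree.JData

/-!
# No escape over the group of order `p⁴`, exponent `p` and maximal class

`E` is extraspecial and `x` centralizes `w = ⁅x, e⁆`, so the centralizer of `w` is the abelian
maximal subgroup, fixed by every automorphism.
-/

set_option autoImplicit false
set_option linter.style.haveILetI false
set_option linter.unusedSectionVars false

open Subgroup
open scoped commutatorElement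

namespace CfsgLib.Fusion.RankThree

open CfsgLib.Fusion.LineTorus (Sec setStab exists_wt zpow_congr pGen_fix le_pGen)

universe u v

/-- The group of maximal class with its extraspecial maximal subgroup `E`. -/
structure MData (p : ℕ) {G : Type u} [Group G] (E : Subgroup G) (x e : G) : Prop where
  exp : ∀ y : G, y ^ p = 1
  cardE : Nat.card E = p ^ 3
  index : Nat.card G = p * Nat.card E
  xmem : x ∉ E
  emem : e ∈ E
  wmem : ⁅x, e⁆ ∈ E
  xw : Commute x ⁅x, e⁆
  dne : ⁅e, ⁅x, e⁆⁆ ≠ 1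
  dc : ⁅e, ⁅x, e⁆⁆ ∈ center G
  decomp : ∀ y, ∃ A : ℤ, ∃ r ∈ E, y = x ^ A * r

variable {G : Type u} [Group G] [Finite G] {p : ℕ} [Fact p.Prime] {E : Subgroup G} [E.Normal] {x e : G}
  (h : MData p E x e)
include h

theorem MData.pgroup : IsPGroup p G := fun y => ⟨1, by rw [pow_one]; exact h.exp y⟩

theorem MData.congr (y : G) {r s : ℤ} (e' : (r : ZMod p) = s) : y ^ r = y ^ s := zpow_congr (h.exp y) e'

theorem MData.cast_mem {H : Subgroup G} {y : G} (hy : y ∉ H) {k : ℤ} (hk : y ^ k ∈ H) :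
    (k : ZMod p) = 0 := by
  by_contra h0
  exact hy (mem_of_zpow_mem (p := p) (by rw [h.exp]; exact one_mem _) hk h0)

theorem MData.d_comm (y : G) : Commute y ⁅e, ⁅x, e⁆⁆ := mem_center_iff.1 h.dc y

theorem MData.w_notMem : ⁅x, e⁆ ∉ zpowers ⁅e, ⁅x, e⁆⁆ := fun hw => by
  obtain ⟨k, hk⟩ := mem_zpowers_iff.1 hw
  refine h.dne (commutatorElement_eq_one_iff_mul_comm.2 ?_)
  rw [← hk]
  exact ((h.d_comm e).zpow_right k).eq

theorem MData.gens : closure ({⁅e, ⁅x, e⁆⁆, ⁅x, e⁆, e} : Set G) = E := by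
  have hp := (Fact.out : p.Prime)
  set d := ⁅e, ⁅x, e⁆⁆ with hd
  have hdE : d ∈ E := by
    rw [hd, commutatorElement_def]
    exact mul_mem (mul_mem (mul_mem h.emem h.wmem) (inv_mem h.emem)) (inv_mem h.wmem)
  have hle : closure ({d, ⁅x, e⁆, e} : Set G) ≤ E := (closure_le _).2 (by
    rintro _ (rfl | rfl | rfl)
    · exact hdE
    · exact h.wmem
    · exact h.emem)
  refine eq_of_le_of_card_ge hle ?_
  have hcomm : ∀ y ∈ closure ({d, ⁅x, e⁆} : Set G), Commute ⁅x, e⁆ y := fun y hy => by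
    induction hy using Subgroup.closure_induction with
    | mem y hy =>
      rcases hy with rfl | rfl
      · exact h.d_comm _
      · rfl
    | one => exact Commute.one_right _
    | mul a b _ _ ha hb => exact ha.mul_right hb
    | inv a _ ha => exact ha.inv_right
  have m1 : Nat.card (zpowers d) = p := by rw [Nat.card_zpowers, orderOf_eq_prime (h.exp _) h.dne]
  have m2 : p * Nat.card (zpowers d) ≤ Nat.card (closure ({d, ⁅x, e⁆} : Set G)) :=
    CfsgLib.MaxClassCube.mul_card_le h.pgroup (lt_of_le_of_ne (zpowers_le.2 (subset_closure (by simp)))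
      fun e' => h.w_notMem (e'.ge (subset_closure (by simp))))
  have m3 : p * Nat.card (closure ({d, ⁅x, e⁆} : Set G)) ≤ Nat.card (closure ({d, ⁅x, e⁆, e} : Set G)) :=
    CfsgLib.MaxClassCube.mul_card_le h.pgroup (lt_of_le_of_ne (closure_mono (by
      intro; simp only [Set.mem_insert_iff, Set.mem_singleton_iff]; tauto)) fun e' => h.dne
        (commutatorElement_eq_one_iff_mul_comm.2 (hcomm e (e'.ge (subset_closure (by simp)))).symm.eq))
  rw [h.cardE, show p ^ 3 = p * (p * p) by ring]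
  exact (Nat.mul_le_mul_left p ((Nat.mul_le_mul_left p m1.ge).trans m2)).trans m3

/-- The derived subgroup. -/
theorem MData.commutator_eq : commutator G = closure ({⁅e, ⁅x, e⁆⁆, ⁅x, e⁆} : Set G) := by
  set d := ⁅e, ⁅x, e⁆⁆ with hd
  set Z := closure ({d, ⁅x, e⁆} : Set G) with hZ
  have hdZ : d ∈ Z := subset_closure (by simp)
  have hwZ : ⁅x, e⁆ ∈ Z := subset_closure (by simp)
  have hgen : closure ({x, e, d, ⁅x, e⁆} : Set G) = ⊤ := by
    refine eq_top_iff.2 fun y _ => ?_
    obtain ⟨A, r, hr, rfl⟩ := h.decomp y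
    refine mul_mem (zpow_mem (subset_closure (by simp)) A) ?_
    refine (closure_mono (by intro; simp only [Set.mem_insert_iff, Set.mem_singleton_iff]; tauto) :
      closure ({d, ⁅x, e⁆, e} : Set G) ≤ _) (h.gens.ge hr)
  haveI hZn : Z.Normal := by
    rw [← normalizer_eq_top_iff, eq_top_iff, ← hgen, closure_le]
    intro y hy
    have hconj : ∀ g : G, g ∈ ({x, e, d, ⁅x, e⁆} : Set G) → ∀ z ∈ Z, g * z * g⁻¹ ∈ Z := by
      intro g hg z hz
      induction hz using Subgroup.closure_induction with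
      | mem z hz =>
        rcases hz with rfl | rfl
        · rw [(h.d_comm g).eq, mul_inv_cancel_right]; exact hdZ
        · rcases hg with rfl | rfl | rfl | rfl
          · rw [h.xw.eq, mul_inv_cancel_right]; exact hwZ
          · have : g * ⁅x, g⁆ * g⁻¹ = d * ⁅x, g⁆ := by rw [hd, commutatorElement_def g, inv_mul_cancel_right]
            rw [this]; exact mul_mem hdZ hwZ
          · rw [(h.d_comm _).symm.eq, mul_inv_cancel_right]; exact hwZ
          · rw [mul_inv_cancel_right]; exact hwZ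
      | one => rw [mul_one, mul_inv_cancel]; exact one_mem _
      | mul a b _ _ ha hb =>
        rw [show g * (a * b) * g⁻¹ = g * a * g⁻¹ * (g * b * g⁻¹) by group]; exact mul_mem ha hb
      | inv a _ ha => rw [show g * a⁻¹ * g⁻¹ = (g * a * g⁻¹)⁻¹ by group]; exact inv_mem ha
    refine mem_normalizer_iff_map_conj_eq.2 (eq_of_le_of_card_ge ?_
      (card_map_of_injective (MulAut.conj y).injective).ge)
    rintro _ ⟨z, hz, rfl⟩
    exact hconj y hy z hz
  refine le_antisymm (commutator_le_of_generators hgen fun a ha b hb => ?_) ((closure_le _).2 ?_)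
  · have h1 : ∀ a b : G, a ∈ Z → ⁅a, b⁆ ∈ Z ∧ ⁅b, a⁆ ∈ Z := fun a b ha => by
      constructor <;> rw [commutatorElement_def]
      · rw [mul_assoc a, mul_assoc a]; exact mul_mem ha (hZn.conj_mem _ (inv_mem ha) b)
      · exact mul_mem (hZn.conj_mem a ha b) (inv_mem ha)
    rcases ha with rfl | rfl | rfl | rfl <;> rcases hb with rfl | rfl | rfl | rfl
    all_goals first
      | exact hwZ
      | exact (h1 _ _ hdZ).1
      | exact (h1 _ _ hdZ).2
      | exact (h1 _ _ hwZ).1
      | exact (h1 _ _ hwZ).2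
      | (rw [commutatorElement_self]; exact one_mem _)
      | (rw [← commutatorElement_inv]; exact inv_mem hwZ)
  · rintro _ (rfl | rfl) <;> rw [commutator_def] <;> exact commutator_mem_commutator (mem_top _) (mem_top _)

theorem MData.commutator_le : commutator G ≤ E := by
  rw [h.commutator_eq]
  refine le_trans (closure_mono ?_) h.gens.le
  intro; simp only [Set.mem_insert_iff, Set.mem_singleton_iff]; tauto

theorem MData.e_notMem : e ∉ commutator G := fun he => by
  have key : ∀ y ∈ closure ({⁅e, ⁅x, e⁆⁆, ⁅x, e⁆} : Set G), Commute y ⁅x, e⁆ := fun y hy => by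
    induction hy using Subgroup.closure_induction with
    | mem y hy =>
      rcases hy with rfl | rfl
      · exact (h.d_comm _).symm
      · rfl
    | one => exact Commute.one_left _
    | mul a b _ _ ha hb => exact ha.mul_left hb
    | inv a _ ha => exact ha.inv_left
  rw [h.commutator_eq] at he
  exact h.dne (commutatorElement_eq_one_iff_mul_comm.2 (key e he).eq)

theorem MData.card_commutator : Nat.card (commutator G) = p * p := by
  have hp := (Fact.out : p.Prime)
  refine le_antisymm ?_ ?_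
  · have h1 := CfsgLib.MaxClassCube.mul_card_le h.pgroup
      (lt_of_le_of_ne h.commutator_le fun e' => h.e_notMem (e'.ge h.emem))
    rw [h.cardE] at h1
    exact Nat.le_of_mul_le_mul_left (h1.trans (le_of_eq (by ring))) hp.pos
  · have h1 : p * Nat.card (zpowers ⁅e, ⁅x, e⁆⁆) ≤ Nat.card (closure ({⁅e, ⁅x, e⁆⁆, ⁅x, e⁆} : Set G)) :=
      CfsgLib.MaxClassCube.mul_card_le h.pgroup (lt_of_le_of_ne (zpowers_le.2 (subset_closure (by simp)))
        fun e' => h.w_notMem (e'.ge (subset_closure (by simp))))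
    rwa [Nat.card_zpowers, orderOf_eq_prime (h.exp _) h.dne, ← h.commutator_eq] at h1

theorem MData.d_normal : (zpowers ⁅e, ⁅x, e⁆⁆).Normal := ⟨fun n hn g => by
  obtain ⟨k, rfl⟩ := mem_zpowers_iff.1 hn
  rw [((h.d_comm g).zpow_right k).eq, mul_inv_cancel_right]
  exact zpow_mem (mem_zpowers _) k⟩

theorem MData.mem_commutator_gen {z : G} (hz : z ∈ commutator G) :
    ∃ i l : ℤ, z = ⁅x, e⁆ ^ i * ⁅e, ⁅x, e⁆⁆ ^ l := by
  haveI := h.d_normal
  have hle : commutator G ≤ zpowers ⁅x, e⁆ ⊔ zpowers ⁅e, ⁅x, e⁆⁆ := by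
    rw [h.commutator_eq]
    refine (closure_le _).2 ?_
    rintro _ (rfl | rfl)
    · exact mem_sup_right (mem_zpowers _)
    · exact mem_sup_left (mem_zpowers _)
  obtain ⟨a, ha, b, hb, rfl⟩ := mem_sup_of_normal_right.1 (hle hz)
  obtain ⟨i, rfl⟩ := mem_zpowers_iff.1 ha
  obtain ⟨l, rfl⟩ := mem_zpowers_iff.1 hb
  exact ⟨i, l, rfl⟩

theorem MData.gen_commutator {y : G} (hy : y ∈ E) : ∃ k : ℤ, (e ^ k)⁻¹ * y ∈ commutator G :=
  exists_zpow_inv_mul_mem h.pgroup h.commutator_le
    (by rw [h.cardE, h.card_commutator]; ring) h.emem h.e_notMem hy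

theorem MData.card_eq : Nat.card G = p * p * Nat.card (commutator G) := by
  rw [h.index, h.cardE, h.card_commutator]; ring

theorem MData.comm_commutator {z : G} (hz : z ∈ commutator G) (g : G) : ⁅g, z⁆ ∈ zpowers ⁅e, ⁅x, e⁆⁆ := by
  haveI := h.d_normal
  set d := ⁅e, ⁅x, e⁆⁆ with hd
  set ρ := QuotientGroup.mk' (zpowers d) with hρ
  refine (QuotientGroup.eq_one_iff _).1 ?_
  show ρ ⁅g, z⁆ = 1
  rw [map_commutatorElement, commutatorElement_eq_one_iff_mul_comm]
  have hwc : ∀ u : G, Commute (ρ u) (ρ ⁅x, e⁆) := by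
    intro u
    obtain ⟨A, r, hr, rfl⟩ := h.decomp u
    have hxc : Commute (ρ x) (ρ ⁅x, e⁆) := h.xw.map ρ
    have hrc : Commute (ρ r) (ρ ⁅x, e⁆) := by
      have hle : E ≤ (centralizer {ρ ⁅x, e⁆}).comap ρ := by
        rw [← h.gens]
        refine (closure_le _).2 ?_
        rintro _ (rfl | rfl | rfl) <;> refine mem_centralizer_singleton_iff.2 ?_
        · exact ((h.d_comm _).symm.map ρ).eq
        · rfl
        · refine commutatorElement_eq_one_iff_mul_comm.1 ?_
          rw [← map_commutatorElement]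
          exact (QuotientGroup.eq_one_iff _).2 (mem_zpowers _)
      exact mem_centralizer_singleton_iff.1 (hle hr)
    rw [map_mul, map_zpow]
    exact (hxc.zpow_left A).mul_left hrc
  obtain ⟨i, l, rfl⟩ := h.mem_commutator_gen hz
  rw [map_mul, map_zpow, map_zpow, show ρ d = 1 from (QuotientGroup.eq_one_iff _).2 (mem_zpowers _), one_zpow,
    mul_one]
  exact ((hwc g).zpow_right i).eq

theorem MData.d_apply (γ : MulAut G) {y : G} (hy : y ∈ zpowers ⁅e, ⁅x, e⁆⁆) :
    γ y ∈ zpowers ⁅e, ⁅x, e⁆⁆ := by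
  obtain ⟨k, rfl⟩ := mem_zpowers_iff.1 hy
  rw [map_zpow, map_commutatorElement γ e]
  refine zpow_mem (h.comm_commutator (z := γ ⁅x, e⁆) ?_ _) k
  exact characteristic_iff_map_le.1 (inferInstance : (commutator G).Characteristic) γ
    ⟨⁅x, e⁆, by rw [commutator_def]; exact commutator_mem_commutator (mem_top _) (mem_top _), rfl⟩

theorem MData.mem_of_commute {y : G} (hy : y ∈ E) (hc : Commute y ⁅x, e⁆) : y ∈ commutator G := by
  obtain ⟨k, hk⟩ := h.gen_commutator hy
  obtain ⟨i, l, hil⟩ := h.mem_commutator_gen hk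
  have hyk : y = e ^ k * (⁅x, e⁆ ^ i * ⁅e, ⁅x, e⁆⁆ ^ l) := by rw [← hil, mul_inv_cancel_left]
  have h1 : Commute (e ^ k) ⁅x, e⁆ := by
    have h2 : Commute (⁅x, e⁆ ^ i * ⁅e, ⁅x, e⁆⁆ ^ l) ⁅x, e⁆ :=
      ((Commute.refl _).zpow_left i).mul_left ((h.d_comm _).zpow_right l).symm
    have h3 := hc.mul_left h2.inv_left
    rwa [hyk, mul_inv_cancel_right] at h3
  by_cases hk0 : (k : ZMod p) = 0
  · rwa [h.congr e (r := k) (s := 0) (by simpa using hk0), zpow_zero, inv_one, one_mul] at hk
  exfalso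
  have h4 : e ∈ centralizer ({⁅x, e⁆} : Set G) :=
    mem_of_zpow_mem (p := p) (by rw [h.exp]; exact one_mem _) (mem_centralizer_singleton_iff.2 h1.eq) hk0
  exact h.dne (commutatorElement_eq_one_iff_mul_comm.2 (mem_centralizer_singleton_iff.1 h4))

theorem MData.commute_apply (γ : MulAut G) {y : G} (hy : Commute y ⁅x, e⁆) : Commute (γ y) ⁅x, e⁆ := by
  have hw : ⁅x, e⁆ ∈ commutator G := by
    rw [commutator_def]; exact commutator_mem_commutator (mem_top _) (mem_top _)
  obtain ⟨i, l, hil⟩ := h.mem_commutator_gen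
    (characteristic_iff_map_le.1 (inferInstance : (commutator G).Characteristic) γ ⟨_, hw, rfl⟩)
  have hc : Commute (γ y) (⁅x, e⁆ ^ i * ⁅e, ⁅x, e⁆⁆ ^ l) := hil ▸ hy.map γ.toMonoidHom
  have hc1 : Commute (γ y) (⁅x, e⁆ ^ i) := by
    have := hc.mul_right ((h.d_comm (γ y)).zpow_right l).inv_right
    rwa [mul_inv_cancel_right] at this
  have hi0 : (i : ZMod p) ≠ 0 := fun h0 => by
    rw [h.congr ⁅x, e⁆ (r := i) (s := 0) (by simpa using h0), zpow_zero, one_mul] at hil
    have h1 : γ ⁅x, e⁆ ∈ center G := by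
      show (γ.toMonoidHom ⁅x, e⁆) ∈ center G
      rw [hil]; exact zpow_mem h.dc l
    have h2 : γ⁻¹ (γ ⁅x, e⁆) ∈ center G :=
      characteristic_iff_map_le.1 (inferInstance : (center G).Characteristic) γ⁻¹ ⟨_, h1, rfl⟩
    rw [MulAut.inv_apply_self] at h2
    exact h.dne (commutatorElement_eq_one_iff_mul_comm.2 (mem_center_iff.1 h2 e))
  have h5 : ⁅x, e⁆ ∈ centralizer ({γ y} : Set G) :=
    mem_of_zpow_mem (p := p) (by rw [h.exp]; exact one_mem _) (mem_centralizer_singleton_iff.2 hc1.symm.eq) hi0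
  exact (mem_centralizer_singleton_iff.1 h5).symm

end CfsgLib.Fusion.RankThree
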