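import Cfsg.Agent.Lib.Fusion.System.RankThree.Tools
import Cfsg.Agent.Lib.Fusion.System.CubeAutomizer
import Cfsg.Agent.Lib.Fusion.System.Alperin
import Cfsg.Agent.Lib.Fusion.Sylow
import Cfsg.Agent.Lib.MaxClassEss.Frattini

/-!
# A subgroup of index `p` with its automizer

`E` has index `p` in the `p`-group `G`, `X` is a group of automorphisms of `E` whose Sylow
`p`-subgroup is induced by `G` and whose `p`-core is inner, and the elements of `X` normalizing
that Sylow subgroup extend to elements of `Γ`.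
-/

set_option autoImplicit false
set_option linter.style.haveILetI false
set_option linter.unusedSectionVars false

open Subgroup
open scoped commutatorElement

namespace CfsgLib.Fusion.RankThree

open CfsgLib.MaxClassEss (frAct frAct_eq_one_iff isPGroup_of_frAct)
open CfsgLib.Fusion.Transvection (dlt dlt_eq_one apply_eq IsTrv)

universe u

variable {G : Type u} [Group G] [Finite G] {p : ℕ} [Fact p.Prime]

/-- The automizer data of a subgroup of index `p`. -/
structure Top (p : ℕ) {G : Type u} [Group G] (E : Subgroup G) [E.Normal] (X : Subgroup (MulAut E))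
    (Γ : Subgroup (MulAut G)) : Prop where
  five : 5 ≤ p
  pgroup : IsPGroup p G
  rank : Cfsg.SectionalPRankLE p 3 G
  index : Nat.card G = p * Nat.card E
  cent : ∀ g : G, (∀ e ∈ E, g * e = e * g) → g ∈ E
  qle : (MulAut.conjNormal (H := E)).range ≤ X
  sylow : ¬ p ∣ (MulAut.conjNormal (H := E)).range.relIndex X
  core : ∀ Y : Subgroup (MulAut E), Y ≤ X → (∀ α ∈ X, ∀ y ∈ Y, α * y * α⁻¹ ∈ Y) → IsPGroup p Y →
    Y ≤ Cfsg.Inn E
  ext : ∀ α ∈ X, α ∈ normalizer ((MulAut.conjNormal (H := E)).range : Set (MulAut E)) →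
    ∃ β ∈ Γ, ∀ e : E, β (e : G) = (α e : G)

/-- The Frattini subgroup of `E` as a subgroup of `G`. -/
def frn (E : Subgroup G) : Subgroup G := (frattini E).map E.subtype

theorem frn_le (E : Subgroup G) : frn E ≤ E := map_subtype_le _

instance frn_normal (E : Subgroup G) [E.Normal] : (frn E).Normal := by
  rw [frn]; infer_instance

theorem mem_frn {E : Subgroup G} {e : E} : (e : G) ∈ frn E ↔ e ∈ frattini E := by
  rw [frn, mem_map]
  exact ⟨fun ⟨x, hx, h⟩ => Subtype.ext h ▸ hx, fun h => ⟨e, h, rfl⟩⟩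

variable {E : Subgroup G} [E.Normal] {X : Subgroup (MulAut E)} {Γ : Subgroup (MulAut G)}
  (h : Top p E X Γ)
include h

theorem Top.isPE : IsPGroup p E := h.pgroup.to_subgroup E

theorem Top.odd : p ≠ 2 := by have := h.five; omega

theorem Top.comm_frn {a b : G} (ha : a ∈ E) (hb : b ∈ E) : ⁅a, b⁆ ∈ frn E :=
  ⟨⁅(⟨a, ha⟩ : E), ⟨b, hb⟩⁆, CfsgLib.Coprime.commutator_le_frattini h.isPE
    (commutator_mem_commutator (mem_top _) (mem_top _)), rfl⟩

theorem Top.pow_frn {a : G} (ha : a ∈ E) : a ^ p ∈ frn E :=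
  ⟨(⟨a, ha⟩ : E) ^ p, CfsgLib.Coprime.pow_mem_frattini h.isPE _, rfl⟩

theorem Top.exists_notMem : ∃ x : G, x ∉ E := by
  by_contra hall
  push Not at hall
  have hi := h.index
  rw [show E = ⊤ from eq_top_iff.2 fun g _ => hall g, card_top] at hi
  have hp := (Fact.out : p.Prime).two_le
  have := Nat.card_pos (α := G)
  nlinarith

theorem Top.index_eq : E.index = p := by
  have hi := E.card_mul_index
  rw [h.index, mul_comm p] at hi
  exact Nat.eq_of_mul_eq_mul_left Nat.card_pos hi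

theorem Top.pow_mem (g : G) : g ^ p ∈ E := by
  rw [← QuotientGroup.eq_one_iff, QuotientGroup.mk_pow]
  have hc : Nat.card (G ⧸ E) = p := h.index_eq
  nth_rw 1 [← hc]
  exact pow_card_eq_one'

/-- Every element is `x ^ i * e`. -/
theorem Top.decomp {x : G} (hx : x ∉ E) (g : G) : ∃ (i : ℤ), ∃ e ∈ E, g = x ^ i * e := by
  have hc : Nat.card (G ⧸ E) = p := h.index_eq
  have hne : (x : G ⧸ E) ≠ 1 := fun e => hx ((QuotientGroup.eq_one_iff x).1 e)
  obtain ⟨i, hi⟩ := mem_zpowers_of_prime_card (g' := (g : G ⧸ E)) hc hne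
  refine ⟨i, (x ^ i)⁻¹ * g, ?_, by group⟩
  rw [← QuotientGroup.eq, QuotientGroup.mk_zpow]
  exact hi

theorem Top.cast_zero {x : G} (hx : x ∉ E) {i : ℤ} (hi : x ^ i ∈ E) : (i : ZMod p) = 0 := by
  have hc : Nat.card (G ⧸ E) = p := h.index_eq
  have hne : (x : G ⧸ E) ≠ 1 := fun e => hx ((QuotientGroup.eq_one_iff x).1 e)
  have ho : orderOf (x : G ⧸ E) = p := orderOf_eq_prime (by nth_rw 1 [← hc]; exact pow_card_eq_one') hne
  rw [ZMod.intCast_zmod_eq_zero_iff_dvd, ← ho, orderOf_dvd_iff_zpow_eq_one, ← QuotientGroup.mk_zpow,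
    QuotientGroup.eq_one_iff]
  exact hi

theorem Top.ker_le_inn {α : MulAut E} (hα : α ∈ X) (h1 : frAct α = 1) : α ∈ Cfsg.Inn E := by
  refine h.core (X ⊓ (frAct (H := E)).ker) inf_le_left (fun a ha y hy => ⟨X.mul_mem (X.mul_mem ha hy.1)
    (X.inv_mem ha), ?_⟩) (isPGroup_of_frAct h.isPE _ fun σ hσ => hσ.2) ⟨hα, h1⟩
  show frAct (a * y * a⁻¹) = 1
  rw [map_mul, map_mul, show frAct y = 1 from hy.2, mul_one, map_inv, mul_inv_cancel]

theorem Top.inn_le_range : Cfsg.Inn E ≤ (MulAut.conjNormal (H := E)).range := by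
  rintro _ ⟨e, rfl⟩
  exact ⟨(e : G), MulAut.conjNormal_val⟩

theorem Top.frAct_inn {α : MulAut E} (hα : α ∈ Cfsg.Inn E) : frAct α = 1 := by
  obtain ⟨c, rfl⟩ := hα
  refine frAct_eq_one_iff.2 fun a => ?_
  rw [MulAut.conj_apply]
  exact CfsgLib.Coprime.commutator_le_frattini h.isPE (commutator_mem_commutator (mem_top c) (mem_top a))

theorem Top.fr_ne_one {x : G} (hx : x ∉ E) : frAct (MulAut.conjNormal (H := E) x) ≠ 1 := by
  intro h1
  obtain ⟨c, hc⟩ := h.ker_le_inn (h.qle ⟨x, rfl⟩) h1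
  refine hx ?_
  have h2 : (c : G)⁻¹ * x ∈ E := h.cent _ fun e he => by
    have h3 := congrArg Subtype.val (DFunLike.congr_fun hc ⟨e, he⟩)
    rw [MulAut.conj_apply, MulAut.conjNormal_apply, Subgroup.coe_mul, Subgroup.coe_mul,
      Subgroup.coe_inv] at h3
    calc (c : G)⁻¹ * x * e = (c : G)⁻¹ * (x * e * x⁻¹) * x := by group
      _ = (c : G)⁻¹ * ((c : G) * e * (c : G)⁻¹) * x := by rw [h3]
      _ = e * ((c : G)⁻¹ * x) := by group
  simpa using mul_mem c.2 h2

theorem Top.fr_pow_eq_one (x : G) : frAct (MulAut.conjNormal (H := E) x) ^ p = 1 := by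
  rw [← map_pow, ← map_pow]
  have : MulAut.conjNormal (H := E) (x ^ p) = MulAut.conj (⟨x ^ p, h.pow_mem x⟩ : E) :=
    MulAut.conjNormal_val (h := (⟨x ^ p, h.pow_mem x⟩ : E))
  rw [this]
  exact h.frAct_inn ⟨_, rfl⟩

theorem Top.map_range {x : G} (hx : x ∉ E) :
    ((MulAut.conjNormal (H := E)).range).map frAct = zpowers (frAct (MulAut.conjNormal (H := E) x)) := by
  refine le_antisymm ?_ (zpowers_le.2 (mem_map_of_mem _ ⟨x, rfl⟩))
  rintro _ ⟨_, ⟨g, rfl⟩, rfl⟩
  obtain ⟨i, e, he, rfl⟩ := h.decomp hx g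
  rw [map_mul, map_mul, map_zpow, map_zpow]
  have : MulAut.conjNormal (H := E) e = MulAut.conj (⟨e, he⟩ : E) := MulAut.conjNormal_val (h := ⟨e, he⟩)
  rw [this, h.frAct_inn ⟨_, rfl⟩, mul_one]
  exact zpow_mem (mem_zpowers _) i

theorem Top.card_zpowers_fr {x : G} (hx : x ∉ E) :
    Nat.card (zpowers (frAct (MulAut.conjNormal (H := E) x))) = p := by
  rw [Nat.card_zpowers, orderOf_eq_prime (h.fr_pow_eq_one x) (h.fr_ne_one hx)]

theorem Top.card_pgroup_le {H : Subgroup (MulAut (E ⧸ frattini E))} (hH : H ≤ X.map frAct)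
    (hHp : IsPGroup p H) : Nat.card H ≤ p := by
  haveI : Finite (MulAut E) := Finite.of_injective (fun a : MulAut E => (a : E → E)) DFunLike.coe_injective
  haveI : Finite (MulAut (E ⧸ frattini E)) :=
    Finite.of_injective (fun a : MulAut (E ⧸ frattini E) => (a : E ⧸ frattini E → E ⧸ frattini E))
      DFunLike.coe_injective
  obtain ⟨x, hx⟩ := h.exists_notMem
  set Q := (MulAut.conjNormal (H := E)).range
  have hQp : IsPGroup p Q := by
    rw [show Q = _ from MonoidHom.range_eq_map (MulAut.conjNormal (H := E))]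
    exact (h.pgroup.to_subgroup ⊤).map _
  have hi : ¬ p ∣ (Q.map frAct).relIndex (X.map frAct) := fun hd => h.sylow (hd.trans ?_)
  swap
  · have hsurj := (frAct (H := E)).subgroupMap_surjective X
    have e : (Q.subgroupOf X).map ((frAct (H := E)).subgroupMap X) = (Q.map frAct).subgroupOf (X.map frAct) := by
      ext y
      simp only [mem_map, mem_subgroupOf]
      constructor
      · rintro ⟨x, hxQ, rfl⟩; exact ⟨x, hxQ, rfl⟩
      · rintro ⟨q, hq, hqy⟩; exact ⟨⟨q, h.qle hq⟩, hq, Subtype.ext hqy⟩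
    show ((Q.map frAct).subgroupOf (X.map frAct)).index ∣ (Q.subgroupOf X).index
    rw [← e]
    exact index_map_dvd _ hsurj
  obtain ⟨k, -, hk⟩ := CfsgLib.Fusion.exists_conj_le_of_not_dvd_relIndex (hQp.map frAct)
    (map_mono h.qle) hi hHp hH
  rw [← CfsgLib.Fusion.card_conjBy k, ← h.card_zpowers_fr hx, ← h.map_range hx]
  · exact Subgroup.card_le_of_le hk

end CfsgLib.Fusion.RankThree
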