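import Cfsg.Agent.Lib.Fusion.System.RankThree.Torus
import Cfsg.Agent.Lib.Coprime.FrattiniExtra
import Cfsg.Agent.Lib.Fusion.System.LineTorus

/-!
# Transvection automizers

If some element outside `E` acts as a transvection on the Frattini quotient of `E`, the Frattini
subgroup of `E` is the subgroup generated by the `p`-th powers of `G` and the third term of its
lower central series.
-/

set_option autoImplicit false
set_option linter.style.haveILetI false
set_option linter.unusedSectionVars false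

open Subgroup
open scoped commutatorElement

namespace CfsgLib.Fusion.RankThree

universe u

variable {G : Type u} [Group G] [Finite G] {p : ℕ} [Fact p.Prime]

theorem mem_of_zpow_mem {H : Subgroup G} {y : G} (hp : y ^ p ∈ H) {m : ℤ} (hm : y ^ m ∈ H)
    (hm0 : (m : ZMod p) ≠ 0) : y ∈ H := by
  have hcop : IsCoprime (p : ℤ) m := by
    refine Int.isCoprime_iff_gcd_eq_one.2 ?_
    refine (Nat.Prime.coprime_iff_not_dvd (Fact.out : p.Prime)).2 fun hd => hm0 ?_
    rw [ZMod.intCast_zmod_eq_zero_iff_dvd]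
    exact Int.natCast_dvd.2 hd
  obtain ⟨u, v, huv⟩ := hcop
  have h1 : y = (y ^ p) ^ u * (y ^ m) ^ v := by
    rw [← zpow_natCast, ← zpow_mul, ← zpow_mul, ← zpow_add, mul_comm (p : ℤ) u, mul_comm m v, huv, zpow_one]
  rw [h1]
  exact mul_mem (zpow_mem hp u) (zpow_mem hm v)

/-- The commutator with a fixed element, when all such commutators are central. -/
def commHom {H : Type*} [Group H] (z : H) (hc : ∀ y : H, ⁅y, z⁆ ∈ center H) : H →* H :=
  MonoidHom.mk' (fun y => ⁅y, z⁆) fun a b => by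
    have h1 : a * ⁅b, z⁆ = ⁅b, z⁆ * a := mem_center_iff.1 (hc b) a
    have h2 : ⁅b, z⁆ * ⁅a, z⁆ = ⁅a, z⁆ * ⁅b, z⁆ := (mem_center_iff.1 (hc b) ⁅a, z⁆).symm
    calc ⁅a * b, z⁆ = a * ⁅b, z⁆ * a⁻¹ * ⁅a, z⁆ := by simp only [commutatorElement_def]; group
      _ = _ := by rw [h1, mul_inv_cancel_right, h2]

theorem commutator_le_of_generators {H : Type*} [Group H] {N : Subgroup H} [N.Normal] {S : Set H}
    (hS : closure S = ⊤) (h : ∀ a ∈ S, ∀ b ∈ S, ⁅a, b⁆ ∈ N) : commutator H ≤ N := by
  have hc : ∀ a ∈ QuotientGroup.mk' N '' S, ∀ b ∈ QuotientGroup.mk' N '' S, a * b = b * a := by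
    rintro _ ⟨a, ha, rfl⟩ _ ⟨b, hb, rfl⟩
    rw [← commutatorElement_eq_one_iff_mul_comm, ← map_commutatorElement]
    exact (QuotientGroup.eq_one_iff _).2 (h a ha b hb)
  have hcm := isMulCommutative_closure hc
  have htop : closure (QuotientGroup.mk' N '' S) = ⊤ := by
    rw [← MonoidHom.map_closure, hS, map_top_of_surjective _ (QuotientGroup.mk'_surjective N)]
  rw [commutator_def, Subgroup.commutator_le]
  intro a _ b _
  refine (QuotientGroup.eq_one_iff _).1 ?_
  show QuotientGroup.mk' N ⁅a, b⁆ = 1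
  rw [map_commutatorElement, commutatorElement_eq_one_iff_mul_comm]
  exact congrArg Subtype.val (hcm.is_comm.comm
    (⟨QuotientGroup.mk' N a, htop ▸ mem_top _⟩ : closure (QuotientGroup.mk' N '' S))
    ⟨QuotientGroup.mk' N b, htop ▸ mem_top _⟩)

variable {E : Subgroup G} [E.Normal] {X : Subgroup (MulAut E)} {Γ : Subgroup (MulAut G)}
  (h : Top p E X Γ)
include h

theorem Top.card_frn_le : Nat.card E ≤ p ^ 3 * Nat.card (frn E) := by
  rw [card_eq_card_quotient_mul_card_subgroup (frattini E), frn,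
    card_map_of_injective E.subtype_injective]
  exact Nat.mul_le_mul_right _ h.card_fr_le

theorem Top.frn_le_frattini : frn E ≤ frattini G :=
  CfsgLib.Coprime.frattini_map_subtype_le E

/-- The conclusions from a transvection. -/
structure TData (p : ℕ) (E : Subgroup G) (β : MulAut G) (x e f : G) (a b : ℤ) : Prop where
  frn_eq : frn E = kc p G 2
  xmem : x ∉ E
  emem : e ∈ E
  fmem : f ∈ E
  wne : ⁅x, e⁆ ∉ frn E
  invE : ∀ r ∈ E, β r ∈ E
  wte : (e ^ a)⁻¹ * β e ∈ frn E
  wtw : (⁅x, e⁆ ^ b)⁻¹ * β ⁅x, e⁆ ∈ frn E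
  wtx : (x ^ (b * b))⁻¹ * β x ∈ E
  wtf : f⁻¹ * β f ∈ frn E
  fx : ⁅x, f⁆ ∈ frn E
  find : f ∈ closure ({⁅x, e⁆, e} : Set G) ⊔ frn E → f = 1
  gen : ∀ r ∈ E, ∃ i j l : ℤ, r⁻¹ * (⁅x, e⁆ ^ i * e ^ j * f ^ l) ∈ frn E

theorem Top.exists_tdata {x : G} (hx : x ∉ E) (hd : ∀ e ∈ E, ⁅x, ⁅x, e⁆⁆ ∈ frn E) {a b : ℤ}
    (hab : ((a * b : ℤ) : ZMod p) = 1) (hb1 : (b : ZMod p) ≠ 1) (hb2 : (b : ZMod p) ^ 2 ≠ 1) :
    ∃ β ∈ Γ, ∃ e f : G, TData p E β x e f a b := by
  have hp := (Fact.out : p.Prime)
  obtain ⟨β, hβ, e, he, hwne, hinvE, hwte, hwtw, hinvN, hwtx, hdec⟩ := h.exists_torus hx hd hab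
  set w := ⁅x, e⁆ with hw
  have hwE : w ∈ E := by
    rw [hw, commutatorElement_def]
    exact mul_mem ((inferInstance : E.Normal).conj_mem e he x) (inv_mem he)
  set P0 := closure ({w, e} : Set G) ⊔ frn E with hP0
  have hP0E : P0 ≤ E := sup_le ((closure_le _).2 (by
    rintro _ (rfl | rfl)
    · exact hwE
    · exact he)) (frn_le E)
  set π := QuotientGroup.mk' (frn E) with hπ
  have hπ1 : ∀ {r : G}, r ∈ frn E → π r = 1 := fun hr => (QuotientGroup.eq_one_iff _).2 hr
  have hπeq : ∀ {r s : G}, r⁻¹ * s ∈ frn E → π r = π s := fun hrs => QuotientGroup.eq.2 hrs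
  have hπβ : ∀ {r s : G}, π r = π s → π (β r) = π (β s) := fun {r s} hrs => by
    refine hπeq ?_
    rw [← map_inv, ← map_mul]
    exact hinvN _ (QuotientGroup.eq.1 hrs)
  have hcomE : ∀ {r s : G}, r ∈ E → s ∈ E → Commute (π r) (π s) := fun hr hs => by
    rw [commute_iff_eq, ← commutatorElement_eq_one_iff_mul_comm, ← map_commutatorElement]
    exact hπ1 (h.comm_frn hr hs)
  have hpowE : ∀ {r : G}, r ∈ E → π r ^ p = 1 := fun hr => by
    rw [← map_pow]; exact hπ1 (h.pow_frn hr)
  -- the fixed element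
  obtain ⟨f, hfE, hfx, hff, hfind, hgen⟩ : ∃ f ∈ E, ⁅x, f⁆ ∈ frn E ∧ f⁻¹ * β f ∈ frn E ∧
      (f ∈ P0 → f = 1) ∧ ∀ r ∈ E, r ∈ P0 ⊔ zpowers f := by
    by_cases hE0 : E ≤ P0
    · refine ⟨1, one_mem E, ?_, ?_, fun _ => rfl, fun r hr => mem_sup_left (hE0 hr)⟩
      · rw [commutatorElement_one_right]; exact one_mem _
      · rw [map_one, inv_one, one_mul]; exact one_mem _
    obtain ⟨r, hr, hrP⟩ := SetLike.not_le_iff_exists.1 hE0
    obtain ⟨i, j, c, hcE, hcx, hcc, hrc⟩ := hdec r hr
    have hcP : c ∉ P0 := fun hc => hrP (by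
      have h1 : w ^ i * e ^ j * c ∈ P0 := mul_mem (mul_mem (zpow_mem (mem_sup_left (subset_closure (by simp))) i)
        (zpow_mem (mem_sup_left (subset_closure (by simp))) j)) hc
      have := mul_mem h1 (inv_mem (mem_sup_right (S := closure ({w, e} : Set G)) hrc))
      rwa [mul_inv_rev, inv_inv, mul_inv_cancel_left] at this)
    refine ⟨c, hcE, hcx, hcc, fun hc => absurd hc hcP, fun s hs => ?_⟩
    have hle : P0 ⊔ zpowers c ≤ E := sup_le hP0E (zpowers_le.2 hcE)
    refine (eq_of_le_of_card_ge hle ?_).ge hs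
    have hG := h.pgroup
    have m1 : p * Nat.card (frn E) ≤ Nat.card (zpowers w ⊔ frn E : Subgroup G) :=
      CfsgLib.MaxClassCube.mul_card_le hG (lt_of_le_of_ne le_sup_right fun e' =>
        hwne (e'.ge (mem_sup_left (mem_zpowers w))))
    have m2 : p * Nat.card (zpowers w ⊔ frn E : Subgroup G) ≤ Nat.card P0 := by
      refine CfsgLib.MaxClassCube.mul_card_le hG (lt_of_le_of_ne (sup_le (zpowers_le.2
        (mem_sup_left (subset_closure (by simp)))) le_sup_right) fun e' => hwne ?_)
      obtain ⟨y, hy, n, hn, hyn⟩ := mem_sup_of_normal_right.1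
        (e'.ge (mem_sup_left (subset_closure (by simp)) : e ∈ P0))
      obtain ⟨k, rfl⟩ := mem_zpowers_iff.1 hy
      have he' : π e = π w ^ k := by rw [← hyn, map_mul, hπ1 hn, mul_one, map_zpow]
      have hcomm : Commute (π x) (π e) := by
        rw [he']
        refine Commute.zpow_right ?_ k
        rw [commute_iff_eq, ← commutatorElement_eq_one_iff_mul_comm, ← map_commutatorElement]
        exact hπ1 (hd e he)
      rw [← QuotientGroup.eq_one_iff]
      show π w = 1
      rw [hw, map_commutatorElement, commutatorElement_eq_one_iff_mul_comm]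
      exact hcomm
    have m3 : p * Nat.card P0 ≤ Nat.card (P0 ⊔ zpowers c : Subgroup G) :=
      CfsgLib.MaxClassCube.mul_card_le hG (lt_of_le_of_ne le_sup_left fun e' =>
        hcP (e'.ge (mem_sup_right (mem_zpowers c))))
    have m4 := h.card_frn_le
    calc Nat.card E ≤ p ^ 3 * Nat.card (frn E) := m4
      _ = p * (p * (p * Nat.card (frn E))) := by ring
      _ ≤ p * (p * Nat.card (zpowers w ⊔ frn E : Subgroup G)) := by gcongr
      _ ≤ p * Nat.card P0 := by gcongr
      _ ≤ _ := m3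
  have hgen' : ∀ r ∈ E, ∃ i j l : ℤ, π r = π w ^ i * π e ^ j * π f ^ l := by
    intro r hr
    let V : Subgroup (G ⧸ frn E) :=
      { carrier := {y | ∃ i j l : ℤ, y = π w ^ i * π e ^ j * π f ^ l}
        one_mem' := ⟨0, 0, 0, by simp⟩
        mul_mem' := by
          rintro _ _ ⟨i, j, l, rfl⟩ ⟨i', j', l', rfl⟩
          refine ⟨i + i', j + j', l + l', ?_⟩
          have h1 := (hcomE he hwE).zpow_zpow j i'
          have h2 := (hcomE hfE hwE).zpow_zpow l i'
          have h3 := (hcomE hfE he).zpow_zpow l j'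
          rw [zpow_add, zpow_add, zpow_add]
          calc π w ^ i * π e ^ j * π f ^ l * (π w ^ i' * π e ^ j' * π f ^ l')
              = π w ^ i * π e ^ j * (π f ^ l * π w ^ i') * π e ^ j' * π f ^ l' := by group
            _ = π w ^ i * (π e ^ j * π w ^ i') * (π f ^ l * π e ^ j') * π f ^ l' := by
              rw [h2.eq]; group
            _ = _ := by rw [h1.eq, h3.eq]; group
        inv_mem' := by
          rintro _ ⟨i, j, l, rfl⟩
          refine ⟨-i, -j, -l, ?_⟩
          rw [mul_inv_rev, mul_inv_rev, ← zpow_neg, ← zpow_neg, ← zpow_neg,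
            ((hcomE he hwE).zpow_zpow (-j) (-i)).eq, ← mul_assoc,
            ((hcomE hfE hwE).zpow_zpow (-l) (-i)).eq, mul_assoc,
            ((hcomE hfE he).zpow_zpow (-l) (-j)).eq, ← mul_assoc] }
    have hle : P0 ⊔ zpowers f ≤ V.comap π := sup_le (sup_le ((closure_le _).2 (by
        rintro _ (rfl | rfl)
        · exact ⟨1, 0, 0, by simp⟩
        · exact ⟨0, 1, 0, by simp⟩)) fun n hn => ⟨0, 0, 0, by rw [hπ1 hn]; simp⟩)
      (zpowers_le.2 ⟨0, 0, 1, by simp⟩)
    exact hle (hgen r hr)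
  have hxw : Commute (π x) (π w) := by
    rw [commute_iff_eq, ← commutatorElement_eq_one_iff_mul_comm, ← map_commutatorElement]
    exact hπ1 (hd e he)
  have hxf : Commute (π x) (π f) := by
    rw [commute_iff_eq, ← commutatorElement_eq_one_iff_mul_comm, ← map_commutatorElement]
    exact hπ1 hfx
  have htop : closure (insert (π x) (π '' (E : Set G))) = ⊤ := by
    refine eq_top_iff.2 fun y _ => ?_
    obtain ⟨g, rfl⟩ := QuotientGroup.mk'_surjective (frn E) y
    obtain ⟨i, r, hr, rfl⟩ := h.decomp hx g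
    rw [map_mul, map_zpow]
    exact mul_mem (zpow_mem (subset_closure (Set.mem_insert _ _)) i)
      (subset_closure (Set.mem_insert_of_mem _ ⟨r, hr, rfl⟩))
  have hwc : π w ∈ center (G ⧸ frn E) := by
    have hle : closure (insert (π x) (π '' (E : Set G))) ≤ centralizer {π w} := (closure_le _).2 (by
      rintro _ (rfl | ⟨r, hr, rfl⟩) <;> refine mem_centralizer_singleton_iff.2 ?_
      · exact hxw.eq
      · exact (hcomE hr hwE).eq)
    exact mem_center_iff.2 fun g => mem_centralizer_singleton_iff.1 (hle (htop.ge (mem_top g)))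
  haveI hWn : (zpowers (π w)).Normal := ⟨fun n hn g => by
    obtain ⟨k, rfl⟩ := mem_zpowers_iff.1 hn
    rw [mem_center_iff.1 ((center _).zpow_mem hwc k) g, mul_inv_cancel_right]
    exact zpow_mem (mem_zpowers _) k⟩
  have hxe : π x * π e * (π x)⁻¹ = π w * π e := by
    rw [hw, map_commutatorElement, commutatorElement_def, inv_mul_cancel_right]
  have hxr : ∀ i j l : ℤ, ⁅π x, π w ^ i * π e ^ j * π f ^ l⁆ = π w ^ j := by
    intro i j l
    have hce : Commute (π w) (π e) := hcomE hwE he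
    rw [commutatorElement_def, ← conj_mul, ← conj_mul, ← conj_zpow, ← conj_zpow, ← conj_zpow, hxe,
      show π x * π w * (π x)⁻¹ = π w by rw [hxw.eq, mul_inv_cancel_right],
      show π x * π f * (π x)⁻¹ = π f by rw [hxf.eq, mul_inv_cancel_right], hce.mul_zpow]
    have hcw : Commute (π w ^ j) (π w ^ i) := (Commute.refl (π w)).zpow_zpow j i
    calc π w ^ i * (π w ^ j * π e ^ j) * π f ^ l * (π w ^ i * π e ^ j * π f ^ l)⁻¹
        = π w ^ i * π w ^ j * (π w ^ i)⁻¹ := by group
      _ = _ := by rw [← hcw.eq, mul_inv_cancel_right]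
  have hder : commutator (G ⧸ frn E) ≤ zpowers (π w) := by
    refine commutator_le_of_generators htop ?_
    rintro u (rfl | ⟨r, hr, rfl⟩) v (rfl | ⟨s, hs, rfl⟩)
    · rw [commutatorElement_self]; exact one_mem _
    · obtain ⟨i, j, l, hsl⟩ := hgen' s hs
      rw [hsl, hxr]
      exact zpow_mem (mem_zpowers _) j
    · obtain ⟨i, j, l, hsl⟩ := hgen' r hr
      rw [← commutatorElement_inv, hsl, hxr]
      exact inv_mem (zpow_mem (mem_zpowers _) j)
    · rw [commutatorElement_eq_one_iff_mul_comm.2 (hcomE hr hs).eq]; exact one_mem _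
  have hcl2 : ∀ y ∈ commutator (G ⧸ frn E), y ∈ center (G ⧸ frn E) := fun y hy => by
    obtain ⟨k, rfl⟩ := mem_zpowers_iff.1 (hder hy)
    exact zpow_mem hwc k
  have hb0 : ∀ {y : G}, y ∈ E → y ∉ frn E → ∀ {k : ℤ}, π y ^ k = 1 → (k : ZMod p) = 0 := by
    intro y hy hyN k hk
    by_contra hk0
    rw [← map_zpow] at hk
    exact hyN (mem_of_zpow_mem (h.pow_frn hy) ((QuotientGroup.eq_one_iff _).1 hk) hk0)
  -- the `p`-th power of `x`
  have hxp : π x ^ p = 1 := by
    obtain ⟨i, j, l, hxi⟩ := hgen' _ (h.pow_mem x)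
    have hj : (j : ZMod p) = 0 := hb0 hwE hwne (by
      rw [← hxr i j l, ← hxi, map_pow]
      exact commutatorElement_eq_one_iff_mul_comm.2 ((Commute.refl (π x)).pow_right p).eq)
    rw [LineTorus.zpow_congr (hpowE he) (r := j) (s := 0) (by simpa using hj), zpow_zero, mul_one] at hxi
    have h1 : π (β x) ^ p = (π x ^ p) ^ (b * b) := by
      set ε := (x ^ (b * b))⁻¹ * β x with hε
      have hsplit : π (β x) = π x ^ (b * b) * π ε := by
        rw [← map_zpow, ← map_mul, hε, mul_inv_cancel_left]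
      rw [hsplit, mul_pow_class_three h.five (eq_bot_iff.2 (commutator_le.2 fun y hy z _ => by
          have hyc : y ∈ center (G ⧸ frn E) := by
            refine (commutator_le.2 fun a ha c _ => ?_ :
              ⁅commutator (G ⧸ frn E), (⊤ : Subgroup (G ⧸ frn E))⁆ ≤ center (G ⧸ frn E)) hy
            rw [commutatorElement_eq_one_iff_mul_comm.2 (mem_center_iff.1 (hcl2 a ha) c).symm]
            exact one_mem _
          rw [mem_bot, commutatorElement_eq_one_iff_mul_comm]
          exact (mem_center_iff.1 hyc z).symm))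
        (fun y hy => by
          obtain ⟨k, rfl⟩ := mem_zpowers_iff.1 (hder hy)
          rw [← zpow_natCast, ← zpow_mul, mul_comm, zpow_mul, zpow_natCast, hpowE hwE, one_zpow]),
        hpowE hwtx, mul_one, ← zpow_natCast, ← zpow_mul, mul_comm, zpow_mul, zpow_natCast]
    have hxi' : π (x ^ p) = π (w ^ i * f ^ l) := by rw [hxi, map_mul, map_zpow, map_zpow]
    have h2 : π (β x) ^ p = π w ^ (b * i) * π f ^ l := by
      rw [← map_pow, ← map_pow, hπβ hxi', map_mul β, map_zpow β, map_zpow β, map_mul π, map_zpow π,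
        map_zpow π, ← hπeq hwtw, ← hπeq hff, map_zpow, ← zpow_mul]
    rw [map_pow] at hxi
    rw [h1, hxi, ((hcomE hwE hfE).zpow_zpow i l).mul_zpow, ← zpow_mul, ← zpow_mul] at h2
    have h3 : π w ^ (i * (b * b) - b * i) * π f ^ (l * (b * b) - l) = 1 := by
      have hc2 : Commute (π w ^ (-(b * i))) (π f ^ (l * (b * b))) := (hcomE hwE hfE).zpow_zpow _ _
      rw [zpow_sub, zpow_sub, ← zpow_neg, ← zpow_neg]
      calc π w ^ (i * (b * b)) * π w ^ (-(b * i)) * (π f ^ (l * (b * b)) * π f ^ (-l))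
          = π w ^ (i * (b * b)) * (π w ^ (-(b * i)) * π f ^ (l * (b * b))) * π f ^ (-l) := by group
        _ = (π w ^ (i * (b * b)) * π f ^ (l * (b * b))) * (π w ^ (-(b * i)) * π f ^ (-l)) := by
          rw [hc2.eq]; group
        _ = _ := by rw [h2, ((hcomE hwE hfE).zpow_zpow _ _).eq]; group
    have hl : π f ^ l = 1 := by
      by_cases hl0 : (l : ZMod p) = 0
      · rw [LineTorus.zpow_congr (hpowE hfE) (r := l) (s := 0) (by simpa using hl0), zpow_zero]
      have hne : ((l * (b * b) - l : ℤ) : ZMod p) ≠ 0 := by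
        push_cast
        intro e0
        exact hl0 ((mul_eq_zero.1 (show (l : ZMod p) * ((b : ZMod p) ^ 2 - 1) = 0 by
          linear_combination e0)).resolve_right (sub_ne_zero.2 hb2))
      rw [← map_zpow π, ← map_zpow π, ← map_mul] at h3
      have hfP : f ^ (l * (b * b) - l) ∈ P0 := by
        have := mul_mem (inv_mem (zpow_mem (show w ∈ P0 from mem_sup_left (subset_closure (by simp)))
          (i * (b * b) - b * i))) (mem_sup_right (S := closure ({w, e} : Set G)) ((QuotientGroup.eq_one_iff _).1 h3))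
        rwa [inv_mul_cancel_left] at this
      rw [hfind (mem_of_zpow_mem (mem_sup_right (h.pow_frn hfE)) hfP hne), map_one, one_zpow]
    have hi : (i : ZMod p) = 0 := by
      have h4 : π w ^ (i * (b * b) - b * i) = 1 := by
        have : π f ^ (l * (b * b) - l) = 1 := by
          rw [show l * (b * b) - l = l * (b * b - 1) by ring, zpow_mul, hl, one_zpow]
        rwa [this, mul_one] at h3
      have h5 := hb0 hwE hwne h4
      push_cast at h5
      have hb0' : (b : ZMod p) ≠ 0 := fun e0 => by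
        push_cast at hab; rw [e0, mul_zero] at hab; exact zero_ne_one hab
      exact (mul_eq_zero.1 (show (i : ZMod p) * ((b : ZMod p) * ((b : ZMod p) - 1)) = 0 by
        linear_combination h5)).resolve_right (mul_ne_zero hb0' (sub_ne_zero.2 hb1))
    rw [hxi, hl, LineTorus.zpow_congr (hpowE hwE) (r := i) (s := 0) (by simpa using hi), zpow_zero, mul_one]
  have hcl3 : ⁅⁅commutator (G ⧸ frn E), (⊤ : Subgroup (G ⧸ frn E))⁆, (⊤ : Subgroup (G ⧸ frn E))⁆ = ⊥ := by
    refine eq_bot_iff.2 (commutator_le.2 fun y hy z _ => ?_)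
    have hy1 : y ∈ (⊥ : Subgroup (G ⧸ frn E)) := (commutator_le.2 fun a ha c _ => by
      rw [mem_bot, commutatorElement_eq_one_iff_mul_comm]
      exact (mem_center_iff.1 (hcl2 a ha) c).symm) hy
    rw [mem_bot.1 hy1, commutatorElement_one_left]
    exact one_mem _
  have hKN : kc p G 2 ≤ frn E := by
    refine kc_le (fun y => (QuotientGroup.eq_one_iff _).1 ?_) ?_
    · obtain ⟨i, r, hr, rfl⟩ := h.decomp hx y
      show π ((x ^ i * r) ^ p) = 1
      rw [map_pow, map_mul, map_zpow, mul_pow_class_three h.five hcl3 (fun y hy => by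
          obtain ⟨k, rfl⟩ := mem_zpowers_iff.1 (hder hy)
          rw [← zpow_natCast, ← zpow_mul, mul_comm, zpow_mul, zpow_natCast, hpowE hwE, one_zpow]),
        hpowE hr, mul_one, ← zpow_natCast, ← zpow_mul, mul_comm, zpow_mul, zpow_natCast, hxp, one_zpow]
    · rw [Subgroup.lowerCentralSeries_succ, Subgroup.top_lowerCentralSeries_one, commutator_le]
      intro y hy z _
      refine (QuotientGroup.eq_one_iff _).1 ?_
      show π ⁅y, z⁆ = 1
      rw [map_commutatorElement, commutatorElement_eq_one_iff_mul_comm]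
      have hy' : π y ∈ commutator (G ⧸ frn E) := by
        rw [commutator_def] at hy ⊢
        have := mem_map_of_mem π hy
        rw [map_commutator] at this
        exact commutator_mono le_top le_top this
      exact (mem_center_iff.1 (hcl2 _ hy') _).symm
  have hgenN : ∀ r ∈ E, ∃ i j l : ℤ, r⁻¹ * (w ^ i * e ^ j * f ^ l) ∈ frn E := fun r hr => by
    obtain ⟨i, j, l, hrl⟩ := hgen' r hr
    exact ⟨i, j, l, QuotientGroup.eq.1 (by
      show π r = π _
      rw [hrl, map_mul, map_mul, map_zpow, map_zpow, map_zpow])⟩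
  refine ⟨β, hβ, e, f, ⟨le_antisymm ?_ hKN, hx, he, hfE, hwne, hinvE, hwte, hwtw, hwtx, hff, hfx, hfind,
    hgenN⟩⟩
  -- modulo the characteristic subgroup
  set σ := QuotientGroup.mk' (kc p G 2) with hσ
  have hσ1 : ∀ {r : G}, r ∈ kc p G 2 → σ r = 1 := fun hr => (QuotientGroup.eq_one_iff _).2 hr
  have hσp : ∀ y : G ⧸ kc p G 2, y ^ p = 1 := fun y => by
    obtain ⟨g, rfl⟩ := QuotientGroup.mk'_surjective _ y
    rw [← map_pow]; exact hσ1 (pow_mem_kc 2 g)
  have hcomm2 : commutator G ≤ (center (G ⧸ kc p G 2)).comap σ := fun y hy => mem_center_iff.2 fun z => by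
    obtain ⟨g, rfl⟩ := QuotientGroup.mk'_surjective _ z
    refine (commutatorElement_eq_one_iff_mul_comm.1 ?_).symm
    rw [← map_commutatorElement]
    refine hσ1 (lcs_le_kc 2 ?_)
    rw [Subgroup.lowerCentralSeries_succ, Subgroup.top_lowerCentralSeries_one]
    exact commutator_mem_commutator hy (mem_top g)
  have hfc : frn E ≤ (center (G ⧸ kc p G 2)).comap σ :=
    h.frn_le_frattini.trans (CfsgLib.FrattiniLe.frattini_le_of_pow_of_commutator (p := p) (fun y => by
      show σ (y ^ p) ∈ center (G ⧸ kc p G 2)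
      rw [hσ1 (pow_mem_kc 2 y)]; exact one_mem _) hcomm2)
  set c := ⁅σ e, σ f⁆ with hc
  have hcc : ∀ y z : G ⧸ kc p G 2, ⁅y, z⁆ ∈ center (G ⧸ kc p G 2) := fun y z => by
    obtain ⟨g, rfl⟩ := QuotientGroup.mk'_surjective _ y
    obtain ⟨k, rfl⟩ := QuotientGroup.mk'_surjective _ z
    rw [← map_commutatorElement]
    exact hcomm2 (commutator_mem_commutator (mem_top g) (mem_top k))
  have hσw : σ w ∈ center (G ⧸ kc p G 2) := by rw [hw, map_commutatorElement]; exact hcc _ _
  haveI hCn : (zpowers c).Normal := ⟨fun n hn g => by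
    obtain ⟨k, rfl⟩ := mem_zpowers_iff.1 hn
    rw [mem_center_iff.1 ((center _).zpow_mem (hcc _ _) k) g, mul_inv_cancel_right]
    exact zpow_mem (mem_zpowers _) k⟩
  set Z1 := (zpowers c).comap σ with hZ1
  have hcE : c = σ ⁅e, f⁆ := by rw [hc, map_commutatorElement]
  have hNZ : frn E ≤ Z1 := by
    have hEgen : (⊤ : Subgroup E) = closure {r : E | (r : G) = w ∨ (r : G) = e ∨ (r : G) = f ∨ (r : G) ∈ frn E} := by
      refine (eq_top_iff.2 fun r _ => ?_).symm
      obtain ⟨i, j, l, hrl⟩ := hgenN r r.2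
      set s : E := ⟨w, hwE⟩ ^ i * ⟨e, he⟩ ^ j * ⟨f, hfE⟩ ^ l with hs
      have e1 : r = s * (r⁻¹ * s)⁻¹ := by group
      rw [e1]
      refine mul_mem (mul_mem (mul_mem (zpow_mem (subset_closure (by simp)) i)
        (zpow_mem (subset_closure (by simp)) j)) (zpow_mem (subset_closure (by simp)) l))
        (inv_mem (subset_closure ?_))
      right; right; right
      rw [Subgroup.coe_mul, Subgroup.coe_inv, hs]
      simpa only [Subgroup.coe_mul, Subgroup.coe_zpow] using hrl
    have h1 : frattini E ≤ Z1.subgroupOf E := by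
      refine CfsgLib.FrattiniLe.frattini_le_of_pow_of_commutator (p := p) (fun r => ?_) ?_
      · show σ ((r ^ p : E) : G) ∈ zpowers c
        rw [Subgroup.coe_pow, hσ1 (pow_mem_kc 2 _)]; exact one_mem _
      · refine commutator_le_of_generators hEgen.symm fun r hr s hs => ?_
        show σ ((⁅r, s⁆ : E) : G) ∈ zpowers c
        rw [← Subgroup.coe_subtype, map_commutatorElement, map_commutatorElement]
        simp only [Subgroup.coe_subtype]
        have key : ∀ {y : G}, y = w ∨ y ∈ frn E → ∀ z : G ⧸ kc p G 2, ⁅σ y, z⁆ = 1 ∧ ⁅z, σ y⁆ = 1 := by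
          intro y hy z
          have hy' : σ y ∈ center (G ⧸ kc p G 2) := hy.elim (fun e' => e' ▸ hσw) fun hy => hfc hy
          exact ⟨commutatorElement_eq_one_iff_mul_comm.2 (mem_center_iff.1 hy' z).symm,
            commutatorElement_eq_one_iff_mul_comm.2 (mem_center_iff.1 hy' z)⟩
        rcases hr with hr | hr | hr | hr <;> rcases hs with hs | hs | hs | hs
        all_goals first
          | rw [(key (Or.inl hr) _).1]; exact one_mem _
          | rw [(key (Or.inr hr) _).1]; exact one_mem _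
          | rw [(key (Or.inl hs) _).2]; exact one_mem _
          | rw [(key (Or.inr hs) _).2]; exact one_mem _
          | rw [hr, hs, commutatorElement_self]; exact one_mem _
          | rw [hr, hs, ← hc]; exact mem_zpowers c
          | rw [hr, hs, ← commutatorElement_inv, ← hc]; exact inv_mem (mem_zpowers c)
    rintro _ ⟨r, hr, rfl⟩
    exact h1 hr
  by_cases hc1 : c = 1
  · intro r hr
    have := hNZ hr
    rw [hZ1, mem_comap, hc1, zpowers_one_eq_bot, mem_bot] at this
    exact (QuotientGroup.eq_one_iff r).1 this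
  exfalso
  have hf1 : f ≠ 1 := fun e' => hc1 (by rw [hc, e', map_one, commutatorElement_one_right])
  obtain ⟨i, hi⟩ := mem_zpowers_iff.1 (show σ ⁅x, f⁆ ∈ zpowers c from hNZ hfx)
  set x' := σ x * σ e ^ (-i) with hx'
  have hx'f : Commute x' (σ f) := by
    rw [commute_iff_eq, ← commutatorElement_eq_one_iff_mul_comm]
    show commHom (σ f) (fun y => hcc y _) x' = 1
    rw [hx', map_mul, map_zpow]
    show ⁅σ x, σ f⁆ * ⁅σ e, σ f⁆ ^ (-i) = 1
    rw [← map_commutatorElement σ x f, ← hi, ← hc, ← zpow_add, add_neg_cancel, zpow_zero]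
  have hZN : Z1 ≤ frn E := fun r hr => by
    obtain ⟨k, hk⟩ := mem_zpowers_iff.1 (show σ r ∈ zpowers c from hr)
    rw [hcE, ← map_zpow] at hk
    have h1 := mul_mem (zpow_mem (h.comm_frn he hfE) k) (hKN (QuotientGroup.eq.1 hk))
    rwa [mul_inv_cancel_left] at h1
  have hpre : ∀ {T : Subgroup G}, kc p G 2 ≤ T → ∀ {y : G}, σ y ∈ T.map σ → y ∈ T := by
    intro T hT y hy
    obtain ⟨t, ht, hty⟩ := hy
    have h1 := mul_mem ht (hT (QuotientGroup.eq.1 hty))
    rwa [mul_inv_cancel_left] at h1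
  have hK0 : kc p G 2 ≤ P0 := hKN.trans le_sup_right
  refine false_of_four h.pgroup h.rank (kc p G 2) (a := c) (b := σ w) (c := σ f) (d := x') hc1
    (fun hb => hwne (hZN (show σ w ∈ zpowers c from hb))) (fun hb => hf1 (hfind (hpre hK0 ?_)))
    (fun hb => hx ?_) (fun y _ => hσp y) ?_
  · refine (closure_le _).2 ?_ hb
    rintro _ (rfl | rfl)
    · exact ⟨⁅e, f⁆, mem_sup_right (h.comm_frn he hfE), hcE.symm⟩
    · exact ⟨w, mem_sup_left (subset_closure (by simp)), rfl⟩
  · have h1 : x' ∈ E.map σ := by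
      refine (closure_le _).2 ?_ hb
      rintro _ (rfl | rfl | rfl)
      · exact ⟨⁅e, f⁆, frn_le E (h.comm_frn he hfE), hcE.symm⟩
      · exact ⟨w, hwE, rfl⟩
      · exact ⟨f, hfE, rfl⟩
    have h2 : σ x ∈ E.map σ := by
      have := mul_mem h1 (zpow_mem (mem_map_of_mem σ he) i)
      rwa [hx', mul_assoc, ← zpow_add, neg_add_cancel, zpow_zero, mul_one] at this
    exact hpre (hKN.trans (frn_le E)) h2
  · intro y hy z hz
    have hcen : ∀ q ∈ ({c, σ w} : Set (G ⧸ kc p G 2)), ∀ r, Commute q r := by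
      rintro _ (rfl | rfl) r
      · exact (mem_center_iff.1 (hcc _ _) r).symm
      · exact (mem_center_iff.1 hσw r).symm
    rcases hy with rfl | rfl | rfl | rfl
    · exact hcen _ (by simp) z
    · exact hcen _ (by simp) z
    · rcases hz with rfl | rfl | rfl | rfl
      · exact (hcen _ (by simp) _).symm
      · exact (hcen _ (by simp) _).symm
      · rfl
      · exact hx'f.symm
    · rcases hz with rfl | rfl | rfl | rfl
      · exact (hcen _ (by simp) _).symm
      · exact (hcen _ (by simp) _).symm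
      · exact hx'f
      · rfl

end CfsgLib.Fusion.RankThree
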