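import Cfsg.Agent.Lib.Fusion.System.RankThree.PlanePowers
import Cfsg.Agent.Lib.Fusion.System.RankThree.OverQuotient
import Cfsg.Agent.Lib.Fusion.System.RankThree.MaxClassEscape

/-!
# A transvection on a plane with no escape

If `E` modulo its Frattini subgroup is a plane and `E` is not elementary abelian, then no larger
`p`-group in which the automorphisms extend exists: the quotient by `kc p G 3` is of maximal class.
-/

set_option autoImplicit false
set_option linter.style.haveILetI false
set_option linter.unusedSectionVars false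

open Subgroup
open scoped commutatorElement

namespace CfsgLib.Fusion.RankThree

universe u v

variable {G : Type u} [Group G] [Finite G] {R : Type v} [Group R] [Finite R] {p : ℕ} [Fact p.Prime]
  {E : Subgroup G} [E.Normal] {X : Subgroup (MulAut E)} {Γ : Subgroup (MulAut G)} {ι : G →* R}
  {c : R →* MulAut G}

/-- A plane with an escape is elementary abelian. -/
theorem Over.frn_eq_bot_of_plane (hO : Over p E Γ ι c) (hTop : Top p E X Γ) {β : MulAut G} (hβ : β ∈ Γ)
    {x e f : G} {a b : ℤ} (hD : TData p E β x e f a b) (hc : Nat.card E ≤ p ^ 2 * Nat.card (frn E))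
    (hab : ((a * b : ℤ) : ZMod p) = 1) (hb2 : (b : ZMod p) ^ 2 ≠ 1)
    (hb3 : (b : ZMod p) ^ 3 ≠ 1) (hb5 : (b : ZMod p) ^ 5 ≠ 1) : frn E = ⊥ := by
  rcases hD.plane_cases hTop hc hab hb2 with h | ⟨-, hKE, -, x', hx', hM⟩
  · exact h
  exfalso
  set K := kc p G 3 with hK
  set π := QuotientGroup.mk' K with hπ
  haveI : (E.map π).Normal := (inferInstance : E.Normal).map π (QuotientGroup.mk'_surjective _)
  obtain ⟨R', _, _, ι', c', hO'⟩ := hO.quotient K hKE
  refine hO'.false_of_mdata hM (mem_map_of_mem (quotAut K) hβ) hab hb2 hb3 hb5 ?_ ?_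
  · rw [quotAut_mk, ← map_zpow, ← map_inv, ← map_mul]
    exact mem_map_of_mem π hx'
  · rw [quotAut_mk, ← map_zpow, ← map_inv, ← map_mul]
    have hle : kc p G 2 ≤ (commutator (G ⧸ K)).comap π := by
      refine kc_le (fun y => mem_comap.2 ?_) fun q hq => ?_
      · rw [hπ, QuotientGroup.mk'_apply, (QuotientGroup.eq_one_iff _).2 (pow_mem_kc 3 y)]
        exact one_mem _
      · refine mem_comap.2 ?_
        have h1 : q ∈ commutator G := by
          rw [_root_.commutator_def]
          rw [Subgroup.lowerCentralSeries_succ] at hq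
          exact Subgroup.commutator_mono le_top le_top hq
        obtain ⟨h2⟩ : Nonempty ((commutator G).map π ≤ commutator (G ⧸ K)) := ⟨by
          rw [_root_.commutator_def, _root_.commutator_def, Subgroup.map_commutator]
          exact Subgroup.commutator_mono le_top le_top⟩
        exact h2 (mem_map_of_mem π h1)
    exact hle (hD.frn_eq ▸ hD.wte)

end CfsgLib.Fusion.RankThree
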