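import Cfsg.Agent.Lib.Fusion.System.RankThree.JPowerful
import Cfsg.Agent.Lib.Fusion.System.RankThree.MaxClassFourth
import Cfsg.Agent.Lib.PGroup.GenExtraspecialSplit

/-!
# A transvection automizer on two generators

`E` is elementary abelian of order `p²`, or the quotient of `G` by the subgroup generated by the
`p`-th powers and the fourth term of the lower central series has order `p⁴` and maximal class.
-/

set_option autoImplicit false
set_option linter.style.haveILetI false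
set_option linter.unusedSectionVars false

open Subgroup
open scoped commutatorElement

namespace CfsgLib.Fusion.RankThree

open CfsgLib.MaxClassEss (frAct)

universe u

variable {G : Type u} [Group G] [Finite G] {p : ℕ} [Fact p.Prime]
  {E : Subgroup G} [E.Normal] {X : Subgroup (MulAut E)} {Γ : Subgroup (MulAut G)}
  {β : MulAut G} {x e f : G} {a b : ℤ}

/-- The inductive step of the iterated conjugation. -/
theorem pascal_step {A : Type*} [Group A] {W N P V : A} (hWN : Commute W N) (hWP : Commute W P)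
    (hNP : Commute N P) (k i j : ℕ) :
    N ^ k * W ^ k * (P ^ i * N ^ i) * P ^ j * (W * V) = W ^ (k + 1) * N ^ (k + i) * P ^ (i + j) * V := by
  have h1 : Commute (N ^ (k + i) * P ^ (i + j)) W :=
    (hWN.symm.pow_left _).mul_left (hWP.symm.pow_left _)
  calc N ^ k * W ^ k * (P ^ i * N ^ i) * P ^ j * (W * V)
      = (N ^ k * W ^ k) * (P ^ i * N ^ i) * (P ^ j * W) * V := by group
    _ = (W ^ k * N ^ k) * (N ^ i * P ^ i) * (P ^ j * W) * V := by
      rw [(hWN.symm.pow_pow k k).eq, (hNP.symm.pow_pow i i).eq]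
    _ = W ^ k * ((N ^ (k + i) * P ^ (i + j)) * W) * V := by simp only [pow_add, mul_assoc]
    _ = _ := by rw [h1.eq, pow_succ]; simp only [mul_assoc]

/-- The line spanned by `⁅x, e⁆` over the Frattini subgroup of `E`. -/
def wline (E : Subgroup G) (x e : G) : Subgroup G := zpowers ⁅x, e⁆ ⊔ frn E

variable (h : Top p E X Γ) (hD : TData p E β x e f a b) (hc : Nat.card E ≤ p ^ 2 * Nat.card (frn E))
include h hD

theorem TData.comm_w (g : G) : ⁅g, ⁅x, e⁆⁆ ∈ frn E := by
  rw [← commutatorElement_inv]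
  refine inv_mem ?_
  rw [hD.frn_eq]
  refine lcs_le_kc 2 ?_
  rw [Subgroup.lowerCentralSeries_succ, Subgroup.top_lowerCentralSeries_one]
  exact commutator_mem_commutator (by rw [_root_.commutator_def]
                                      exact commutator_mem_commutator (mem_top _) (mem_top _)) (mem_top g)

theorem TData.w_mem : ⁅x, e⁆ ∈ E := by
  rw [commutatorElement_def]
  exact mul_mem ((inferInstance : E.Normal).conj_mem e hD.emem x) (inv_mem hD.emem)

theorem TData.wline_le : wline E x e ≤ E := sup_le (zpowers_le.2 (hD.w_mem h)) (frn_le E)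

theorem TData.wline_normal : (wline E x e).Normal := ⟨fun y hy g => by
  set σ := QuotientGroup.mk' (frn E) with hσ
  obtain ⟨u, hu, n, hn, rfl⟩ := mem_sup_of_normal_right.1 hy
  obtain ⟨k, rfl⟩ := mem_zpowers_iff.1 hu
  have hc : Commute (σ g) (σ ⁅x, e⁆) := by
    rw [commute_iff_eq, ← commutatorElement_eq_one_iff_mul_comm, ← map_commutatorElement]
    exact (QuotientGroup.eq_one_iff _).2 (hD.comm_w h g)
  have h1 : σ (g * (⁅x, e⁆ ^ k * n) * g⁻¹) = σ (⁅x, e⁆ ^ k) := by
    rw [map_mul, map_mul, map_mul, map_inv, show σ n = 1 from (QuotientGroup.eq_one_iff n).2 hn, mul_one,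
      map_zpow, (hc.zpow_right k).eq, mul_inv_cancel_right]
  have := mul_mem (mem_sup_left (T := frn E) (zpow_mem (mem_zpowers ⁅x, e⁆) k))
    (mem_sup_right (S := zpowers ⁅x, e⁆) (QuotientGroup.eq.1 h1.symm))
  rwa [mul_inv_cancel_left] at this⟩

theorem TData.e_notMem : e ∉ wline E x e := fun he => hD.wne (by
  haveI := hD.wline_normal h
  obtain ⟨u, hu, n, hn, hue⟩ := mem_sup_of_normal_right.1 he
  obtain ⟨k, rfl⟩ := mem_zpowers_iff.1 hu
  refine (QuotientGroup.eq_one_iff _).1 ?_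
  show QuotientGroup.mk' (frn E) ⁅x, e⁆ = 1
  rw [map_commutatorElement, commutatorElement_eq_one_iff_mul_comm, ← hue, map_mul, map_zpow,
    show QuotientGroup.mk' (frn E) n = 1 from (QuotientGroup.eq_one_iff n).2 hn, mul_one]
  refine (Commute.zpow_right ?_ k).eq
  rw [commute_iff_eq, ← commutatorElement_eq_one_iff_mul_comm, ← map_commutatorElement]
  exact (QuotientGroup.eq_one_iff _).2 (hD.comm_w h x))

include hc in
theorem TData.card_wline : Nat.card (wline E x e) = p * Nat.card (frn E) ∧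
    Nat.card E = p * Nat.card (wline E x e) := by
  have hp := (Fact.out : p.Prime)
  have m1 : p * Nat.card (frn E) ≤ Nat.card (wline E x e) := CfsgLib.MaxClassCube.mul_card_le h.pgroup
    (lt_of_le_of_ne le_sup_right fun e' => hD.wne (e'.ge (mem_sup_left (mem_zpowers _))))
  have m2 : p * Nat.card (wline E x e) ≤ Nat.card E := CfsgLib.MaxClassCube.mul_card_le h.pgroup
    (lt_of_le_of_ne (hD.wline_le h) fun e' => hD.e_notMem h (e'.ge hD.emem))
  have h1 : Nat.card (wline E x e) = p * Nat.card (frn E) := by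
    refine le_antisymm (Nat.le_of_mul_le_mul_left ((m2.trans hc).trans (le_of_eq ?_)) hp.pos) m1
    ring
  exact ⟨h1, le_antisymm (hc.trans (le_of_eq (by rw [h1]; ring))) m2⟩

include hc in
theorem TData.commutator_le : commutator G ≤ wline E x e := by
  haveI := hD.wline_normal h
  have hgen : ∀ r ∈ E, ∃ j : ℤ, (e ^ j)⁻¹ * r ∈ wline E x e := fun r hr =>
    exists_zpow_inv_mul_mem h.pgroup (hD.wline_le h) (hD.card_wline h hc).2 hD.emem (hD.e_notMem h) hr
  refine commutator_le_of_generators (S := insert x (insert e (wline E x e : Set G))) (eq_top_iff.2 fun y _ => ?_) ?_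
  · obtain ⟨i, r, hr, rfl⟩ := h.decomp hD.xmem y
    obtain ⟨j, hj⟩ := hgen r hr
    rw [show r = e ^ j * ((e ^ j)⁻¹ * r) by group]
    exact mul_mem (zpow_mem (subset_closure (Set.mem_insert _ _)) i) (mul_mem
      (zpow_mem (subset_closure (Set.mem_insert_of_mem _ (Set.mem_insert _ _))) j)
      (subset_closure (Set.mem_insert_of_mem _ (Set.mem_insert_of_mem _ hj))))
  · have h1 : ∀ {u : G}, u ∈ wline E x e → ∀ g : G, ⁅u, g⁆ ∈ wline E x e ∧ ⁅g, u⁆ ∈ wline E x e := by
      intro u hu g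
      constructor <;> rw [commutatorElement_def]
      · rw [mul_assoc u, mul_assoc u]
        exact mul_mem hu ((inferInstance : (wline E x e).Normal).conj_mem _ (inv_mem hu) g)
      · exact mul_mem ((inferInstance : (wline E x e).Normal).conj_mem u hu g) (inv_mem hu)
    have hw : ⁅x, e⁆ ∈ wline E x e := mem_sup_left (mem_zpowers _)
    rintro u (rfl | rfl | hu) v (rfl | rfl | hv)
    all_goals first
      | exact hw
      | exact (h1 hu _).1
      | exact (h1 hv _).2
      | (rw [commutatorElement_self]; exact one_mem _)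
      | (rw [← commutatorElement_inv]; exact inv_mem hw)

include hc in
/-- An invariant subgroup containing the line is `E`. -/
theorem TData.eq_top_of_inv {L : Subgroup G} (hL : wline E x e ≤ L) (hLE : L ≤ E) (hi : InvE X L) :
    L = E := by
  have hp := (Fact.out : p.Prime)
  by_contra hne
  have hLW : wline E x e = L := by
    have h1 := CfsgLib.MaxClassCube.mul_card_le h.pgroup (lt_of_le_of_ne hLE hne)
    rw [(hD.card_wline h hc).2] at h1
    exact eq_of_le_of_card_ge hL (Nat.le_of_mul_le_mul_left h1 hp.pos)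
  subst hLW
  haveI := hD.wline_normal h
  have hflip : ∀ r ∈ E, ⁅x, r⁆ ∈ wline E x e := fun r _ =>
    hD.commutator_le h hc (by rw [_root_.commutator_def]; exact commutator_mem_commutator (mem_top _) (mem_top _))
  refine h.fr_ne_one hD.xmem (h.stab_trivial (A := (wline E x e).subgroupOf E) (B := (wline E x e).subgroupOf E)
    le_rfl (fun α hα r hr => hi α hα r hr) (fun α hα r hr => hi α hα r hr) (h.qle ⟨x, rfl⟩)
    (fun r => sub_mem_of_section (hflip r r.2)) (fun r _ => sub_mem_of_section (hflip r r.2)) fun r hr => ?_)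
  rw [← mem_frn, ← mem_subgroupOf]
  refine sub_mem_of_section ?_
  obtain ⟨u, hu, n, hn, hun⟩ := mem_sup_of_normal_right.1 (show (r : G) ∈ zpowers ⁅x, e⁆ ⊔ frn E from hr)
  obtain ⟨k, rfl⟩ := mem_zpowers_iff.1 hu
  refine (QuotientGroup.eq_one_iff _).1 ?_
  show QuotientGroup.mk' (frn E) ⁅x, (r : G)⁆ = 1
  rw [map_commutatorElement, commutatorElement_eq_one_iff_mul_comm, ← hun, map_mul, map_zpow,
    show QuotientGroup.mk' (frn E) n = 1 from (QuotientGroup.eq_one_iff n).2 hn, mul_one]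
  refine (Commute.zpow_right ?_ k).eq
  rw [commute_iff_eq, ← commutatorElement_eq_one_iff_mul_comm, ← map_commutatorElement]
  exact (QuotientGroup.eq_one_iff _).2 (hD.comm_w h x)

include hc in
/-- The Frattini subgroup of `E` is the derived subgroup. -/
theorem TData.frn_le_commutator : frn E ≤ ⁅E, E⁆ := by
  have hG := h.pgroup
  set R := ⁅E, E⁆ ⊔ frn (frn E) with hR
  have hEN : ⁅E, E⁆ ≤ frn E := Subgroup.commutator_le.2 fun a ha b hb => h.comm_frn ha hb
  have hRN : R ≤ frn E := sup_le hEN (frn_le _)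
  haveI hRn : R.Normal := inferInstance
  set τ := QuotientGroup.mk' R with hτ
  have hτ1 : ∀ {u : G}, u ∈ R → τ u = 1 := fun hu => (QuotientGroup.eq_one_iff _).2 hu
  have hab : ∀ {u v : G}, u ∈ E → v ∈ E → Commute (τ u) (τ v) := fun hu hv => by
    rw [commute_iff_eq, ← commutatorElement_eq_one_iff_mul_comm, ← map_commutatorElement]
    exact hτ1 (mem_sup_left (commutator_mem_commutator hu hv))
  let π : E →* G ⧸ R := MonoidHom.mk' (fun r => τ r ^ p) fun u v => by
    rw [Subgroup.coe_mul, map_mul, (hab u.2 v.2).mul_pow]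
  have hπN : ∀ u : E, (u : G) ∈ frn E → π u = 1 := fun u hu => by
    show τ u ^ p = 1
    rw [← map_pow]; exact hτ1 (mem_sup_right (pow_mem_frn hG hu))
  have hNπ : frn E ≤ π.range.comap τ := frn_le_of (p := p)
    (fun r hr => ⟨⟨r, hr⟩, (map_pow τ r p).symm⟩)
    fun u hu v hv => by
      show τ ⁅u, v⁆ ∈ π.range
      rw [hτ1 (mem_sup_left (commutator_mem_commutator hu hv))]
      exact one_mem _
  have hTπ : ∀ r : E, τ x * π r * (τ x)⁻¹ =
      π ⟨⁅x, (r : G)⁆, hD.wline_le h (hD.commutator_le h hc (by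
        rw [_root_.commutator_def]; exact commutator_mem_commutator (mem_top _) (mem_top _)))⟩ * π r := by
    intro r
    rw [← map_mul π]
    show τ x * τ r ^ p * (τ x)⁻¹ = τ _ ^ p
    rw [← conj_pow, ← map_inv, ← map_mul, ← map_mul]
    refine congrArg (fun y => τ y ^ p) ?_
    show x * (r : G) * x⁻¹ = ⁅x, (r : G)⁆ * r
    rw [commutatorElement_def, inv_mul_cancel_right]
  set wE : E := ⟨⁅x, e⁆, hD.w_mem h⟩ with hwE
  obtain ⟨n, hnN, hn⟩ : ∃ n ∈ frn E, x * ⁅x, e⁆ * x⁻¹ = n * ⁅x, e⁆ :=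
    ⟨⁅x, ⁅x, e⁆⁆, hD.comm_w h x, by rw [commutatorElement_def x ⁅x, e⁆, inv_mul_cancel_right]⟩
  have hTw : τ x * π wE * (τ x)⁻¹ = π wE := by
    rw [hTπ, hπN ⟨⁅x, ⁅x, e⁆⁆, _⟩ (hD.comm_w h x), one_mul]
  obtain ⟨m, hm⟩ : ∃ m : ℤ, τ x * τ n * (τ x)⁻¹ = π wE ^ m * τ n := by
    obtain ⟨r, hr⟩ := hNπ hnN
    have hxr : ⁅x, (r : G)⁆ ∈ wline E x e :=
      hD.commutator_le h hc (by rw [_root_.commutator_def]; exact commutator_mem_commutator (mem_top _) (mem_top _))
    obtain ⟨u, hu, q, hq, huq⟩ := mem_sup_of_normal_right.1 (show ⁅x, (r : G)⁆ ∈ zpowers ⁅x, e⁆ ⊔ frn E from hxr)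
    obtain ⟨k, rfl⟩ := mem_zpowers_iff.1 hu
    refine ⟨k, ?_⟩
    rw [← hr, hTπ]
    congr 1
    rw [← map_zpow, show (⟨⁅x, (r : G)⁆, _⟩ : E) = wE ^ k * ⟨q, frn_le E hq⟩ from Subtype.ext
      (by rw [Subgroup.coe_mul, Subgroup.coe_zpow]; exact huq.symm), map_mul, hπN ⟨q, _⟩ hq, mul_one]
  have hTe : τ x * τ e * (τ x)⁻¹ = τ ⁅x, e⁆ * τ e := by
    rw [← map_inv, ← map_mul, ← map_mul, ← map_mul, commutatorElement_def, inv_mul_cancel_right]
  have hTn : τ x * τ ⁅x, e⁆ * (τ x)⁻¹ = τ n * τ ⁅x, e⁆ := by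
    rw [← map_inv, ← map_mul, ← map_mul, hn, map_mul]
  have hnw : Commute (τ n) (τ ⁅x, e⁆) := hab (frn_le E hnN) (hD.w_mem h)
  have hpn : Commute (π wE) (τ n) := by
    show Commute (τ (wE : G) ^ p) (τ n)
    exact (hab wE.2 (frn_le E hnN)).pow_left p
  have hiter : ∀ k : ℕ, τ x ^ k * τ e * (τ x ^ k)⁻¹ =
      τ ⁅x, e⁆ ^ k * τ n ^ k.choose 2 * (π wE ^ m) ^ k.choose 3 * τ e := by
    intro k
    induction k with
    | zero => simp
    | succ k ih =>
      rw [pow_succ' (τ x), show τ x * τ x ^ k * τ e * (τ x * τ x ^ k)⁻¹ =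
        τ x * (τ x ^ k * τ e * (τ x ^ k)⁻¹) * (τ x)⁻¹ by group, ih, ← conj_mul, ← conj_mul, ← conj_mul,
        ← conj_pow, ← conj_pow, ← conj_pow, hTe, hTn, hm, ← conj_zpow, hTw, hnw.mul_pow,
        (hpn.zpow_left m).mul_pow, show (k + 1).choose 3 = k.choose 2 + k.choose 3 from Nat.choose_succ_succ' k 2,
        show (k + 1).choose 2 = k + k.choose 2 by rw [Nat.choose_succ_succ', Nat.choose_one_right]]
      exact pascal_step hnw.symm ((hab (pow_mem wE.2 p) (hD.w_mem h)).symm |> fun hh => by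
        rw [map_pow] at hh; exact hh.zpow_right m) (hpn.zpow_left m).symm k _ _
  have hp5 := h.five
  have hwp : π wE = 1 := by
    have h1 := hiter p
    have hne : τ n ^ p = 1 := by rw [← map_pow]; exact hτ1 (mem_sup_right (pow_mem_frn hG hnN))
    have hπp : π wE ^ p = 1 := by
      rw [← map_pow]; exact hπN (wE ^ p) (by rw [Subgroup.coe_pow]; exact h.pow_frn wE.2)
    obtain ⟨q, hq⟩ := Nat.Prime.dvd_choose_self (Fact.out : p.Prime) (by norm_num : (2:ℕ) ≠ 0) (by omega)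
    obtain ⟨q', hq'⟩ := Nat.Prime.dvd_choose_self (Fact.out : p.Prime) (by norm_num : (3:ℕ) ≠ 0) (by omega)
    rw [hq, hq', pow_mul, pow_mul, hne, one_pow, mul_one, ← zpow_natCast (π wE ^ m), ← zpow_mul, mul_comm m,
      zpow_mul, zpow_natCast, hπp, one_zpow, one_pow, mul_one, ← map_pow τ x,
      (hab (h.pow_mem x) hD.emem).eq, mul_inv_cancel_right] at h1
    exact mul_eq_right.1 h1.symm
  let L : Subgroup G := π.ker.map E.subtype
  have hiR : InvE X R := invE_of_le (hRN.trans (frn_le E)) fun α hα => sup_le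
    (Subgroup.commutator_le.2 fun u hu v hv => by
      refine ⟨⁅(⟨u, hu⟩ : E), ⟨v, hv⟩⁆, ?_, map_commutatorElement E.subtype _ _⟩
      show E.subtype (α ⁅(⟨u, hu⟩ : E), ⟨v, hv⟩⁆) ∈ R
      rw [map_commutatorElement, map_commutatorElement]
      exact mem_sup_left (commutator_mem_commutator (α ⟨u, hu⟩).2 (α ⟨v, hv⟩).2))
    fun u hu => ⟨⟨u, frn_le E (frn_le _ hu)⟩,
      mem_sup_right (h.invE_frn_frn α hα ⟨u, frn_le E (frn_le _ hu)⟩ hu), rfl⟩
  have hiL : InvE X L := by
    rintro α hα r ⟨r', hr', hrr⟩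
    rw [show r' = r from Subtype.ext hrr] at hr'
    refine ⟨α r, ?_, rfl⟩
    have h1 : (r : G) ^ p ∈ R := (QuotientGroup.eq_one_iff _).1 (show τ ((r : G) ^ p) = 1 by
      rw [map_pow]; exact hr')
    have h2 := hiR α hα (r ^ p) (by rw [Subgroup.coe_pow]; exact h1)
    show τ (α r : G) ^ p = 1
    rw [map_pow, Subgroup.coe_pow] at h2
    rw [← map_pow]
    exact hτ1 h2
  have hL := hD.eq_top_of_inv h hc (L := L) (sup_le (zpowers_le.2 ⟨wE, hwp, rfl⟩)
    fun q hq => ⟨⟨q, frn_le E hq⟩, hπN _ hq, rfl⟩) (map_subtype_le _) hiL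
  have hNR : frn E ≤ R := fun q hq => by
    refine (QuotientGroup.eq_one_iff _).1 ?_
    show τ q = 1
    obtain ⟨r, hr⟩ := hNπ hq
    rw [← hr]
    obtain ⟨r', hr', hrr⟩ := hL.ge r.2
    rw [← show r' = r from Subtype.ext hrr]
    exact hr'
  set N := frn E with hN
  have htop : ⁅E, E⁆.subgroupOf N ⊔ frattini N = ⊤ := by
    refine eq_top_iff.2 fun q _ => ?_
    obtain ⟨u, hu, v, hv, huv⟩ := mem_sup_of_normal_left.1 (hNR q.2)
    obtain ⟨v', hv', rfl⟩ := hv
    rw [show q = ⟨u, hEN hu⟩ * v' from Subtype.ext huv.symm]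
    exact mul_mem (mem_sup_left hu) (mem_sup_right hv')
  intro q hq
  exact (frattini_nongenerating htop).ge (mem_top (⟨q, hq⟩ : N))

include hc in
/-- `E` is elementary abelian, or the quotient by `kc p G 3` is of maximal class. -/
theorem TData.plane_cases (hab : ((a * b : ℤ) : ZMod p) = 1) (hb2 : (b : ZMod p) ^ 2 ≠ 1) :
    frn E = ⊥ ∨ (⁅frn E, E⁆ = kc p G 3 ∧ kc p G 3 ≤ E ∧ Nat.card E = p ^ 3 * Nat.card (kc p G 3) ∧
      ∃ x' : G, (x' ^ (b * b))⁻¹ * β x' ∈ E ∧
        MData p (E.map (QuotientGroup.mk' (kc p G 3))) (QuotientGroup.mk' (kc p G 3) x')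
          (QuotientGroup.mk' (kc p G 3) e)) := by
  have hp := (Fact.out : p.Prime)
  have hG := h.pgroup
  have hab' : (a : ZMod p) * (b : ZMod p) = 1 := by push_cast at hab; exact hab
  by_cases hN : frn E = ⊥
  · exact Or.inl hN
  refine Or.inr ?_
  set L := ⁅frn E, E⁆ with hL
  have hEN : ⁅E, E⁆ ≤ frn E := Subgroup.commutator_le.2 fun u hu v hv => h.comm_frn hu hv
  have hLN : L ≤ frn E := commutator_le_left _ _
  haveI := hD.wline_normal h
  set σ := QuotientGroup.mk' L with hσ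
  have hσ1 : ∀ {u : G}, u ∈ L → σ u = 1 := fun hu => (QuotientGroup.eq_one_iff _).2 hu
  have hcen : ∀ {n u : G}, n ∈ frn E → u ∈ E → Commute (σ n) (σ u) := fun hn hu => by
    rw [commute_iff_eq, ← commutatorElement_eq_one_iff_mul_comm, ← map_commutatorElement]
    exact hσ1 (commutator_mem_commutator hn hu)
  set d := ⁅e, ⁅x, e⁆⁆ with hd
  have hdN : d ∈ frn E := h.comm_frn hD.emem (hD.w_mem h)
  have hgen : ∀ r ∈ E, ∃ j k : ℤ, ∃ q ∈ frn E, r = e ^ j * (⁅x, e⁆ ^ k * q) := fun r hr => by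
    obtain ⟨j, hj⟩ := exists_zpow_inv_mul_mem hG (hD.wline_le h) (hD.card_wline h hc).2 hD.emem
      (hD.e_notMem h) hr
    obtain ⟨k, hk⟩ := exists_zpow_inv_mul_mem hG (le_sup_right : frn E ≤ wline E x e) (hD.card_wline h hc).1
      (mem_sup_left (mem_zpowers _)) hD.wne hj
    exact ⟨j, k, _, hk, by group⟩
  haveI hdn : (zpowers (σ d) ⊔ ⊥ : Subgroup (G ⧸ L)).Normal → True := fun _ => trivial
  have hdfix : ∀ g : G, Commute (σ g) (σ d) ∨ True := fun _ => Or.inr trivial
  -- the Frattini subgroup modulo `L`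
  have hcomm : ∀ u ∈ E, ∀ v ∈ E, σ ⁅u, v⁆ ∈ zpowers (σ d) := by
    intro u hu v hv
    have hc1 : ∀ u : G, u ∈ E → ∀ v ∈ E, ⁅σ u, σ v⁆ ∈ centralizer (σ '' (E : Set G)) := fun u hu v hv => by
      refine mem_centralizer_iff.2 ?_
      rintro _ ⟨t, ht, rfl⟩
      rw [← map_commutatorElement]
      exact (hcen (h.comm_frn hu hv) ht).eq.symm
    obtain ⟨j, k, q, hq, rfl⟩ := hgen u hu
    obtain ⟨j', k', q', hq', rfl⟩ := hgen v hv
    have hsplit : ∀ {s t r : G}, s ∈ E → t ∈ E → r ∈ E → σ ⁅s * t, r⁆ = σ ⁅s, r⁆ * σ ⁅t, r⁆ ∧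
        σ ⁅r, s * t⁆ = σ ⁅r, s⁆ * σ ⁅r, t⁆ := by
      intro s t r hs ht hr
      constructor
      · rw [show ⁅s * t, r⁆ = s * ⁅t, r⁆ * s⁻¹ * ⁅s, r⁆ by simp only [commutatorElement_def]; group, map_mul,
          map_mul, map_mul, map_inv, ← (hcen (h.comm_frn ht hr) hs).eq, mul_inv_cancel_right,
          (hcen (h.comm_frn ht hr) ?_).eq]
        exact frn_le E (h.comm_frn hs hr)
      · rw [show ⁅r, s * t⁆ = ⁅r, s⁆ * (s * ⁅r, t⁆ * s⁻¹) by simp only [commutatorElement_def]; group, map_mul,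
          map_mul, map_mul, map_inv, ← (hcen (h.comm_frn hr ht) hs).eq, mul_inv_cancel_right]
    have hcl : ∀ r ∈ E, E ≤ E → (∀ t ∈ ({e, ⁅x, e⁆} : Set G), σ ⁅t, r⁆ ∈ zpowers (σ d)) →
        ∀ j k : ℤ, ∀ q ∈ frn E, σ ⁅e ^ j * (⁅x, e⁆ ^ k * q), r⁆ ∈ zpowers (σ d) := by
      intro r hr _ hgens j k q hq
      let F : E →* G ⧸ L := MonoidHom.mk' (fun t => σ ⁅(t : G), r⁆) fun s t => (hsplit s.2 t.2 hr).1
      have h1 : σ ⁅e ^ j * (⁅x, e⁆ ^ k * q), r⁆ =
          F ⟨e, hD.emem⟩ ^ j * (F ⟨⁅x, e⁆, hD.w_mem h⟩ ^ k * F ⟨q, frn_le E hq⟩) := by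
        rw [← map_zpow, ← map_zpow, ← map_mul, ← map_mul]; rfl
      rw [h1]
      refine mul_mem (zpow_mem (hgens e (by simp)) _) (mul_mem (zpow_mem (hgens _ (by simp)) _) ?_)
      show σ ⁅q, r⁆ ∈ _
      rw [hσ1 (commutator_mem_commutator hq hr)]; exact one_mem _
    refine hcl _ hv le_rfl ?_ j k q hq
    intro t ht
    have htE : t ∈ E := by rcases ht with rfl | rfl; exacts [hD.emem, hD.w_mem h]
    rw [← commutatorElement_inv, map_inv]
    refine inv_mem (hcl t htE le_rfl ?_ j' k' q' hq')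
    intro s hs
    rcases ht with rfl | rfl <;> rcases hs with rfl | rfl
    · rw [commutatorElement_self, map_one]; exact one_mem _
    · rw [← commutatorElement_inv, map_inv]; exact inv_mem (mem_zpowers _)
    · exact mem_zpowers _
    · rw [commutatorElement_self, map_one]; exact one_mem _
  have hdp : σ d ^ p = 1 := by
    let F : E →* G ⧸ L := MonoidHom.mk' (fun t => σ ⁅(t : G), ⁅x, e⁆⁆) fun s t => by
      show σ ⁅(s : G) * t, ⁅x, e⁆⁆ = _
      rw [show ⁅(s : G) * t, ⁅x, e⁆⁆ = s * ⁅(t : G), ⁅x, e⁆⁆ * (s : G)⁻¹ * ⁅(s : G), ⁅x, e⁆⁆ by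
        simp only [commutatorElement_def]; group, map_mul,
        map_mul, map_mul, map_inv, ← (hcen (h.comm_frn t.2 (hD.w_mem h)) s.2).eq, mul_inv_cancel_right,
        (hcen (h.comm_frn t.2 (hD.w_mem h)) ?_).eq]
      exact frn_le E (h.comm_frn s.2 (hD.w_mem h))
    show F ⟨e, hD.emem⟩ ^ p = 1
    rw [← map_pow]
    show σ ⁅((⟨e, hD.emem⟩ ^ p : E) : G), ⁅x, e⁆⁆ = 1
    rw [Subgroup.coe_pow]
    exact hσ1 (commutator_mem_commutator (h.pow_frn hD.emem) (hD.w_mem h))
  have hNd : ∀ q ∈ frn E, σ q ∈ zpowers (σ d) := fun q hq => by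
    have hle : ⁅E, E⁆ ≤ (zpowers (σ d)).comap σ := Subgroup.commutator_le.2 hcomm
    exact hle (hD.frn_le_commutator h hc hq)
  have hd1 : σ d ≠ 1 := fun h1 => hN (by
    have hle : frn E ≤ L := fun q hq => by
      refine (QuotientGroup.eq_one_iff _).1 ?_
      have := hNd q hq
      rw [h1, zpowers_one_eq_bot, mem_bot] at this
      exact this
    refine eq_bot_iff.2 (le_of_le_sup_commutator hG (R := (⊥ : Subgroup G)) ?_)
    exact hle.trans ((commutator_mono le_rfl le_top).trans le_sup_right))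
  have hcardN : Nat.card (frn E) = p * Nat.card L := by
    refine le_antisymm ?_ (CfsgLib.MaxClassCube.mul_card_le hG (lt_of_le_of_ne hLN fun e' =>
      hd1 (hσ1 (e'.ge hdN))))
    have e1 := Subgroup.relIndex_mul_relIndex ⊥ L (frn E) bot_le hLN
    rw [relIndex_bot_left, relIndex_bot_left] at e1
    rw [← e1, mul_comm p]
    refine Nat.mul_le_mul_left _ ?_
    rw [show L.relIndex (frn E) = Nat.card ((frn E).map σ) by
      rw [← Subgroup.relIndex_ker, QuotientGroup.ker_mk']]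
    refine (Subgroup.card_le_of_le (show (frn E).map σ ≤ zpowers (σ d) from ?_)).trans ?_
    · rintro _ ⟨q, hq, rfl⟩; exact hNd q hq
    · rw [Nat.card_zpowers]; exact Nat.le_of_dvd hp.pos (orderOf_dvd_of_pow_eq_one hdp)
  have hNG : ∀ q ∈ frn E, ∀ g : G, ⁅g, q⁆ ∈ L := by
    intro q hq g
    have hle : L ⊔ ⁅frn E, (⊤ : Subgroup G)⁆ ≤ L := by
      by_cases he' : L ⊔ ⁅frn E, (⊤ : Subgroup G)⁆ = frn E
      · exact he'.le.trans (le_of_le_sup_commutator hG he'.ge)
      · have h1 := CfsgLib.MaxClassCube.mul_card_le hG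
          (lt_of_le_of_ne (sup_le hLN (commutator_le_left _ ⊤)) he')
        rw [hcardN] at h1
        exact (eq_of_le_of_card_ge le_sup_left (Nat.le_of_mul_le_mul_left h1 hp.pos)).ge
    rw [← commutatorElement_inv]
    exact inv_mem (hle (mem_sup_right (commutator_mem_commutator hq (mem_top g))))
  have hdc : ∀ g : G, Commute (σ g) (σ d) := fun g => by
    rw [commute_iff_eq, ← commutatorElement_eq_one_iff_mul_comm, ← map_commutatorElement]
    exact hσ1 (hNG d hdN g)
  -- exponent of `E` modulo `L`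
  have hmulp : ∀ {u v : G}, u ∈ E → v ∈ E → σ (u * v) ^ p = σ u ^ p * σ v ^ p := by
    intro u v hu hv
    rw [map_mul]
    refine mul_pow_eq_of_central_commutator hp h.odd (c := σ ⁅v, u⁆) ?_ (hcen (h.comm_frn hv hu) hu)
      (hcen (h.comm_frn hv hu) hv) ?_
    · rw [← map_mul, ← map_mul, ← map_mul, commutatorElement_def]; congr 1; group
    · obtain ⟨k, hk⟩ := mem_zpowers_iff.1 (hcomm v hv u hu)
      rw [← hk, ← zpow_natCast, ← zpow_mul, mul_comm, zpow_mul, zpow_natCast, hdp, one_zpow]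
  let π : E →* G ⧸ L := MonoidHom.mk' (fun r => σ r ^ p) fun u v => by
    rw [Subgroup.coe_mul, hmulp u.2 v.2]
  have hπN : ∀ u : E, (u : G) ∈ frn E → π u = 1 := fun u hu => by
    obtain ⟨k, hk⟩ := mem_zpowers_iff.1 (hNd u hu)
    show σ u ^ p = 1
    rw [← hk, ← zpow_natCast, ← zpow_mul, mul_comm, zpow_mul, zpow_natCast, hdp, one_zpow]
  have hπd : ∀ u : E, ∃ k : ℤ, π u = σ d ^ k := fun u => by
    obtain ⟨k, hk⟩ := mem_zpowers_iff.1 (hNd _ (h.pow_frn u.2))
    exact ⟨k, by rw [hk, map_pow]; rfl⟩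
  have hπw : π ⟨⁅x, e⁆, hD.w_mem h⟩ = 1 := by
    obtain ⟨k, hk⟩ := hπd ⟨e, hD.emem⟩
    have h1 : σ x * σ e ^ p * (σ x)⁻¹ = σ ⁅x, e⁆ ^ p * σ e ^ p := by
      rw [← hmulp (hD.w_mem h) hD.emem, ← conj_pow, ← map_inv, ← map_mul, ← map_mul, commutatorElement_def,
        inv_mul_cancel_right]
    change σ e ^ p = _ at hk
    rw [hk, ((hdc x).zpow_right k).eq, mul_inv_cancel_right, ← hk] at h1
    exact mul_eq_right.1 h1.symm
  let K : Subgroup G := π.ker.map E.subtype
  have hiLE : InvE X L := invE_of_le (hLN.trans (frn_le E)) fun α hα => Subgroup.commutator_le.2 fun u hu v hv => by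
    refine ⟨⁅(⟨u, frn_le E hu⟩ : E), ⟨v, hv⟩⁆, ?_, map_commutatorElement E.subtype _ _⟩
    show E.subtype (α ⁅(⟨u, frn_le E hu⟩ : E), ⟨v, hv⟩⁆) ∈ L
    rw [map_commutatorElement, map_commutatorElement]
    exact commutator_mem_commutator (h.invE_frn α hα ⟨u, frn_le E hu⟩ hu) (α ⟨v, hv⟩).2
  have hiK : InvE X K := by
    rintro α hα r ⟨r', hr', hrr⟩
    rw [show r' = r from Subtype.ext hrr] at hr'
    refine ⟨α r, ?_, rfl⟩
    have h1 : (r : G) ^ p ∈ L := (QuotientGroup.eq_one_iff _).1 (show σ ((r : G) ^ p) = 1 by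
      rw [map_pow]; exact hr')
    have h2 := hiLE α hα (r ^ p) (by rw [Subgroup.coe_pow]; exact h1)
    show σ (α r : G) ^ p = 1
    rw [map_pow, Subgroup.coe_pow] at h2
    rw [← map_pow]
    exact hσ1 h2
  have hK := hD.eq_top_of_inv h hc (L := K) (sup_le (zpowers_le.2 ⟨⟨_, hD.w_mem h⟩, hπw, rfl⟩)
    fun q hq => ⟨⟨q, frn_le E hq⟩, hπN _ hq, rfl⟩) (map_subtype_le _) hiK
  have hexpE : ∀ r ∈ E, σ r ^ p = 1 := fun r hr => by
    obtain ⟨r', hr', hrr⟩ := hK.ge hr
    rw [← hrr]; exact hr'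
  -- exponent of `G` modulo `L`
  have hW : commutator G ≤ wline E x e := hD.commutator_le h hc
  have hcomG : ∀ u ∈ commutator (G ⧸ L), ∃ v ∈ wline E x e, σ v = u := by
    intro u hu
    rw [_root_.commutator_def, ← map_top_of_surjective σ (QuotientGroup.mk'_surjective _),
      ← map_commutator] at hu
    obtain ⟨v, hv, rfl⟩ := hu
    exact ⟨v, hW (by rwa [_root_.commutator_def]), rfl⟩
  have hcl : ⁅⁅commutator (G ⧸ L), (⊤ : Subgroup (G ⧸ L))⁆, (⊤ : Subgroup (G ⧸ L))⁆ = ⊥ := by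
    refine eq_bot_iff.2 (Subgroup.commutator_le.2 fun u hu g _ => ?_)
    have hu' : u ∈ (frn E).map σ := (Subgroup.commutator_le.2 fun v hv t _ => by
      obtain ⟨v, hvW, rfl⟩ := hcomG v hv
      obtain ⟨t, rfl⟩ := QuotientGroup.mk'_surjective _ t
      rw [← map_commutatorElement]
      refine mem_map_of_mem σ ?_
      obtain ⟨u', hu', q, hq, rfl⟩ := mem_sup_of_normal_right.1 (show v ∈ zpowers ⁅x, e⁆ ⊔ frn E from hvW)
      obtain ⟨k, rfl⟩ := mem_zpowers_iff.1 hu'
      refine (QuotientGroup.eq_one_iff _).1 ?_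
      show QuotientGroup.mk' (frn E) ⁅⁅x, e⁆ ^ k * q, t⁆ = 1
      rw [map_commutatorElement, commutatorElement_eq_one_iff_mul_comm, map_mul, map_zpow,
        show QuotientGroup.mk' (frn E) q = 1 from (QuotientGroup.eq_one_iff q).2 hq, mul_one]
      refine (Commute.zpow_left ?_ k).eq
      symm
      rw [commute_iff_eq, ← commutatorElement_eq_one_iff_mul_comm, ← map_commutatorElement]
      exact (QuotientGroup.eq_one_iff _).2 (hD.comm_w h t) :
      ⁅commutator (G ⧸ L), (⊤ : Subgroup (G ⧸ L))⁆ ≤ (frn E).map σ) hu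
    obtain ⟨q, hq, rfl⟩ := hu'
    obtain ⟨g, rfl⟩ := QuotientGroup.mk'_surjective _ g
    rw [← map_commutatorElement, mem_bot, ← commutatorElement_inv, map_inv, inv_eq_one]
    exact hσ1 (hNG q hq g)
  have hexpC : ∀ u ∈ commutator (G ⧸ L), u ^ p = 1 := fun u hu => by
    obtain ⟨v, hv, rfl⟩ := hcomG u hu
    exact hexpE v (hD.wline_le h hv)
  obtain ⟨k, hk⟩ := mem_zpowers_iff.1 (hNd (x ^ p) (hD.frn_eq ▸ pow_mem_kc 2 x))
  have hβN : ∀ q ∈ frn E, β q ∈ frn E := fun q hq => by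
    rw [hD.frn_eq] at hq ⊢
    exact characteristic_iff_map_le.1 (inferInstance : (kc p G 2).Characteristic) β ⟨q, hq, rfl⟩
  have hβL : ∀ q ∈ L, β q ∈ L := fun q hq => by
    have hle : L ≤ L.comap β.toMonoidHom := Subgroup.commutator_le.2 fun u hu v hv => by
      show β ⁅u, v⁆ ∈ L
      rw [map_commutatorElement]
      exact commutator_mem_commutator (hβN u hu) (hD.invE v hv)
    exact hle hq
  have hσβ : ∀ {u v : G}, σ u = σ v → σ (β u) = σ (β v) := fun {u v} huv => by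
    refine QuotientGroup.eq.2 ?_
    rw [← map_inv, ← map_mul]
    exact hβL _ (QuotientGroup.eq.1 huv)
  have hσβd : σ (β d) = σ d := by
    have he' : β e = e ^ a * ((e ^ a)⁻¹ * β e) := by group
    have hw' : β ⁅x, e⁆ = ⁅x, e⁆ ^ b * ((⁅x, e⁆ ^ b)⁻¹ * β ⁅x, e⁆) := by group
    rw [hd, map_commutatorElement β, map_commutatorElement σ, he', hw', map_mul σ (e ^ a),
      map_mul σ (⁅x, e⁆ ^ b), map_zpow σ e, map_zpow σ ⁅x, e⁆]
    have hcN : ∀ {q : G}, q ∈ frn E → σ q ∈ center (G ⧸ L) := fun {q} hq => mem_center_iff.2 fun u => by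
      obtain ⟨u, rfl⟩ := QuotientGroup.mk'_surjective _ u
      refine commutatorElement_eq_one_iff_mul_comm.1 ?_
      rw [← map_commutatorElement]; exact hσ1 (hNG q hq u)
    have hdrop : ∀ (A B : G ⧸ L) {z z' : G ⧸ L}, z ∈ center (G ⧸ L) → z' ∈ center (G ⧸ L) →
        ⁅A * z, B * z'⁆ = ⁅A, B⁆ := by
      intro A B z z' hz hz'
      calc ⁅A * z, B * z'⁆ = A * (z * (B * z') * z⁻¹) * A⁻¹ * (B * z')⁻¹ := by
            simp only [commutatorElement_def]; group
        _ = A * (B * z') * A⁻¹ * (B * z')⁻¹ := by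
            rw [← (mem_center_iff.1 hz (B * z')), mul_inv_cancel_right]
        _ = A * B * (z' * A⁻¹ * z'⁻¹) * B⁻¹ := by group
        _ = ⁅A, B⁆ := by rw [← mem_center_iff.1 hz' A⁻¹, mul_inv_cancel_right, commutatorElement_def]
    rw [hdrop _ _ (hcN hD.wte) (hcN hD.wtw)]
    have hcu : ∀ {u : G}, u ∈ E → ∀ v : G ⧸ L, v ∈ E.map σ → ⁅σ u, v⁆ ∈ center (G ⧸ L) := by
      rintro u hu _ ⟨v, hv, rfl⟩
      rw [← map_commutatorElement]; exact hcN (h.comm_frn hu hv)
    have hpw : ∀ (j l : ℕ), ⁅σ e ^ j, σ ⁅x, e⁆ ^ l⁆ = ⁅σ e, σ ⁅x, e⁆⁆ ^ (j * l) := by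
      intro j l
      have hj : ∀ j : ℕ, ⁅σ e ^ j, σ ⁅x, e⁆⁆ = ⁅σ e, σ ⁅x, e⁆⁆ ^ j := by
        intro j
        induction j with
        | zero => simp
        | succ j ih =>
          rw [pow_succ', show ⁅σ e * σ e ^ j, σ ⁅x, e⁆⁆ = σ e * ⁅σ e ^ j, σ ⁅x, e⁆⁆ * (σ e)⁻¹ * ⁅σ e, σ ⁅x, e⁆⁆ by
            simp only [commutatorElement_def]; group, ih,
            mem_center_iff.1 ((center _).pow_mem (hcu hD.emem _ (mem_map_of_mem σ (hD.w_mem h))) j) (σ e),
            mul_inv_cancel_right, ← pow_succ]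
      induction l with
      | zero => simp
      | succ l ih =>
        rw [pow_succ, show ⁅σ e ^ j, σ ⁅x, e⁆ ^ l * σ ⁅x, e⁆⁆ = ⁅σ e ^ j, σ ⁅x, e⁆ ^ l⁆ *
          (σ ⁅x, e⁆ ^ l * ⁅σ e ^ j, σ ⁅x, e⁆⁆ * (σ ⁅x, e⁆ ^ l)⁻¹) by simp only [commutatorElement_def]; group, ih,
          hj, mem_center_iff.1 ((center _).pow_mem (hcu hD.emem _ (mem_map_of_mem σ (hD.w_mem h))) j),
          mul_inv_cancel_right, ← pow_add, Nat.mul_succ]
    obtain ⟨j, hj⟩ : ∃ j : ℕ, (j : ZMod p) = a := ⟨((a : ZMod p)).val, ZMod.natCast_zmod_val _⟩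
    obtain ⟨l, hl⟩ : ∃ l : ℕ, (l : ZMod p) = b := ⟨((b : ZMod p)).val, ZMod.natCast_zmod_val _⟩
    rw [LineTorus.zpow_congr (hexpE e hD.emem) (r := a) (s := (j : ℤ)) (by push_cast; rw [hj]),
      LineTorus.zpow_congr (hexpE _ (hD.w_mem h)) (r := b) (s := (l : ℤ)) (by push_cast; rw [hl]),
      zpow_natCast, zpow_natCast, hpw, ← map_commutatorElement, ← hd, ← zpow_natCast]
    conv_rhs => rw [← zpow_one (σ d)]
    refine LineTorus.zpow_congr hdp ?_
    push_cast; rw [hj, hl, hab']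
  have hxp : σ x ^ p = 1 := by
    have h1 : σ (β x) ^ p = (σ x ^ p) ^ (b * b) := by
      rw [show β x = x ^ (b * b) * ((x ^ (b * b))⁻¹ * β x) by group, map_mul σ,
        mul_pow_class_three h.five hcl hexpC, hexpE _ hD.wtx, mul_one, map_zpow, ← zpow_natCast, ← zpow_mul,
        mul_comm, zpow_mul, zpow_natCast]
    have h2 : σ (β x) ^ p = σ d ^ k := by
      rw [← map_pow, ← map_pow, hσβ (u := x ^ p) (v := d ^ k) (by rw [map_zpow]; exact hk.symm), map_zpow,
        map_zpow, hσβd]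
    rw [h2, ← map_pow, ← hk, ← zpow_mul] at h1
    have h3 := LineTorus.cast_of_zpow_eq hdp hd1 h1
    push_cast at h3
    have hk0 : (k : ZMod p) = 0 := by
      have h4 : (k : ZMod p) * ((b : ZMod p) ^ 2 - 1) = 0 := by linear_combination -h3
      exact (mul_eq_zero.1 h4).resolve_right (sub_ne_zero.2 hb2)
    rw [← map_pow, ← hk, LineTorus.zpow_congr hdp (r := k) (s := 0) (by simpa using hk0), zpow_zero]
  have hexp : ∀ y : G, σ y ^ p = 1 := fun y => by
    obtain ⟨i, r, hr, rfl⟩ := h.decomp hD.xmem y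
    rw [map_mul, mul_pow_class_three h.five hcl hexpC, hexpE r hr, mul_one, map_zpow, ← zpow_natCast, ← zpow_mul,
      mul_comm, zpow_mul, zpow_natCast, hxp, one_zpow]
  have hLeq : L = kc p G 3 := by
    refine le_antisymm ?_ (kc_le (fun y => (QuotientGroup.eq_one_iff _).1 (show σ (y ^ p) = 1 by
      rw [map_pow]; exact hexp y)) ?_)
    · rw [hL, hD.frn_eq]
      have hle : kc p G 2 ≤ (centralizer ((QuotientGroup.mk' (kc p G 3)) '' (E : Set G))).comap
          (QuotientGroup.mk' (kc p G 3)) := by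
        refine kc_le (fun y => ?_) fun q hq => ?_
        · refine mem_comap.2 ?_
          rw [show QuotientGroup.mk' (kc p G 3) (y ^ p) = 1 from (QuotientGroup.eq_one_iff _).2 (pow_mem_kc 3 y)]
          exact one_mem _
        · refine mem_centralizer_iff.2 ?_
          rintro _ ⟨t, _, rfl⟩
          refine (commutatorElement_eq_one_iff_mul_comm.1 ?_).symm
          rw [← map_commutatorElement]
          refine (QuotientGroup.eq_one_iff _).2 (lcs_le_kc 3 ?_)
          rw [Subgroup.lowerCentralSeries_succ]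
          exact commutator_mem_commutator hq (mem_top t)
      refine Subgroup.commutator_le.2 fun q hq t ht => (QuotientGroup.eq_one_iff _).1 ?_
      show QuotientGroup.mk' (kc p G 3) ⁅q, t⁆ = 1
      rw [map_commutatorElement, commutatorElement_eq_one_iff_mul_comm]
      exact (mem_centralizer_iff.1 (hle hq) _ ⟨t, ht, rfl⟩).symm
    · refine fun y hy => (QuotientGroup.eq_one_iff _).1 ?_
      show σ y = 1
      have h4 : (⊤ : Subgroup G).lowerCentralSeries 3 ≤ L := by
        have h2 : (⊤ : Subgroup G).lowerCentralSeries 2 ≤ frn E := hD.frn_eq ▸ lcs_le_kc 2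
        rw [Subgroup.lowerCentralSeries_succ]
        refine Subgroup.commutator_le.2 fun q hq t _ => ?_
        rw [← commutatorElement_inv]
        exact inv_mem (hNG q (h2 hq) t)
      exact hσ1 (h4 hy)
  have hcardE : Nat.card E = p ^ 3 * Nat.card L := by
    rw [(hD.card_wline h hc).2, (hD.card_wline h hc).1, hcardN]; ring
  refine ⟨hLeq, ?_⟩
  suffices hs : ∀ (K : Subgroup G) [K.Normal], K = L → K ≤ E ∧ Nat.card E = p ^ 3 * Nat.card K ∧
      ∃ x', (x' ^ (b * b))⁻¹ * β x' ∈ E ∧ MData p (E.map (QuotientGroup.mk' K)) (QuotientGroup.mk' K x')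
        (QuotientGroup.mk' K e) from hs _ hLeq.symm
  rintro K hKn rfl
  -- correct `x`
  obtain ⟨m, hm⟩ := mem_zpowers_iff.1 (hNd _ (hD.comm_w h x))
  refine ⟨(hLN.trans (frn_le E)), hcardE, x * e ^ (-m), ?_, ?_⟩
  · refine (QuotientGroup.eq (s := E)).1 ?_
    show QuotientGroup.mk' E _ = QuotientGroup.mk' E _
    have hE1 : ∀ {q : G}, q ∈ E → QuotientGroup.mk' E q = 1 := fun hq => (QuotientGroup.eq_one_iff _).2 hq
    rw [map_zpow, map_mul, map_mul, map_mul, hE1 (zpow_mem hD.emem _), hE1 (hD.invE _ (zpow_mem hD.emem _)),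
      mul_one, mul_one, ← map_zpow]
    exact QuotientGroup.eq.2 hD.wtx
  haveI hEn : (E.map σ).Normal := (inferInstance : E.Normal).map σ (QuotientGroup.mk'_surjective _)
  have hmem : ∀ {r : G}, σ r ∈ E.map σ → r ∈ E := fun {r} hr => by
    obtain ⟨t, ht, htr⟩ := hr
    have h1 := mul_mem ht (frn_le E (hLN (QuotientGroup.eq.1 htr)))
    rwa [mul_inv_cancel_left] at h1
  have hw' : ⁅σ (x * e ^ (-m)), σ e⁆ = σ ⁅x, e⁆ := by
    rw [← map_commutatorElement]
    congr 1
    simp only [commutatorElement_def]; group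
  have hcE : Nat.card (E.map σ) = p ^ 3 := by
    have e1 := Subgroup.relIndex_mul_relIndex ⊥ L E bot_le (hLN.trans (frn_le E))
    rw [relIndex_bot_left, relIndex_bot_left, hcardE, mul_comm (p ^ 3)] at e1
    rw [← Nat.eq_of_mul_eq_mul_left Nat.card_pos e1, ← Subgroup.relIndex_ker, QuotientGroup.ker_mk']
  exact
    { exp := fun u => by obtain ⟨g, rfl⟩ := QuotientGroup.mk'_surjective _ u; exact hexp g
      cardE := hcE
      index := by
        refine Nat.eq_of_mul_eq_mul_right (Nat.card_pos (α := L)) ?_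
        rw [← card_eq_card_quotient_mul_card_subgroup L, h.index, hcE, mul_assoc, ← hcardE]
      xmem := fun hm' => hD.xmem (by
        have := mul_mem (hmem hm') (inv_mem (zpow_mem hD.emem (-m)))
        rwa [mul_inv_cancel_right] at this)
      emem := mem_map_of_mem σ hD.emem
      wmem := hw' ▸ mem_map_of_mem σ (hD.w_mem h)
      xw := by
        rw [hw', commute_iff_eq, ← commutatorElement_eq_one_iff_mul_comm, ← map_commutatorElement,
          show ⁅x * e ^ (-m), ⁅x, e⁆⁆ = x * ⁅e ^ (-m), ⁅x, e⁆⁆ * x⁻¹ * ⁅x, ⁅x, e⁆⁆ by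
            simp only [commutatorElement_def]; group, map_mul, map_mul, map_mul, map_inv, ← hm]
        let F : E →* G ⧸ L := MonoidHom.mk' (fun t => σ ⁅(t : G), ⁅x, e⁆⁆) fun s t => by
          show σ ⁅(s : G) * t, ⁅x, e⁆⁆ = _
          rw [show ⁅(s : G) * t, ⁅x, e⁆⁆ = s * ⁅(t : G), ⁅x, e⁆⁆ * (s : G)⁻¹ * ⁅(s : G), ⁅x, e⁆⁆ by
            simp only [commutatorElement_def]; group, map_mul,
            map_mul, map_mul, map_inv, ← (hcen (h.comm_frn t.2 (hD.w_mem h)) s.2).eq, mul_inv_cancel_right,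
            (hcen (h.comm_frn t.2 (hD.w_mem h)) ?_).eq]
          exact frn_le E (h.comm_frn s.2 (hD.w_mem h))
        rw [show σ ⁅e ^ (-m), ⁅x, e⁆⁆ = σ d ^ (-m) from map_zpow F ⟨e, hD.emem⟩ (-m),
          ((hdc x).zpow_right (-m)).eq, mul_inv_cancel_right, ← zpow_add, neg_add_cancel, zpow_zero]
      dne := by rw [hw', ← map_commutatorElement]; exact hd1
      dc := by
        rw [hw', ← map_commutatorElement]
        exact mem_center_iff.2 fun u => by
          obtain ⟨u, rfl⟩ := QuotientGroup.mk'_surjective _ u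
          exact (hdc u).eq
      decomp := fun u => by
        obtain ⟨g, rfl⟩ := QuotientGroup.mk'_surjective _ u
        have hx' : x * e ^ (-m) ∉ E := fun hm' => hD.xmem (by
          have := mul_mem hm' (inv_mem (zpow_mem hD.emem (-m)))
          rwa [mul_inv_cancel_right] at this)
        obtain ⟨A, r, hr, rfl⟩ := h.decomp hx' g
        exact ⟨A, σ r, mem_map_of_mem σ hr, by rw [map_mul σ _ r, map_zpow]⟩ }

end CfsgLib.Fusion.RankThree
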