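import Cfsg.Agent.Lib.PGroup.MaxClassCube
import Cfsg.Agent.Lib.PGroup.ClassThreePower
import Cfsg.Agent.Lib.Coprime.PGroupFrattini
import Cfsg.Agent.Lib.PGroup.FrattiniLe
import Cfsg.Prelude.Def_CaseTheorems
import Mathlib.GroupTheory.Nilpotent
import Mathlib.GroupTheory.QuotientGroup.Basic

/-!
# Tools for `p`-groups of sectional rank at most three

Absorption in nilpotent groups, elementary abelian sections of order `p⁴`, and multiplicative
`p`-th powers in class at most three.
-/

set_option autoImplicit false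
set_option linter.style.haveILetI false
set_option linter.unusedSectionVars false

open Subgroup
open scoped commutatorElement

namespace CfsgLib.Fusion.RankThree

universe u

variable {G : Type u} [Group G] [Finite G] {p : ℕ} [Fact p.Prime]

/-- A subgroup contained in `R` times its commutator with the whole group lies in `R`. -/
theorem le_of_le_sup_commutator (hG : IsPGroup p G) {N R : Subgroup G} [R.Normal]
    (h : N ≤ R ⊔ ⁅N, (⊤ : Subgroup G)⁆) : N ≤ R := by
  haveI := hG.isNilpotent
  obtain ⟨n, hn⟩ := Subgroup.nilpotent_iff_lowerCentralSeries.1 (inferInstance : Group.IsNilpotent G)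
  have key : ∀ k, N ≤ R ⊔ (⊤ : Subgroup G).lowerCentralSeries k := by
    intro k
    induction k with
    | zero => exact le_top.trans le_sup_right
    | succ k ih =>
      refine h.trans (sup_le le_sup_left ?_)
      haveI : (R ⊔ (⊤ : Subgroup G).lowerCentralSeries (k + 1)).Normal := inferInstance
      refine commutator_le.2 fun a ha g hg => ?_
      obtain ⟨r, hr, c, hc, rfl⟩ := mem_sup_of_normal_left.1 (ih ha)
      rw [show ⁅r * c, g⁆ = r * ⁅c, g⁆ * r⁻¹ * ⁅r, g⁆ by simp only [commutatorElement_def]; group]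
      refine mul_mem (this.conj_mem _ (mem_sup_right ?_) r) (mem_sup_left ?_)
      · exact commutator_mem_commutator hc hg
      · rw [commutatorElement_def, mul_assoc r, mul_assoc r]
        exact mul_mem hr ((inferInstance : R.Normal).conj_mem _ (inv_mem hr) g)
  have := key n
  rwa [hn, sup_bot_eq] at this

/-- An elementary abelian section has order at most `p ^ k`. -/
theorem card_le_of_section {k : ℕ} (hr : Cfsg.SectionalPRankLE p k G) (K : Subgroup G) [K.Normal]
    (A : Subgroup (G ⧸ K)) (hcomm : ∀ a ∈ A, ∀ b ∈ A, a * b = b * a) (hexp : ∀ a ∈ A, a ^ p = 1) :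
    Nat.card A ≤ p ^ k := by
  set H : Subgroup G := A.comap (QuotientGroup.mk' K) with hH
  have hKH : K ≤ H := fun x hx => by
    rw [hH, mem_comap, show QuotientGroup.mk' K x = 1 from (QuotientGroup.eq_one_iff x).2 hx]
    exact one_mem A
  set π : H →* G ⧸ K := (QuotientGroup.mk' K).comp H.subtype with hπ
  have hker : π.ker = K.subgroupOf H := by
    ext x; simp [hπ, MonoidHom.mem_ker, mem_subgroupOf, QuotientGroup.eq_one_iff]
  have hrange : π.range = A := by
    refine le_antisymm ?_ fun a ha => ?_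
    · rintro _ ⟨x, rfl⟩; exact x.2
    · obtain ⟨x, rfl⟩ := QuotientGroup.mk'_surjective K a
      exact ⟨⟨x, ha⟩, rfl⟩
  let e : H ⧸ K.subgroupOf H ≃* A :=
    ((QuotientGroup.quotientMulEquivOfEq hker.symm).trans
      (QuotientGroup.quotientKerEquivRange π)).trans (MulEquiv.subgroupCongr hrange)
  have h := hr H (K.subgroupOf H) ⊤ ⟨⟨fun a b => Subtype.ext (e.injective (Subtype.ext (by
      rw [Subgroup.coe_mul, Subgroup.coe_mul, map_mul, map_mul, Subgroup.coe_mul, Subgroup.coe_mul]
      exact hcomm _ (e a.1).2 _ (e b.1).2)))⟩⟩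
    fun a _ => e.injective (by
      rw [map_pow, map_one]
      exact Subtype.ext (by rw [SubmonoidClass.coe_pow, hexp _ (e a).2]; rfl))
  rwa [card_top, Nat.card_congr e.toEquiv] at h

/-- No section of a group of sectional rank three contains four independent commuting elements
of order `p`. -/
theorem false_of_four (hG : IsPGroup p G) (hr : Cfsg.SectionalPRankLE p 3 G) (K : Subgroup G)
    [K.Normal] {a b c d : G ⧸ K} (ha : a ≠ 1) (hb : b ∉ zpowers a)
    (hc : c ∉ closure ({a, b} : Set (G ⧸ K))) (hd : d ∉ closure ({a, b, c} : Set (G ⧸ K)))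
    (hexp : ∀ y ∈ ({a, b, c, d} : Set (G ⧸ K)), y ^ p = 1)
    (hcomm : ∀ y ∈ ({a, b, c, d} : Set (G ⧸ K)), ∀ z ∈ ({a, b, c, d} : Set (G ⧸ K)), y * z = z * y) :
    False := by
  have hp := (Fact.out : p.Prime)
  have hQ : IsPGroup p (G ⧸ K) := hG.to_quotient K
  set S : Set (G ⧸ K) := {a, b, c, d} with hS
  haveI hcm := isMulCommutative_closure (k := S) hcomm
  have hle : Nat.card (closure S) ≤ p ^ 3 := by
    refine card_le_of_section hr K _ (fun y hy z hz =>
      congrArg Subtype.val (hcm.is_comm.comm (⟨y, hy⟩ : closure S) ⟨z, hz⟩)) fun y hy => ?_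
    induction hy using Subgroup.closure_induction with
    | mem x hx => exact hexp x hx
    | one => exact one_pow p
    | mul x z hx hz ex ez =>
      have hxz : Commute x z := congrArg Subtype.val (hcm.is_comm.comm (⟨x, hx⟩ : closure S) ⟨z, hz⟩)
      rw [hxz.mul_pow, ex, ez, one_mul]
    | inv x _ ex => rw [inv_pow, ex, inv_one]
  have h1 : Nat.card (zpowers a) = p := by
    rw [Nat.card_zpowers]; exact orderOf_eq_prime (hexp a (by simp [hS])) ha
  have step : ∀ {A B : Subgroup (G ⧸ K)} {y : G ⧸ K}, A ≤ B → y ∈ B → y ∉ A →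
      p * Nat.card A ≤ Nat.card B := fun {A B y} hAB hy hyA =>
    CfsgLib.MaxClassCube.mul_card_le hQ (lt_of_le_of_ne hAB fun e => hyA (e ▸ hy))
  have h2 : p * Nat.card (zpowers a) ≤ Nat.card (closure ({a, b} : Set (G ⧸ K))) :=
    step (zpowers_le.2 (subset_closure (by simp))) (subset_closure (by simp)) hb
  have h3 : p * Nat.card (closure ({a, b} : Set (G ⧸ K))) ≤
      Nat.card (closure ({a, b, c} : Set (G ⧸ K))) :=
    step (closure_mono (by intro; simp only [Set.mem_insert_iff, Set.mem_singleton_iff]; tauto))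
      (subset_closure (by simp)) hc
  have h4 : p * Nat.card (closure ({a, b, c} : Set (G ⧸ K))) ≤ Nat.card (closure S) :=
    step (closure_mono (by intro; simp only [hS, Set.mem_insert_iff, Set.mem_singleton_iff]; tauto))
      (subset_closure (by simp [hS])) hd
  have h5 : p * (p * (p * p)) ≤ p ^ 3 :=
    le_trans (le_trans (Nat.mul_le_mul_left p (le_trans (Nat.mul_le_mul_left p
      (le_of_eq_of_le (by rw [h1]) h2)) h3)) h4) hle
  have h6 : p ^ 3 < p ^ 4 := Nat.pow_lt_pow_right hp.one_lt (by norm_num)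
  rw [show p * (p * (p * p)) = p ^ 4 by ring] at h5
  omega

/-- In class at most three, commutators of exponent `p` make the `p`-th power multiplicative. -/
theorem mul_pow_class_three (hp5 : 5 ≤ p)
    (hcl : ⁅⁅commutator G, (⊤ : Subgroup G)⁆, (⊤ : Subgroup G)⁆ = ⊥)
    (hexp : ∀ y ∈ commutator G, y ^ p = 1) (x y : G) : (x * y) ^ p = x ^ p * y ^ p := by
  obtain ⟨c, u, v, hc, hu, hv, D⟩ := CfsgLib.PGroup.exists_classThreeData hcl x y
  have hle : ⁅commutator G, (⊤ : Subgroup G)⁆ ≤ commutator G := commutator_le_left _ _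
  exact D.mul_pow_prime Fact.out (by omega) (hexp c hc)
    (Or.inl ⟨by omega, hexp u (hle hu), hexp v (hle hv)⟩)

/-- The subgroup generated by the `p`-th powers and the term `γ_{k+1}` of the lower central series. -/
def kc (p : ℕ) (G : Type u) [Group G] (k : ℕ) : Subgroup G :=
  closure (Set.range fun y : G => y ^ p) ⊔ (⊤ : Subgroup G).lowerCentralSeries k

instance kc_characteristic (k : ℕ) : (kc p G k).Characteristic := by
  refine characteristic_iff_map_le.2 fun φ => ?_
  rw [kc, Subgroup.map_sup]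
  refine sup_le_sup ?_ (characteristic_iff_map_le.1 inferInstance φ)
  rw [MonoidHom.map_closure]
  refine closure_mono ?_
  rintro _ ⟨_, ⟨y, rfl⟩, rfl⟩
  exact ⟨φ y, (map_pow φ y p).symm⟩

theorem pow_mem_kc (k : ℕ) (y : G) : y ^ p ∈ kc p G k := mem_sup_left (subset_closure ⟨y, rfl⟩)

theorem lcs_le_kc (k : ℕ) : (⊤ : Subgroup G).lowerCentralSeries k ≤ kc p G k := le_sup_right

theorem kc_le {k : ℕ} {N : Subgroup G} (hpow : ∀ y : G, y ^ p ∈ N)
    (hlcs : (⊤ : Subgroup G).lowerCentralSeries k ≤ N) : kc p G k ≤ N :=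
  sup_le ((closure_le _).2 (by rintro _ ⟨y, rfl⟩; exact hpow y)) hlcs

end CfsgLib.Fusion.RankThree
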