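import Cfsg.Agent.Lib.Fusion.System.RankThree.Top

/-!
# The torus of a transvection automizer

If conjugation by an element outside `E` is a transvection of the Frattini quotient of `E`, the
automizer contains the torus of two such transvections, and it extends to `G`.
-/

set_option autoImplicit false
set_option linter.style.haveILetI false
set_option linter.unusedSectionVars false

open Subgroup
open scoped commutatorElement

namespace CfsgLib.Fusion.RankThree

open CfsgLib.MaxClassEss (frAct frAct_eq_one_iff isPGroup_of_frAct)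
open CfsgLib.Fusion.Transvection (dlt dlt_eq_one apply_eq IsTrv)

universe u

variable {G : Type u} [Group G] [Finite G] {p : ℕ} [Fact p.Prime]

/-- The Frattini quotient of a `p`-group, as a commutative group. -/
noncomputable abbrev frCommGroup {H : Type u} [Group H] [Finite H] (hH : IsPGroup p H) :
    CommGroup (H ⧸ frattini H) :=
  { (inferInstance : Group (H ⧸ frattini H)) with
    mul_comm := fun a b => by
      obtain ⟨a, rfl⟩ := QuotientGroup.mk_surjective a
      obtain ⟨b, rfl⟩ := QuotientGroup.mk_surjective b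
      rw [← QuotientGroup.mk_mul, ← QuotientGroup.mk_mul, QuotientGroup.eq,
        show (a * b)⁻¹ * (b * a) = ⁅b⁻¹, a⁻¹⁆ by simp only [commutatorElement_def]; group]
      exact CfsgLib.Coprime.commutator_le_frattini hH
        (commutator_mem_commutator (mem_top _) (mem_top _)) }

variable {E : Subgroup G} [E.Normal] {X : Subgroup (MulAut E)} {Γ : Subgroup (MulAut G)}

theorem coe_frn_eq (a b : E) : ((a : E ⧸ frattini E) = (b : E ⧸ frattini E)) ↔
    ((a : G))⁻¹ * (b : G) ∈ frn E := by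
  rw [QuotientGroup.eq, ← mem_frn, Subgroup.coe_mul, Subgroup.coe_inv]

variable (h : Top p E X Γ)
include h

/-- The Frattini quotient of `E` has order at most `p ^ 3`. -/
theorem Top.card_fr_le : Nat.card (E ⧸ frattini E) ≤ p ^ 3 := by
  letI := frCommGroup h.isPE
  let φ : E →* G ⧸ frn E := (QuotientGroup.mk' (frn E)).comp E.subtype
  have hk : φ.ker = frattini E := by
    ext x; simp [φ, MonoidHom.mem_ker, QuotientGroup.eq_one_iff, mem_frn]
  rw [← Nat.card_congr (QuotientGroup.quotientMulEquivOfEq hk).toEquiv,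
    Nat.card_congr (QuotientGroup.quotientKerEquivRange φ).toEquiv]
  refine card_le_of_section h.rank (frn E) _ ?_ ?_
  · rintro _ ⟨a, rfl⟩ _ ⟨b, rfl⟩
    rw [← map_mul, ← map_mul]
    refine QuotientGroup.eq.2 ?_
    rw [show (E.subtype (a * b))⁻¹ * E.subtype (b * a) = ((⁅b⁻¹, a⁻¹⁆ : E) : G) by
      simp only [commutatorElement_def, map_mul, mul_inv_rev]; simp [mul_assoc]]
    exact mem_frn.2 (CfsgLib.Coprime.commutator_le_frattini h.isPE
      (commutator_mem_commutator (mem_top _) (mem_top _)))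
  · rintro _ ⟨a, rfl⟩
    rw [← map_pow]
    exact (QuotientGroup.eq_one_iff _).2 (mem_frn.2 (CfsgLib.Coprime.pow_mem_frattini h.isPE a))

/-- An element acting with square zero acts on the Frattini quotient as a transvection. -/
theorem Top.isTrv_fr {x : G} (hx : x ∉ E) (hd : ∀ e ∈ E, ⁅x, ⁅x, e⁆⁆ ∈ frn E) :
    letI := frCommGroup h.isPE
    IsTrv p (frAct (MulAut.conjNormal (H := E) x)) := by
  letI := frCommGroup h.isPE
  haveI : Finite (MulAut E) := Finite.of_injective (fun a : MulAut E => (a : E → E)) DFunLike.coe_injective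
  haveI : Finite (MulAut (E ⧸ frattini E)) :=
    Finite.of_injective (fun a : MulAut (E ⧸ frattini E) => (a : E ⧸ frattini E → E ⧸ frattini E))
      DFunLike.coe_injective
  set cx := MulAut.conjNormal (H := E) x with hcx
  set u : MulAut (E ⧸ frattini E) := frAct cx with hu
  have hdlt : ∀ r : E, ∀ hm : ⁅x, (r : G)⁆ ∈ E, dlt u (r : (E ⧸ frattini E)) = ((⟨_, hm⟩ : E) : (E ⧸ frattini E)) := by
    intro r hm
    show (r : (E ⧸ frattini E))⁻¹ * ((cx r : E) : (E ⧸ frattini E)) = _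
    rw [mul_comm, ← QuotientGroup.mk_inv, ← QuotientGroup.mk_mul]
    refine congrArg _ (Subtype.ext ?_)
    show (cx r : G) * (r : G)⁻¹ = ⁅x, (r : G)⁆
    rw [hcx, MulAut.conjNormal_apply, commutatorElement_def]
  have hcm : ∀ r ∈ E, ⁅x, r⁆ ∈ E := fun r hr => by
    rw [commutatorElement_def]
    exact mul_mem ((inferInstance : E.Normal).conj_mem r hr x) (inv_mem hr)
  have hfix : ∀ r, dlt u (dlt u r) = 1 := by
    intro r
    obtain ⟨r, rfl⟩ := QuotientGroup.mk_surjective r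
    rw [hdlt r (hcm r r.2), hdlt _ (hcm _ (hcm r r.2)), QuotientGroup.eq_one_iff, ← mem_frn]
    exact hd r r.2
  have hu1 : u ≠ 1 := h.fr_ne_one hx
  have hMp : IsPGroup p (E ⧸ frattini E) := h.isPE.to_quotient _
  have hp := (Fact.out : p.Prime)
  have htrv : IsTrv p u := by
    refine ⟨?_, hfix⟩
    obtain ⟨k, hk⟩ := (hMp.to_subgroup (dlt u).range).exists_card_eq
    have hle : (dlt u).range ≤ (dlt u).ker := by rintro _ ⟨r, rfl⟩; exact hfix r
    have h1 := (dlt u).ker.card_mul_index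
    rw [Subgroup.index_ker] at h1
    have h2 := Subgroup.card_le_of_le hle
    have h3 : Nat.card (E ⧸ frattini E) ≤ p ^ 3 := h.card_fr_le
    rw [hk] at h1 h2
    have hk1 : k ≤ 1 := by
      by_contra hc
      have h4 : p ^ 4 ≤ p ^ 3 := calc
        p ^ 4 ≤ p ^ (k + k) := Nat.pow_le_pow_right hp.pos (by omega)
        _ = p ^ k * p ^ k := pow_add p k k
        _ ≤ Nat.card (dlt u).ker * p ^ k := Nat.mul_le_mul_right _ h2
        _ = Nat.card (E ⧸ frattini E) := h1
        _ ≤ p ^ 3 := h3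
      exact absurd ((Nat.pow_le_pow_iff_right hp.one_lt).1 h4) (by norm_num)
    rcases Nat.le_one_iff_eq_zero_or_eq_one.1 hk1 with rfl | rfl
    · exact absurd (MulEquiv.ext fun r => dlt_eq_one.1 (by
        have := Subgroup.eq_bot_of_card_eq _ (hk.trans (pow_zero p))
        exact mem_bot.1 (this ▸ (⟨r, rfl⟩ : dlt u r ∈ (dlt u).range)))) hu1
    · rw [hk, pow_one]
  exact htrv

/-- Some conjugate of the action of `x` is not a power of it. -/
theorem Top.exists_conj_fr {x : G} (hx : x ∉ E) :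
    ∃ g ∈ X.map frAct, g * frAct (MulAut.conjNormal (H := E) x) * g⁻¹ ∉
      zpowers (frAct (MulAut.conjNormal (H := E) x)) := by
  set cx := MulAut.conjNormal (H := E) x with hcx
  set u : MulAut (E ⧸ frattini E) := frAct cx with hu
  have hu1 : u ≠ 1 := h.fr_ne_one hx
  by_contra hall
  push Not at hall
  have hQp : IsPGroup p (MulAut.conjNormal (H := E)).range := by
    rw [MonoidHom.range_eq_map]
    exact (h.pgroup.to_subgroup ⊤).map _
  have hY : X ⊓ (zpowers u).comap frAct ≤ (MulAut.conjNormal (H := E)).range := by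
    rintro y ⟨hyX, hyu⟩
    obtain ⟨i, hi⟩ := mem_zpowers_iff.1 (show frAct y ∈ zpowers u from hyu)
    have h1 : (cx ^ i)⁻¹ * y ∈ (MulAut.conjNormal (H := E)).range := h.inn_le_range
      (h.ker_le_inn (mul_mem (inv_mem (zpow_mem (h.qle ⟨x, rfl⟩) i)) hyX)
        (by rw [map_mul, map_inv, map_zpow, ← hu, hi, inv_mul_cancel]))
    have h2 := mul_mem (zpow_mem (show cx ∈ (MulAut.conjNormal (H := E)).range from ⟨x, rfl⟩) i) h1
    rwa [mul_inv_cancel_left] at h2
  have h1 := h.core _ inf_le_left (fun α hα y hy => ⟨X.mul_mem (X.mul_mem hα hy.1) (X.inv_mem hα), by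
    obtain ⟨i, hi⟩ := mem_zpowers_iff.1 (show frAct y ∈ zpowers u from hy.2)
    show frAct (α * y * α⁻¹) ∈ zpowers u
    rw [map_mul, map_mul, map_inv, ← hi, ← conj_zpow]
    exact zpow_mem (hall _ (mem_map_of_mem _ hα)) i⟩) (hQp.to_le hY)
    (show cx ∈ X ⊓ (zpowers u).comap frAct from ⟨h.qle ⟨x, rfl⟩, mem_zpowers u⟩)
  exact hu1 (h.frAct_inn h1)

/-- If `x` acts as a transvection on the Frattini quotient, a torus of two transvections lifts to
`Γ` and has weight `b ^ 2` on `x`. -/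
theorem Top.exists_torus {x : G} (hx : x ∉ E) (hd : ∀ e ∈ E, ⁅x, ⁅x, e⁆⁆ ∈ frn E) {a b : ℤ}
    (hab : ((a * b : ℤ) : ZMod p) = 1) :
    ∃ β ∈ Γ, ∃ e ∈ E, ⁅x, e⁆ ∉ frn E ∧ (∀ r ∈ E, β r ∈ E) ∧
      (e ^ a)⁻¹ * β e ∈ frn E ∧ (⁅x, e⁆ ^ b)⁻¹ * β ⁅x, e⁆ ∈ frn E ∧
      (∀ r ∈ frn E, β r ∈ frn E) ∧ (x ^ (b * b))⁻¹ * β x ∈ E ∧
      ∀ r ∈ E, ∃ (i j : ℤ) (c : G), c ∈ E ∧ ⁅x, c⁆ ∈ frn E ∧ c⁻¹ * β c ∈ frn E ∧
        r⁻¹ * (⁅x, e⁆ ^ i * e ^ j * c) ∈ frn E := by
  letI := frCommGroup h.isPE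
  haveI : Finite (MulAut E) := Finite.of_injective (fun a : MulAut E => (a : E → E)) DFunLike.coe_injective
  haveI : Finite (MulAut (E ⧸ frattini E)) :=
    Finite.of_injective (fun a : MulAut (E ⧸ frattini E) => (a : E ⧸ frattini E → E ⧸ frattini E))
      DFunLike.coe_injective
  set cx := MulAut.conjNormal (H := E) x with hcx
  set u : MulAut (E ⧸ frattini E) := frAct cx with hu
  have hdlt : ∀ r : E, ∀ hm : ⁅x, (r : G)⁆ ∈ E, dlt u (r : (E ⧸ frattini E)) = ((⟨_, hm⟩ : E) : (E ⧸ frattini E)) := by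
    intro r hm
    show (r : (E ⧸ frattini E))⁻¹ * ((cx r : E) : (E ⧸ frattini E)) = _
    rw [mul_comm, ← QuotientGroup.mk_inv, ← QuotientGroup.mk_mul]
    refine congrArg _ (Subtype.ext ?_)
    show (cx r : G) * (r : G)⁻¹ = ⁅x, (r : G)⁆
    rw [hcx, MulAut.conjNormal_apply, commutatorElement_def]
  have hcm : ∀ r ∈ E, ⁅x, r⁆ ∈ E := fun r hr => by
    rw [commutatorElement_def]
    exact mul_mem ((inferInstance : E.Normal).conj_mem r hr x) (inv_mem hr)
  have hMp : IsPGroup p (E ⧸ frattini E) := h.isPE.to_quotient _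
  have htrv : IsTrv p u := h.isTrv_fr hx hd
  have huX : u ∈ X.map frAct := mem_map_of_mem _ (h.qle ⟨x, rfl⟩)
  obtain ⟨g, hg, hne⟩ := h.exists_conj_fr hx
  obtain ⟨T, hT, τ, τ', hτ1, -, -, h1, h2, hTτ, hTτ', hTu, -, hTc, hdec⟩ :=
    CubeAutomizer.exists_torus_plane hMp (fun H hH hp' => h.card_pgroup_le hH hp') htrv huX hg hne hab
  obtain ⟨α, hαX, rfl⟩ := hT
  have hαn : α ∈ normalizer ((MulAut.conjNormal (H := E)).range : Set (MulAut E)) := by
    refine CfsgLib.Fusion.conjBy_eq_iff.1 (eq_of_le_of_card_ge (CfsgLib.Fusion.conjBy_le_iff.2 ?_)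
      (CfsgLib.Fusion.card_conjBy α _).ge)
    intro q hq
    obtain ⟨i, hi⟩ := mem_zpowers_iff.1 ((h.map_range hx).le (mem_map_of_mem frAct hq))
    have hc : α * q * α⁻¹ ∈ X := X.mul_mem (X.mul_mem hαX (h.qle hq)) (X.inv_mem hαX)
    have h1 : (cx ^ (b * b * i))⁻¹ * (α * q * α⁻¹) ∈ (MulAut.conjNormal (H := E)).range := h.inn_le_range
      (h.ker_le_inn (mul_mem (inv_mem (zpow_mem (h.qle ⟨x, rfl⟩) _)) hc) (by
        rw [map_mul, map_inv, map_zpow, map_mul, map_mul, map_inv, ← hi, ← conj_zpow, ← hu, hTu,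
          ← zpow_mul, inv_mul_cancel]))
    have h2 := mul_mem (zpow_mem (show cx ∈ (MulAut.conjNormal (H := E)).range from ⟨x, rfl⟩) (b * b * i)) h1
    rwa [mul_inv_cancel_left] at h2
  obtain ⟨β, hβ, hβα⟩ := h.ext α hαX hαn
  obtain ⟨e, rfl⟩ := QuotientGroup.mk_surjective τ'
  rw [hdlt e (hcm e e.2)] at h1
  set w : E := ⟨⁅x, (e : G)⁆, hcm e e.2⟩ with hw
  subst h1
  have hmk : ∀ r : E, (frAct α) (r : (E ⧸ frattini E)) = ((α r : E) : (E ⧸ frattini E)) := fun r => rfl
  have hcoe : ∀ r : E, β (r : G) = (α r : G) := hβα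
  refine ⟨β, hβ, e, e.2, fun hm => hτ1 ((QuotientGroup.eq_one_iff _).2 ((mem_frn (e := w)).1 hm)),
    fun r hr => (hcoe ⟨r, hr⟩).symm ▸ (α ⟨r, hr⟩).2, ?_, ?_, ?_, ?_, ?_⟩
  · rw [hmk, ← QuotientGroup.mk_zpow] at hTτ'
    have := (coe_frn_eq _ _).1 hTτ'.symm
    rwa [Subgroup.coe_zpow, ← hcoe] at this
  · rw [hmk, ← QuotientGroup.mk_zpow] at hTτ
    have := (coe_frn_eq _ _).1 hTτ.symm
    rwa [Subgroup.coe_zpow, ← hcoe] at this
  · intro r hr
    rw [hcoe ⟨r, frn_le E hr⟩, mem_frn, CfsgLib.MaxClassEss.mem_frattini_iff_apply, ← mem_frn]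
    exact hr
  · set z := (x ^ (b * b))⁻¹ * β x with hz
    by_contra hzE
    refine h.fr_ne_one hzE ?_
    have e1 : MulAut.conjNormal (H := E) (β x) = α * cx * α⁻¹ := by
      refine MulEquiv.ext fun r => Subtype.ext ?_
      have h1 : β ((α⁻¹ r : E) : G) = (r : G) := by rw [hcoe, MulAut.apply_inv_self]
      rw [MulAut.conjNormal_apply, MulAut.mul_apply, MulAut.mul_apply, ← hcoe, hcx,
        MulAut.conjNormal_apply, map_mul, map_mul, map_inv, h1]
    rw [hz, map_mul, map_inv, map_zpow, e1, map_mul, map_inv, map_zpow, map_mul, map_mul, map_inv,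
      ← hu, hTu, inv_mul_cancel]
  · intro r hr
    obtain ⟨i, j, c, hc1, hc2, hrc⟩ := hdec ((⟨r, hr⟩ : E) : (E ⧸ frattini E))
    obtain ⟨c, rfl⟩ := QuotientGroup.mk_surjective c
    refine ⟨i, j, c, c.2, ?_, ?_, ?_⟩
    · rw [hdlt c (hcm c c.2), QuotientGroup.eq_one_iff] at hc1
      exact mem_frn.2 hc1
    · have := hTc _ (by rw [hdlt c (hcm c c.2)] at hc1 ⊢; exact hc1) hc2
      rw [hmk] at this
      have := (coe_frn_eq _ _).1 this.symm
      rwa [← hcoe] at this
    · rw [← QuotientGroup.mk_zpow, ← QuotientGroup.mk_zpow, ← QuotientGroup.mk_mul,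
        ← QuotientGroup.mk_mul] at hrc
      have := (coe_frn_eq _ _).1 hrc
      simpa only [Subgroup.coe_mul, Subgroup.coe_zpow] using this

end CfsgLib.Fusion.RankThree
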